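import Groth.Agent.AlgSt.K737.Pts
import Groth.Agent.AlgSt.K735.Rep
import Groth.Agent.AlgSp.K609.Points

/-!
# K737.LocLift: atlases of categories over `(Sch/S)` at the level of schemes

If `v : (Sch/V) ⥤ᵇ 𝒳` is representable by algebraic spaces, `LocP P` and surjective, then for every
`y : (Sch/U) ⥤ᵇ 𝒳` there are a scheme `W`, a surjective `a : W ⟶ U` with property `P` and `b : W ⟶ V` with
`y a ≅ v b` over the identity of `W`.
-/

set_option backward.isDefEq.respectTransparency false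
set_option backward.isDefEq.respectTransparency.types false

universe w v u

open CategoryTheory CategoryTheory.Limits AlgebraicGeometry Opposite

namespace K737.LocLift

open K737.SubRep K737.Pts K735.Fib K735.Fp K735.Rep

variable {S : Scheme.{u}} {𝒳 : BasedCategory.{v, w} (Over S)}

section Sections

variable {U V : Over S} (y : FibCat.overCat U ⥤ᵇ 𝒳) (v : FibCat.overCat V ⥤ᵇ 𝒳) {F : AlgSp.Sp S}
  (e : AlgSt.ofSp F ⥤ᵇ FibCat.fp y v)

/-- first projection of a space mapping to the fibre product of two schemes over `𝒳`. -/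
def q1 : F ⟶ (AlgSp.yon S).obj U := AlgSt.spMapOfOver (BasedFunctor.comp e (FibCat.fpFst y v))

/-- second projection. -/
def q2 : F ⟶ (AlgSp.yon S).obj V := AlgSt.spMapOfOver (BasedFunctor.comp e (FibCat.fpSnd y v))

theorem exists_iso_of_section {T : Over S} (s : F.obj.obj (op T)) :
    ∃ ε : y.obj (Over.mk ((q1 y v e).hom.app (op T) s).down) ≅ v.obj (Over.mk ((q2 y v e).hom.app (op T) s).down),
      Vert 𝒳.p ε.hom := by
  let ξ : (AlgSt.ofSp F).obj := ⟨T, s⟩
  let Φ := BasedFunctor.comp e (FibCat.fpFst y v)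
  let Ψ := BasedFunctor.comp e (FibCat.fpSnd y v)
  let i1 : Φ.obj ξ ≅ Over.mk ((q1 y v e).hom.app (op T) s).down :=
    Over.isoMk (eqToIso (Φ.w_obj ξ)) (obj_hom_eq Φ ξ).symm
  let i2 : Ψ.obj ξ ≅ Over.mk ((q2 y v e).hom.app (op T) s).down :=
    Over.isoMk (eqToIso (Ψ.w_obj ξ)) (obj_hom_eq Ψ ξ).symm
  have v1 : Vert (FibCat.overCat U).p i1.hom := vert_of_map_eq (Φ.w_obj ξ) rfl
  have v2 : Vert (FibCat.overCat V).p i2.hom := vert_of_map_eq (Ψ.w_obj ξ) rfl
  refine ⟨(y.toFunctor.mapIso i1).symm ≪≫ (e.obj ξ).obj.iso ≪≫ v.toFunctor.mapIso i2, ?_⟩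
  have w1 : Vert 𝒳.p (y.map i1.hom) := Vert.map y v1
  have w2 : Vert 𝒳.p (v.map i2.hom) := Vert.map v v2
  have w3 : Vert 𝒳.p (e.obj ξ).obj.iso.hom := fp_vert (e.obj ξ)
  exact Vert.comp (Vert.iso_inv (φ := y.toFunctor.mapIso i1) w1) (Vert.comp w3 w2)

theorem exists_section_of_iso (he : FibCat.IsEquivOver e) {T : Over S} (a : T ⟶ U) (b : T ⟶ V)
    (ε : y.obj (Over.mk a) ≅ v.obj (Over.mk b)) (hε : Vert 𝒳.p ε.hom) :
    ∃ s : F.obj.obj (op T), ((q1 y v e).hom.app (op T) s).down = a ∧ ((q2 y v e).hom.app (op T) s).down = b := by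
  let η : (FibCat.fp y v).obj := mkFp y v (Over.mk a) (Over.mk b) ε hε
  obtain ⟨⟨T', s⟩, ι, hι⟩ := IsEquivOver.essSurj he η
  let ξ : (AlgSt.ofSp F).obj := ⟨T', s⟩
  have hT : T' = T := (e.w_obj ξ).symm.trans hι.eq.symm
  subst hT
  refine ⟨s, ?_, ?_⟩
  · let Φ := BasedFunctor.comp e (FibCat.fpFst y v)
    have h1 : ι.hom.hom.fst.left ≫ a = (Φ.obj ξ).hom := Over.w ι.hom.hom.fst
    have h2 : ι.hom.hom.fst.left = eqToHom (Φ.w_obj ξ) := hι.map_eq
    rw [obj_hom_eq Φ ξ, h2] at h1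
    have := (cancel_epi (eqToHom (Φ.w_obj ξ))).1 h1
    exact this.symm
  · let Ψ := BasedFunctor.comp e (FibCat.fpSnd y v)
    have h1 : ι.hom.hom.snd.left ≫ b = (Ψ.obj ξ).hom := Over.w ι.hom.hom.snd
    have h2 : ι.hom.hom.snd.left = eqToHom (Ψ.w_obj ξ) := ((vert_fp_iff_snd ι.hom).1 hι).map_eq
    rw [obj_hom_eq Ψ ξ, h2] at h1
    have := (cancel_epi (eqToHom (Ψ.w_obj ξ))).1 h1
    exact this.symm

end Sections

instance isSurjectiveMor_respectsIso : (AlgSp.IsSurjectiveMor (S := S)).RespectsIso := by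
  refine MorphismProperty.RespectsIso.mk _ ?_ ?_
  · intro X Y Z e f hf
    have hf : Function.Surjective (AlgSp.Points.map f) := hf
    change Function.Surjective (AlgSp.Points.map (e.hom ≫ f))
    intro z
    obtain ⟨y, rfl⟩ := hf z
    exact ⟨AlgSp.Points.map e.inv y, by
      rw [AlgSp.Points.map_comp, ← AlgSp.Points.map_comp e.inv e.hom, e.inv_hom_id, AlgSp.Points.map_id]⟩
  · intro X Y Z e f hf
    have hf : Function.Surjective (AlgSp.Points.map f) := hf
    change Function.Surjective (AlgSp.Points.map (f ≫ e.hom))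
    intro z
    obtain ⟨y, hy⟩ := hf (AlgSp.Points.map e.inv z)
    exact ⟨y, by rw [AlgSp.Points.map_comp, hy, ← AlgSp.Points.map_comp e.inv e.hom, e.inv_hom_id,
      AlgSp.Points.map_id]⟩

/-- An algebraic space with a `LocP P` surjective map to a scheme `U` has an etale chart `W` with `W ⟶ U`
surjective with property `P`. -/
theorem exists_chart {P : MorphismProperty Scheme.{u}} {F : AlgSp.Sp S} (hF : AlgSp.IsAlgSpace F) {U : Over S}
    (q : F ⟶ (AlgSp.yon S).obj U) (hq : AlgSp.LocP P q) :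
    ∃ (W : Over S) (p : (AlgSp.yon S).obj W ⟶ F) (a : W ⟶ U), AlgSp.RepWith @Etale p ∧ AlgSp.RepWith @Surjective p ∧
      p ≫ q = (AlgSp.yon S).map a ∧ P a.left := by
  obtain ⟨W, p, hp, hp'⟩ := hF.atlas
  obtain ⟨a, ha⟩ := (AlgSp.yon S).map_surjective (p ≫ q)
  exact ⟨W, p, a, hp, hp', ha.symm, hq p (𝟙 _) a hp (AlgSp.repWith_id _ U) (by rw [ha, Category.comp_id])⟩

theorem surjective_left {F : AlgSp.Sp S} {U W : Over S}
    {q : F ⟶ (AlgSp.yon S).obj U} (hq : AlgSp.IsSurjectiveMor q) {p : (AlgSp.yon S).obj W ⟶ F}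
    (hp : AlgSp.RepWith @Surjective p) {a : W ⟶ U} (ha : p ≫ q = (AlgSp.yon S).map a) : Surjective a.left := by
  refine ⟨?_⟩
  have h1 : Function.Surjective (AlgSp.Points.map ((AlgSp.yon S).map a)) := by
    rw [← ha]
    intro z
    obtain ⟨t, rfl⟩ := hq z
    obtain ⟨r, rfl⟩ := K609.Points.surjective_map_of_repWith_surjective hp t
    exact ⟨r, AlgSp.Points.map_comp _ _ _⟩
  exact (K609.Points.surjective_map_yon_map_iff a).1 h1

/-- the fibre product of two schemes over `𝒳` when one of them is representable with property `P`. -/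
theorem exists_lift {P : MorphismProperty Scheme.{u}} {U V : Over S} (y : FibCat.overCat U ⥤ᵇ 𝒳)
    (v : FibCat.overCat V ⥤ᵇ 𝒳) (hv : AlgSt.RepByAlgSpWith (AlgSp.LocP P) v)
    (hv' : AlgSt.RepByAlgSpWith AlgSp.IsSurjectiveMor v) :
    ∃ (W : Over S) (a : W ⟶ U) (b : W ⟶ V), P a.left ∧ Surjective a.left ∧
      ∃ ε : y.obj (Over.mk a) ≅ v.obj (Over.mk b), Vert 𝒳.p ε.hom := by
  obtain ⟨F, e, he, hP⟩ := hv U y
  have hsurj : AlgSp.IsSurjectiveMor (q1 y v e) := (RepOver.of_rep (hv' U y) e he).2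
  obtain ⟨W, p, a, hp, hp', ha, haP⟩ := exists_chart F.property (q1 y v e) hP
  have hs : Surjective a.left := surjective_left hsurj hp' ha
  have hex := exists_iso_of_section y v e (T := W) (p.hom.app (op W) ⟨𝟙 W⟩)
  have h1 : ((q1 y v e).hom.app (op W) (p.hom.app (op W) ⟨𝟙 W⟩)).down = a := by
    have := congrArg (fun (m : (AlgSp.yon S).obj W ⟶ (AlgSp.yon S).obj U) => (m.hom.app (op W) ⟨𝟙 W⟩).down) ha
    exact this.trans (Category.id_comp a)
  rw [h1] at hex
  exact ⟨W, a, _, haP, hs, hex⟩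

end K737.LocLift
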