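import Groth.Prelude.Def_AlgSt3
import Groth.Agent.AlgSt.K742.RepComp
import Groth.Agent.AlgSp.K594.Basic

/-!
# K737.RepW: `RepByAlgSpWith (RepWith P)`: composition, monomorphisms
-/

set_option backward.isDefEq.respectTransparency false
set_option backward.isDefEq.respectTransparency.types false

universe w₃ v₃ w₂ v₂ w v u

open CategoryTheory CategoryTheory.Limits AlgebraicGeometry Opposite

namespace K737.RepW

variable {S : Scheme.{u}} {𝒳 : BasedCategory.{v, w} (Over S)} {𝒴 : BasedCategory.{v₂, w₂} (Over S)}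
  {𝒵 : BasedCategory.{v₃, w₃} (Over S)}

theorem exists_yon_iso {P : MorphismProperty Scheme.{u}} {F : AlgSp.Sp S} {U : Over S}
    (a : F ⟶ (AlgSp.yon S).obj U) (h : AlgSp.RepWith P a) : ∃ W : Over S, Nonempty ((AlgSp.yon S).obj W ≅ F) := by
  obtain ⟨Z, i, fst, sq⟩ := h.1 (𝟙 ((AlgSp.yon S).obj U))
  have hfst : IsIso fst :=
    (MorphismProperty.isomorphisms _).of_isPullback sq.flip (inferInstanceAs (IsIso (𝟙 _)))
  exact ⟨Z, ⟨asIso fst⟩⟩

/-- Composition of functors which are representable by schemes with property `P`. -/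
theorem comp (P : MorphismProperty Scheme.{u}) [P.IsStableUnderBaseChange] [P.IsMultiplicative]
    (f : 𝒳 ⥤ᵇ 𝒴) (g : 𝒴 ⥤ᵇ 𝒵) (hf : AlgSt.RepByAlgSpWith (AlgSp.RepWith P) f)
    (hg : AlgSt.RepByAlgSpWith (AlgSp.RepWith P) g) :
    AlgSt.RepByAlgSpWith (AlgSp.RepWith P) (BasedFunctor.comp f g) := by
  have : (AlgSp.RepWith (S := S) P).RespectsIso := MorphismProperty.IsStableUnderBaseChange.respectsIso
  exact K742.RepComp.repByAlgSpWith_comp (P := AlgSp.RepWith P) (Q := AlgSp.RepWith P) (R := AlgSp.RepWith P)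
    (fun _ _ a _ ha => exists_yon_iso a ha) (fun _ _ _ a b ha hb => (AlgSp.RepWith P).comp_mem a b ha hb) f g hf hg

theorem isMono_of_repWith {P : MorphismProperty Scheme.{u}}
    (hP : ∀ {X Y : Scheme.{u}} (f : X ⟶ Y), P f → Mono f) (f : 𝒳 ⥤ᵇ 𝒴)
    (hf : AlgSt.RepByAlgSpWith (AlgSp.RepWith P) f) : AlgSt.IsMono f := by
  intro U y
  obtain ⟨F, e, he, h⟩ := hf U y
  exact ⟨F, e, he, K594.Basic.mono_of_repWith hP h⟩

end K737.RepW
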