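import Groth.Agent.AlgSt.K737.OpenSt
import Groth.Agent.AlgSt.K734.RepSp2
import Groth.Agent.AlgSt.K735.Top
import Groth.Agent.AlgSp.K627.FpqcLocPInst
import Groth.Agent.S10505

/-!
# K737.Atlas: charts of stacks

* `stableBC_locP`, `stableComp_locP`, `local_smooth`: the hypotheses of `K734.Rep` for `LocP P`;
* `rep_overMap`: `(Sch/U) ⟶ (Sch/V)` has `LocP P` when `U ⟶ V` has `P`;
* `smooth_comp`: composites of smooth representable 1-morphisms;
* `exists_affine_atlas`, `isQuasiCompact_iff`: quasi-compactness and points.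
-/

set_option backward.isDefEq.respectTransparency false
set_option backward.isDefEq.respectTransparency.types false

universe w₃ v₃ w₂ v₂ w v u

open CategoryTheory CategoryTheory.Limits AlgebraicGeometry Opposite

namespace K737.Atlas

open K737.SubRep K737.Pts K737.LocLift K737.Chart K737.Open K735.Fib K735.Fp K735.Rep K735.Top

variable {S : Scheme.{u}}

section Props

theorem stableBC_locP {P : MorphismProperty Scheme.{u}} (hP : K597.EtLoc P) [P.IsStableUnderBaseChange] :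
    K734.Rep.StableBC (S := S) (AlgSp.LocP P) :=
  fun _ _ _ _ h₁ h₂ _ h₄ _ _ _ _ sq h => K597.locP_bc hP sq h₁.hasAtlas h₂.hasAtlas h₄.hasAtlas h

theorem stableComp_locP {P : MorphismProperty Scheme.{u}} (hP : K597.EtLoc P) [P.IsStableUnderComposition] :
    K734.Rep.StableComp (S := S) (AlgSp.LocP P) :=
  fun _ _ _ hX hY hZ _ _ ha hb => K597.locP_comp hP hX.hasAtlas hY.hasAtlas hZ.hasAtlas ha hb

theorem isLocalOnBase_fppf_of_fpqc {P : MorphismProperty (AlgSp.Sp S)}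
    (h : AlgSp.IsLocalOnBase (AlgSp.IsFpqcCover (S := S)) P) : AlgSp.IsLocalOnBase AlgSp.IsFppfCover P := by
  intro ι Y Yi g hY hYi hg
  exact h Yi g hY hYi (Groth.Agent.S10505.result ⟨Y, hY⟩ (fun i => ⟨Yi i, hYi i⟩)
    (fun i => ObjectProperty.homMk (g i)) hg)

theorem local_smooth : AlgSp.IsLocalOnBase AlgSp.IsFppfCover (AlgSp.LocP (S := S) @Smooth) :=
  isLocalOnBase_fppf_of_fpqc (K627.FpqcLocPInst.smooth S)

end Props

section Over

theorem rep_overMap' {P : MorphismProperty Scheme.{u}} [P.IsStableUnderBaseChange] {Q : MorphismProperty (AlgSp.Sp S)}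
    [Q.RespectsIso] (hPQ : ∀ ⦃A B : AlgSp.Sp S⦄ (f : A ⟶ B), AlgSp.RepWith P f → Q f) {U V : Over S} (h : U ⟶ V)
    (hh : P h.left) : AlgSt.RepByAlgSpWith Q (AlgSt.overMap h) := by
  have h1 : AlgSt.RepByAlgSpWith Q (AlgSt.ofSpMap ((AlgSp.yon S).map h)) :=
    repByAlgSpWith_ofSpMap_of_repWith hPQ ((AlgSp.repWith_yon_map_iff P h).2 hh)
  exact repByAlgSpWith_of_sq Q (AlgSt.ofSpMap ((AlgSp.yon S).map h)) (AlgSt.overMap h) (AlgSt.ofOverCat U)
    (AlgSt.ofOverCat V) (isEquivOver_ofOverCat U) (isEquivOver_ofOverCat V) (Iso.refl _) h1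

theorem rep_overMap {P : MorphismProperty Scheme.{u}} [P.IsStableUnderBaseChange]
    (hpre : ∀ ⦃A B C : Scheme.{u}⦄ (e : A ⟶ B) (f : B ⟶ C), Etale e → P f → P (e ≫ f))
    {U V : Over S} (h : U ⟶ V) (hh : P h.left) : AlgSt.RepByAlgSpWith (AlgSp.LocP P) (AlgSt.overMap h) := by
  have := locP_respectsIso (S := S) P
  exact rep_overMap' (P := P) (fun _ _ _ h => K597.locP_of_repWith hpre h) h hh

theorem rep_overMap_smooth {U V : Over S} (h : U ⟶ V) [Smooth h.left] :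
    AlgSt.RepByAlgSpWith (AlgSp.LocP @Smooth) (AlgSt.overMap h) :=
  rep_overMap (P := @Smooth) K597.etLoc_smooth.precomp h ‹_›

end Over

section Comp

variable {𝒱 𝒳 : AlgSt.Cat S} {𝒵 : BasedCategory.{v₃, w₃} (Over S)}

theorem smooth_comp (h𝒱 : FibCat.IsFibGrpd 𝒱.p) (h𝒳 : FibCat.IsFibGrpd 𝒳.p) {f : 𝒱 ⥤ᵇ 𝒳} {g : 𝒳 ⥤ᵇ 𝒵}
    (hf : AlgSt.RepByAlgSpWith (AlgSp.LocP @Smooth) f) (hg : AlgSt.RepByAlgSpWith (AlgSp.LocP @Smooth) g) :
    AlgSt.RepByAlgSpWith (AlgSp.LocP @Smooth) (BasedFunctor.comp f g) :=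
  K734.Rep.repByAlgSpWith_comp h𝒱 h𝒳 (stableBC_locP K597.etLoc_smooth) (stableComp_locP K597.etLoc_smooth)
    local_smooth hf hg

theorem smooth_overMap_comp {U V : Over S} (h : U ⟶ V) [Smooth h.left] {x : FibCat.overCat V ⥤ᵇ 𝒵}
    (hx : AlgSt.RepByAlgSpWith (AlgSp.LocP @Smooth) x) :
    AlgSt.RepByAlgSpWith (AlgSp.LocP @Smooth) (BasedFunctor.comp (AlgSt.overMap h) x) :=
  smooth_comp (isFibGrpd_overCat U) (isFibGrpd_overCat V) (rep_overMap_smooth h) hx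

end Comp

section Surj

variable {𝒳 : BasedCategory.{v, w} (Over S)}

theorem surjective_iff (h𝒳 : FibCat.IsFibGrpd 𝒳.p) {P : MorphismProperty (AlgSp.Sp S)} {U : Over S}
    {x : FibCat.overCat U ⥤ᵇ 𝒳} (hx : AlgSt.RepByAlgSpWith P x) :
    AlgSt.RepByAlgSpWith AlgSp.IsSurjectiveMor x ↔ Function.Surjective (AlgSt.Points.ofChart x) := by
  rw [← repByAlgSpWith_surjective_iff h𝒳 (isFibGrpd_overCat U) (repByAlgSp1_of_with hx)]
  exact K735.PtsSp.surjective_map_iff_surjective_ofChart x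

theorem isOpenMap_ofChart_of_smooth (h𝒳 : FibCat.IsFibGrpd 𝒳.p) {U : Over S}
    {x : FibCat.overCat U ⥤ᵇ 𝒳} (hx : AlgSt.RepByAlgSpWith (AlgSp.LocP @Smooth) x) :
    IsOpenMap (AlgSt.Points.ofChart x) :=
  isOpenMap_ofChart x (isOpenMap_map isOpenMap_of_smooth h𝒳 (isFibGrpd_overCat U) (chartCont_overCat U) hx)

/-- A stack with a smooth atlas and quasi-compact space of points has an affine smooth atlas. -/
theorem isQuasiCompact_of_compactSpace (h𝒳 : FibCat.IsFibGrpd 𝒳.p) (hat : AlgSt.HasAtlas (AlgSp.LocP @Smooth) 𝒳)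
    [CompactSpace (AlgSt.Points 𝒳)] : AlgSt.IsQuasiCompact 𝒳 := by
  obtain ⟨V, v, hv, hv'⟩ := hat
  have hop := isOpenMap_ofChart_of_smooth h𝒳 hv
  have hsur := (surjective_iff h𝒳 hv).1 hv'
  -- affine opens of `V`
  obtain ⟨t, ht⟩ := isCompact_univ.elim_finite_subcover
    (fun O : V.left.affineOpens => AlgSt.Points.ofChart v '' (O.1 : Set V.left))
    (fun O => hop _ O.1.isOpen) (by
      intro z _
      obtain ⟨s, rfl⟩ := hsur z
      obtain ⟨O, hO, hs, -⟩ := (Scheme.isBasis_affineOpens V.left).exists_subset_of_mem_open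
        (Set.mem_univ s) isOpen_univ
      obtain ⟨O', h3, rfl⟩ := hO
      exact Set.mem_iUnion.2 ⟨⟨O', h3⟩, s, hs, rfl⟩)
  let X : t → Scheme.{u} := fun O => (O.1.1 : Scheme.{u})
  have hX : ∀ i, IsAffine (X i) := fun O => O.1.2
  let g : (∐ X) ⟶ V.left := Sigma.desc (fun O => O.1.1.ι)
  have hg : Smooth g := IsZariskiLocalAtSource.sigmaDesc (P := @Smooth) (fun O => inferInstanceAs (Smooth O.1.1.ι))
  let U : Over S := Over.mk (g ≫ V.hom)
  let k : U ⟶ V := Over.homMk g rfl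
  have hk : Smooth k.left := hg
  refine ⟨U, BasedFunctor.comp (AlgSt.overMap k) v, inferInstanceAs (IsAffine (∐ X)), smooth_overMap_comp k hv, ?_⟩
  rw [surjective_iff h𝒳 (smooth_overMap_comp k hv)]
  intro z
  obtain ⟨O, hO⟩ := Set.mem_iUnion.1 (ht (Set.mem_univ z))
  obtain ⟨hOt, s, hs, rfl⟩ := Set.mem_iUnion.1 hO
  refine ⟨Sigma.ι X ⟨O, hOt⟩ ⟨s, hs⟩, ?_⟩
  have h1 : k.left (Sigma.ι X ⟨O, hOt⟩ ⟨s, hs⟩) = s := by
    have h2 : Sigma.ι X ⟨O, hOt⟩ ≫ g = O.1.ι := Sigma.ι_desc _ _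
    have h3 := congrArg (fun m => m.base ⟨s, hs⟩) h2
    exact h3
  have h4 := K735.PtsSp.ofChart_overMap k v (Sigma.ι X ⟨O, hOt⟩ ⟨s, hs⟩)
  exact h4.trans (congrArg (AlgSt.Points.ofChart v) h1)

theorem compactSpace_of_chart (h𝒳 : ChartCont 𝒳) {U : Over S} [CompactSpace U.left] (x : FibCat.overCat U ⥤ᵇ 𝒳)
    (hx : Function.Surjective (AlgSt.Points.ofChart x)) : CompactSpace (AlgSt.Points 𝒳) := by
  refine ⟨?_⟩
  rw [← hx.range_eq]
  exact isCompact_range (h𝒳 U x)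

theorem isQuasiCompact_iff (h𝒳 : FibCat.IsFibGrpd 𝒳.p) (hat : AlgSt.HasAtlas (AlgSp.LocP @Smooth) 𝒳) :
    AlgSt.IsQuasiCompact 𝒳 ↔ CompactSpace (AlgSt.Points 𝒳) := by
  refine ⟨?_, fun h => isQuasiCompact_of_compactSpace h𝒳 hat⟩
  rintro ⟨U, x, hU, hx, hx'⟩
  have : CompactSpace U.left := inferInstance
  have hc : ChartCont 𝒳 := fun T y => K737.Chart.continuous_ofChart h𝒳 hat y
  exact compactSpace_of_chart hc x ((surjective_iff h𝒳 hx).1 hx')

end Surj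

end K737.Atlas
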