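import Groth.Agent.AlgSt.K737.Chart

/-!
# K737.Open: open substacks and open subsets of the space of points
-/

set_option backward.isDefEq.respectTransparency false
set_option backward.isDefEq.respectTransparency.types false

universe w v u

open CategoryTheory CategoryTheory.Limits AlgebraicGeometry Opposite

namespace K737.Open

open K737.SubRep K737.Pts K737.LocLift K737.Chart K735.Fib K735.Fp K735.Rep

variable {S : Scheme.{u}} {𝒳 : BasedCategory.{v, w} (Over S)}

theorem openImm_le_mono : (@IsOpenImmersion : MorphismProperty Scheme.{u}) ≤ MorphismProperty.monomorphisms Scheme.{u} :=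
  fun _ _ f hf => by
    have : IsOpenImmersion f := hf
    exact (inferInstance : Mono f)

theorem closedImm_le_mono : (@IsClosedImmersion : MorphismProperty Scheme.{u}) ≤ MorphismProperty.monomorphisms Scheme.{u} :=
  fun _ _ f hf => by
    have : IsClosedImmersion f := hf
    exact (inferInstance : Mono f)

theorem imm_le_mono : (@IsImmersion : MorphismProperty Scheme.{u}) ≤ MorphismProperty.monomorphisms Scheme.{u} :=
  fun _ _ f hf => by
    have : IsImmersion f := hf
    exact (inferInstance : Mono f)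

/-- The predicate on objects cut out by a set of points: all field-valued points of `x` lie in `T`. -/
def predOf (T : Set (AlgSt.Points 𝒳)) (x : 𝒳.obj) : Prop :=
  ∀ (p : AlgSt.FPt 𝒳) (_ : p.obj ⟶ x), AlgSt.Points.mk p ∈ T

theorem predOf_of_hom {T : Set (AlgSt.Points 𝒳)} {x z : 𝒳.obj} (φ : z ⟶ x) (h : predOf T x) : predOf T z :=
  fun p ψ => h p (ψ ≫ φ)

theorem predOf_mono {T T' : Set (AlgSt.Points 𝒳)} (hT : T ⊆ T') {x : 𝒳.obj} (h : predOf T x) : predOf T' x :=
  fun p φ => hT (h p φ)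

theorem predOf_iso (T : Set (AlgSt.Points 𝒳)) : ObjectProperty.IsClosedUnderIsomorphisms (predOf T) where
  of_iso e h := predOf_of_hom e.inv h

theorem predOf_fpt (T : Set (AlgSt.Points 𝒳)) (p : AlgSt.FPt 𝒳) : predOf T p.obj ↔ AlgSt.Points.mk p ∈ T := by
  refine ⟨fun h => h p (𝟙 _), fun h q φ => ?_⟩
  rw [K735.Pts.mk_eq_of_hom φ]
  exact h

/-- a value `y g` satisfies `predOf T` iff `g` lands in the preimage of `T` under the chart. -/
theorem predOf_obj_iff (h𝒳 : FibCat.IsFibGrpd 𝒳.p) (T : Set (AlgSt.Points 𝒳)) {U : Over S}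
    (y : FibCat.overCat U ⥤ᵇ 𝒳) (g : Over U) :
    predOf T (y.obj g) ↔ Set.range g.hom.left ⊆ AlgSt.Points.ofChart y ⁻¹' T := by
  constructor
  · rintro h _ ⟨t, rfl⟩
    let m : Over.mk (g.left.left.fromSpecResidueField t ≫ g.left.hom) ⟶ g.left :=
      Over.homMk (g.left.left.fromSpecResidueField t) rfl
    have h1 := h (fpt y (K := g.left.left.residueField t) (m ≫ g.hom)) (y.map (Over.homMk m rfl))
    rw [← ofChart_eq_mk y (K := g.left.left.residueField t) (m ≫ g.hom)] at h1
    have e1 : (m ≫ g.hom).left (IsLocalRing.closedPoint (g.left.left.residueField t)) = g.hom.left t := by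
      rw [Over.comp_left, Scheme.Hom.comp_apply]
      exact congrArg _ (Scheme.fromSpecResidueField_apply _ _)
    rw [e1] at h1
    exact h1
  · intro h p φ
    obtain ⟨m, hm⟩ := exists_fpt_of_hom h𝒳 y g p φ
    rw [hm]
    exact h ⟨m.left (IsLocalRing.closedPoint p.K), by rw [Over.comp_left, Scheme.Hom.comp_apply]⟩

/-- The inclusion of an open subscheme, over `S`. -/
noncomputable abbrev opensOver (U : Over S) (V : U.left.Opens) : Over S := Over.mk (V.ι ≫ U.hom)

/-- The inclusion of an open subscheme, over `S`. -/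
noncomputable abbrev opensι (U : Over S) (V : U.left.Opens) : opensOver U V ⟶ U := Over.homMk V.ι rfl

theorem exists_fac_opensι_iff {U : Over S} (V : U.left.Opens) (g : Over U) :
    (∃ h : g.left ⟶ opensOver U V, h ≫ opensι U V = g.hom) ↔ Set.range g.hom.left ⊆ (V : Set U.left) := by
  constructor
  · rintro ⟨h, hh⟩ _ ⟨t, rfl⟩
    rw [← hh, Over.comp_left, Scheme.Hom.comp_apply]
    exact (h.left t).2
  · intro h
    have hr : Set.range g.hom.left ⊆ Set.range V.ι := by
      rw [Scheme.Opens.range_ι]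
      exact h
    refine ⟨Over.homMk (IsOpenImmersion.lift V.ι g.hom.left hr) ?_, ?_⟩
    · change IsOpenImmersion.lift V.ι g.hom.left hr ≫ V.ι ≫ U.hom = g.left.hom
      rw [IsOpenImmersion.lift_fac_assoc, Over.w]
    · apply Over.OverMorphism.ext
      exact IsOpenImmersion.lift_fac V.ι g.hom.left hr

/-- For an open set of points the predicate has open loci. -/
theorem hasLoci_predOf (h𝒳 : FibCat.IsFibGrpd 𝒳.p) {T : Set (AlgSt.Points 𝒳)}
    (hT : ∀ (U : Over S) (y : FibCat.overCat U ⥤ᵇ 𝒳), IsOpen (AlgSt.Points.ofChart y ⁻¹' T)) :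
    HasLoci @IsOpenImmersion (predOf T) := by
  intro U y
  let V : U.left.Opens := ⟨AlgSt.Points.ofChart y ⁻¹' T, hT U y⟩
  refine ⟨opensOver U V, opensι U V, inferInstanceAs (IsOpenImmersion V.ι), fun g => ?_⟩
  rw [exists_fac_opensι_iff, predOf_obj_iff h𝒳]
  rfl

theorem range_predOf (h𝒳 : FibCat.IsFibGrpd 𝒳.p) {T : Set (AlgSt.Points 𝒳)}
    (hT : ∀ (U : Over S) (y : FibCat.overCat U ⥤ᵇ 𝒳), IsOpen (AlgSt.Points.ofChart y ⁻¹' T)) :
    Set.range (AlgSt.Points.map (AlgSt.subIncl 𝒳 (predOf T))) = T := by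
  ext t
  obtain ⟨p, rfl⟩ := AlgSt.Points.mk_surjective t
  rw [(hasLoci_predOf h𝒳 hT).mk_mem_range_iff openImm_le_mono h𝒳 (predOf_iso T), predOf_fpt]

/-- A predicate with open loci is determined by its points. -/
theorem iff_predOf_range (h𝒳 : FibCat.IsFibGrpd 𝒳.p) {Q : 𝒳.obj → Prop}
    (hQ : ObjectProperty.IsClosedUnderIsomorphisms Q) (H : HasLoci @IsOpenImmersion Q) (x : 𝒳.obj) :
    Q x ↔ predOf (Set.range (AlgSt.Points.map (AlgSt.subIncl 𝒳 Q))) x := by
  constructor
  · intro hx p φ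
    rw [H.mk_mem_range_iff openImm_le_mono h𝒳 hQ]
    exact H.of_hom h𝒳 hQ φ hx
  · intro hx
    obtain ⟨y, e, he⟩ := Core.exists_yo h𝒳 x rfl
    obtain ⟨Z, i, hi, hl⟩ := H _ y
    have hy : predOf (Set.range (AlgSt.Points.map (AlgSt.subIncl 𝒳 Q))) (y.obj (Over.mk (𝟙 _))) :=
      predOf_of_hom e.hom hx
    have hi' : IsOpenImmersion i.left := hi
    have hr : Set.range (Over.mk (𝟙 (𝒳.p.obj x))).hom.left ⊆ Set.range i.left := by
      intro t ht
      have h1 := (predOf_obj_iff h𝒳 _ y _).1 hy ht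
      exact (H.ofChart_mem_range_iff openImm_le_mono h𝒳 hQ y i hi hl t).1 h1
    have hZ : Q (y.obj (Over.mk (𝟙 _))) := by
      refine (hl _).2 ⟨Over.homMk (IsOpenImmersion.lift i.left (Over.mk (𝟙 (𝒳.p.obj x))).hom.left hr) ?_, ?_⟩
      · rw [← Over.w i, IsOpenImmersion.lift_fac_assoc, Over.w]
      · apply Over.OverMorphism.ext
        exact IsOpenImmersion.lift_fac i.left _ hr
    exact hQ.of_iso e hZ

/-- the points of a predicate with open loci form an open set. -/
theorem isOpen_range (h𝒳 : FibCat.IsFibGrpd 𝒳.p) {Q : 𝒳.obj → Prop}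
    (hQ : ObjectProperty.IsClosedUnderIsomorphisms Q) (H : HasLoci @IsOpenImmersion Q) :
    IsOpen (Set.range (AlgSt.Points.map (AlgSt.subIncl 𝒳 Q))) := by
  rw [AlgSt.Points.isOpen_iff]
  intro U y _
  obtain ⟨Z, i, hi, hl⟩ := H U y
  have : AlgSt.Points.ofChart y ⁻¹' (Set.range (AlgSt.Points.map (AlgSt.subIncl 𝒳 Q))) = Set.range i.left := by
    ext t
    exact H.ofChart_mem_range_iff openImm_le_mono h𝒳 hQ y i hi hl t
  rw [this]
  have hi' : IsOpenImmersion i.left := hi
  exact i.left.isOpenEmbedding.isOpen_range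

end K737.Open
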