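import Groth.Agent.GLin.K765.Haar
import Groth.Agent.GLin.K764.Reductive
import Mathlib.RingTheory.Flat.EquationalCriterion
import Mathlib.RingTheory.Flat.FaithfullyFlat.Basic

/-!
# Free actions of linearly reductive groups on affine schemes, ring level

`H` a commutative Hopf algebra over a field `k` which is linearly reductive (every finite
dimensional comodule is semisimple), `C` a commutative `H`-comodule algebra.

* `can : C ⊗ C → C ⊗ H`, `a ⊗ b ↦ (a ⊗ 1) ρ(b)`;
* `faithfullyFlat`: if `can` is surjective then `C` is faithfully flat over the invariants `B`;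
* `canB_bijective`: and `C ⊗_B C → C ⊗ H` is bijective.
-/

set_option autoImplicit false
set_option linter.unusedSectionVars false

universe u

open TensorProduct HopfRep GLin

namespace K737.Gal

open Groth.Agent.Books Groth.Agent.Books.ComodBasic Groth.Agent.Books.ComodHom
open K765.Rey K765.Haar

variable {k : Type u} [Field k] {H : Type u} [CommRing H] [HopfAlgebra k H]

section Can

variable (k H) (C : Type u) [CommRing C] [Algebra k C] [Comod k H C] [IsCoactAlg k H C]

/-- the canonical map `a ⊗ b ↦ (a ⊗ 1) ρ(b)` -/
noncomputable def can : C ⊗[k] C →ₐ[k] C ⊗[k] H :=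
  Algebra.TensorProduct.productMap Algebra.TensorProduct.includeLeft (coactAlgHom k H C)

variable {C}

theorem can_tmul (a b : C) : can k H C (a ⊗ₜ b) = (a ⊗ₜ[k] (1 : H)) * Comod.coact (k := k) (A := H) b := rfl

end Can

section Slice

variable {C : Type u} [CommRing C] [Algebra k C]

theorem slice_mul_left (φ : H →ₗ[k] k) (a : C) (z : C ⊗[k] H) :
    slice C φ ((a ⊗ₜ[k] (1 : H)) * z) = a * slice C φ z := by
  induction z with
  | zero => simp
  | add x y hx hy => simp only [mul_add, map_add, hx, hy]
  | tmul x y =>
    rw [Algebra.TensorProduct.tmul_mul_tmul, one_mul, slice_tmul, slice_tmul, mul_smul_comm]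

theorem slice_mul_right (φ : H →ₗ[k] k) (y : H) (z : C ⊗[k] H) :
    slice C φ (z * ((1 : C) ⊗ₜ[k] y)) = slice C (φ ∘ₗ LinearMap.mulLeft k y) z := by
  induction z with
  | zero => simp
  | add x x' hx hy => simp only [add_mul, map_add, hx, hy]
  | tmul x x' =>
    rw [Algebra.TensorProduct.tmul_mul_tmul, mul_one, slice_tmul, slice_tmul, LinearMap.comp_apply,
      LinearMap.mulLeft_apply, mul_comm]

end Slice

section Integral

variable (hG : IsLinearlyReductive k H)

theorem rey_eq (a : H) : rey hG H a = haar hG a • (1 : H) := by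
  have hfix : CoalgebraStruct.comul (R := k) (rey hG H a) = rey hG H a ⊗ₜ[k] (1 : H) := rey_mem hG a
  have h1 := congrArg (fun z => (TensorProduct.lid k H)
    ((CoalgebraStruct.counit (R := k) (A := H)).rTensor H z)) hfix
  simp only [Coalgebra.rTensor_counit_comul, LinearMap.rTensor_tmul, TensorProduct.lid_tmul,
    one_smul] at h1
  exact h1

/-- the invariance of the integral -/
theorem slice_comul (a : H) :
    slice H (haar hG) (CoalgebraStruct.comul (R := k) a) = haar hG a • (1 : H) := by
  rw [← sub_eq_zero, ← Module.forall_dual_apply_eq_zero_iff k]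
  intro φ
  rw [map_sub, sub_eq_zero, map_smul]
  have h1 : φ (slice H (haar hG) (CoalgebraStruct.comul (R := k) a)) = haar hG (coeffMap H φ a) := by
    rw [← slice_rTensor, coeffMap_apply]
    change slice k (haar hG) _ = haar hG (TensorProduct.lid k H (φ.rTensor H (CoalgebraStruct.comul (R := k) a)))
    generalize φ.rTensor H (CoalgebraStruct.comul (R := k) a) = z
    induction z with
    | zero => simp
    | add x y hx hy => simp only [map_add, hx, hy]
    | tmul x y => rw [slice_tmul, TensorProduct.lid_tmul, map_smul, smul_eq_mul, smul_eq_mul, mul_comm]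
  have h2 := map_rey hG (isComodHom_coeffMap (k := k) (A := H) (V := H) φ) a
  have h3 : coeffMap H φ (1 : H) = φ 1 • (1 : H) := by
    rw [coeffMap_apply]
    change TensorProduct.lid k H (φ.rTensor H (CoalgebraStruct.comul (R := k) (1 : H))) = _
    rw [Bialgebra.comul_one, Algebra.TensorProduct.one_def, LinearMap.rTensor_tmul, TensorProduct.lid_tmul]
  rw [rey_eq hG a, rey_eq hG (coeffMap H φ a), map_smul, h3, smul_smul] at h2
  have h4 := congrArg (CoalgebraStruct.counit (R := k) (A := H)) h2
  rw [map_smul, map_smul] at h4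
  have h5 : CoalgebraStruct.counit (R := k) (1 : H) = (1 : k) := Bialgebra.counit_one
  rw [h5, smul_eq_mul, smul_eq_mul, mul_one, mul_one] at h4
  rw [h1, ← h4, smul_eq_mul]

variable {C : Type u} [CommRing C] [Algebra k C] [Comod k H C] [IsCoactAlg k H C]

theorem slice_assoc (z : C ⊗[k] H) :
    slice (C ⊗[k] H) (haar hG) ((TensorProduct.assoc k C H H).symm
      ((CoalgebraStruct.comul (R := k) (A := H)).lTensor C z)) = slice C (haar hG) z ⊗ₜ[k] (1 : H) := by
  induction z with
  | zero => simp
  | add x y hx hy => simp only [map_add, add_tmul, hx, hy]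
  | tmul x a =>
    rw [LinearMap.lTensor_tmul, slice_tmul, TensorProduct.smul_tmul, ← slice_comul hG a]
    generalize CoalgebraStruct.comul (R := k) a = w
    induction w with
    | zero => simp
    | add x y hx hy => simp only [map_add, tmul_add, hx, hy]
    | tmul p q => rw [TensorProduct.assoc_symm_tmul, slice_tmul, slice_tmul, TensorProduct.tmul_smul]

/-- the Reynolds operator is integration along the group -/
theorem rey_eq_slice (c : C) : rey hG C c = slice C (haar hG) (Comod.coact (k := k) (A := H) c) := by
  have hfix : slice C (haar hG) (Comod.coact (k := k) (A := H) c) ∈ fixedPts k H C := by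
    change Comod.coact (k := k) (A := H) (slice C (haar hG) (Comod.coact (k := k) (A := H) c)) = _
    rw [← slice_rTensor, ← slice_assoc hG]
    congr 1
    have h := LinearMap.congr_fun (Comod.coassoc (k := k) (A := H) (V := C)) c
    simp only [LinearMap.coe_comp, Function.comp_apply, LinearEquiv.coe_coe] at h
    rw [← h, LinearEquiv.symm_apply_apply]
  have h1 : rey hG C (slice C (haar hG) (Comod.coact (k := k) (A := H) c)) =
      slice C (haar hG) (Comod.coact (k := k) (A := H) (rey hG C c)) := by
    rw [isComodHom_rey hG C c, slice_rTensor]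
  have h2 : Comod.coact (k := k) (A := H) (rey hG C c) = rey hG C c ⊗ₜ[k] (1 : H) := rey_mem hG c
  rw [h2, slice_tmul, haar_one, one_smul, rey_of_mem hG hfix] at h1
  exact h1.symm

end Integral

section Nondeg

variable (k H) in
/-- the Galois map of the regular comodule is surjective -/
theorem exists_gal (y : H) : ∃ t : H ⊗[k] H, can k H H t = (1 : H) ⊗ₜ[k] y := by
  refine ⟨(HopfAlgebraStruct.antipode k (A := H)).rTensor H (CoalgebraStruct.comul (R := k) y), ?_⟩
  have h1 : ∀ t : H ⊗[k] H, can k H H ((HopfAlgebraStruct.antipode k (A := H)).rTensor H t) =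
      (LinearMap.mul' k H ∘ₗ (HopfAlgebraStruct.antipode k (A := H)).rTensor H).rTensor H
        ((TensorProduct.assoc k H H H).symm ((CoalgebraStruct.comul (R := k) (A := H)).lTensor H t)) := by
    intro t
    induction t with
    | zero => simp
    | add x y hx hy => simp only [map_add, hx, hy]
    | tmul a b =>
      rw [LinearMap.rTensor_tmul, can_tmul, LinearMap.lTensor_tmul]
      change _ * CoalgebraStruct.comul (R := k) b = _
      generalize CoalgebraStruct.comul (R := k) b = w
      induction w with
      | zero => simp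
      | add x y hx hy => simp only [map_add, mul_add, tmul_add, hx, hy]
      | tmul p q =>
        rw [TensorProduct.assoc_symm_tmul, LinearMap.rTensor_tmul, LinearMap.comp_apply,
          LinearMap.rTensor_tmul, LinearMap.mul'_apply, Algebra.TensorProduct.tmul_mul_tmul, one_mul]
  rw [h1, Coalgebra.coassoc_symm_apply, ← LinearMap.comp_apply, ← LinearMap.rTensor_comp,
    LinearMap.comp_assoc, HopfAlgebra.mul_antipode_rTensor_comul, LinearMap.rTensor_comp,
    LinearMap.comp_apply, Coalgebra.rTensor_counit_comul, LinearMap.rTensor_tmul]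
  simp

variable (hG : IsLinearlyReductive k H)

theorem slice_can (d : H) (hd : ∀ h : H, haar hG (h * d) = 0) (t : H ⊗[k] H) :
    slice H (haar hG) (CoalgebraStruct.comul (R := k) d * can k H H t) = 0 := by
  induction t with
  | zero => simp
  | add x y hx hy => simp only [map_add, mul_add, hx, hy, add_zero]
  | tmul p q =>
    rw [can_tmul]
    change slice H (haar hG) (_ * (_ * CoalgebraStruct.comul (R := k) q)) = 0
    rw [mul_left_comm, slice_mul_left, mul_comm (CoalgebraStruct.comul (R := k) d), ← Bialgebra.comul_mul,
      slice_comul, hd q, zero_smul, mul_zero]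

theorem haar_mul_antipode (z : H ⊗[k] H)
    (hz : ∀ y : H, slice H (haar hG ∘ₗ LinearMap.mulLeft k y) z = 0) :
    haar hG (LinearMap.mul' k H ((HopfAlgebraStruct.antipode k (A := H)).rTensor H z)) = 0 := by
  obtain ⟨b, rfl⟩ := TensorProduct.eq_repr_basis_left (Module.Basis.ofVectorSpace k H) z
  have h1 : ∀ i (y : H), haar hG (y * b i) = 0 := by
    intro i y
    have h2 := hz y
    rw [Finsupp.sum, map_sum] at h2
    simp only [slice_tmul] at h2
    have h3 := linearIndependent_iff'.1 (Module.Basis.ofVectorSpace k H).linearIndependent b.support _ h2 i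
    by_cases hi : i ∈ b.support
    · exact h3 hi
    · rw [Finsupp.notMem_support_iff.1 hi, mul_zero, map_zero]
  rw [Finsupp.sum, map_sum, map_sum, map_sum]
  refine Finset.sum_eq_zero fun i _ => ?_
  rw [LinearMap.rTensor_tmul, LinearMap.mul'_apply, h1]

/-- the pairing of the integral is nondegenerate at the unit section -/
theorem counit_eq_zero (d : H) (hd : ∀ h : H, haar hG (h * d) = 0) :
    CoalgebraStruct.counit (R := k) d = 0 := by
  have h1 := haar_mul_antipode hG (CoalgebraStruct.comul (R := k) d) (fun y => by
    obtain ⟨t, ht⟩ := exists_gal k H y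
    rw [← slice_mul_right, ← ht]
    exact slice_can hG d hd t)
  have h2 := LinearMap.congr_fun (HopfAlgebra.mul_antipode_rTensor_comul (R := k) (A := H)) d
  simp only [LinearMap.comp_apply] at h2
  rw [h2, Algebra.linearMap_apply, Algebra.algebraMap_eq_smul_one, map_smul, haar_one, smul_eq_mul, mul_one] at h1
  exact h1

/-- the counit on a finite dimensional subspace is integration against a function -/
theorem exists_delta (D : Submodule k H) [Module.Finite k D] :
    ∃ h : H, ∀ d ∈ D, haar hG (h * d) = CoalgebraStruct.counit (R := k) d := by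
  let L : H →ₗ[k] Module.Dual k D :=
    { toFun := fun h => (haar hG ∘ₗ LinearMap.mulLeft k h) ∘ₗ D.subtype
      map_add' := fun x y => by
        ext d
        simp [add_mul]
      map_smul' := fun c x => by
        ext d
        simp }
  let e : Module.Dual k D := (CoalgebraStruct.counit (R := k) (A := H)) ∘ₗ D.subtype
  by_cases he : e ∈ LinearMap.range L
  · obtain ⟨h, hh⟩ := he
    exact ⟨h, fun d hd => LinearMap.congr_fun hh ⟨d, hd⟩⟩
  · exfalso
    obtain ⟨f, hf, hf'⟩ := Submodule.exists_le_ker_of_notMem he
    obtain ⟨d, rfl⟩ := (Module.evalEquiv k D).surjective f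
    apply hf
    rw [Module.evalEquiv_apply, Module.Dual.eval_apply]
    refine counit_eq_zero hG (d : H) fun h => ?_
    have h3 := hf' ⟨h, rfl⟩
    rw [LinearMap.mem_ker, Module.evalEquiv_apply, Module.Dual.eval_apply] at h3
    exact h3

end Nondeg

section Main

variable (hG : IsLinearlyReductive k H)
variable {C : Type u} [CommRing C] [Algebra k C] [Comod k H C] [IsCoactAlg k H C]

theorem slice_counit (c : C) :
    slice C (CoalgebraStruct.counit (R := k) (A := H)) (Comod.coact (k := k) (A := H) c) = c := by
  have h := LinearMap.congr_fun (Comod.counit_comp (k := k) (A := H) (V := C)) c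
  simp only [LinearMap.comp_apply, LinearMap.flip_apply, TensorProduct.mk_apply] at h
  have h2 := congrArg (TensorProduct.rid k C) h
  rw [TensorProduct.rid_tmul, one_smul] at h2
  exact h2

/-- "dual bases" -/
theorem exists_dual (hcan : Function.Surjective (can k H C)) (s : Set C) (hs : s.Finite) :
    ∃ t : C ⊗[k] C, ∀ c ∈ s, slice C (haar hG) (can k H C t * Comod.coact (k := k) (A := H) c) = c := by
  obtain ⟨D, hD, hsD⟩ := TensorProduct.exists_finite_submodule_right_of_setFinite
    ((fun c => Comod.coact (k := k) (A := H) c) '' s) (hs.image _)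
  obtain ⟨h, hh⟩ := exists_delta hG D
  obtain ⟨t, ht⟩ := hcan (1 ⊗ₜ h)
  refine ⟨t, fun c hc => ?_⟩
  rw [ht, mul_comm, slice_mul_right]
  obtain ⟨w, hw⟩ := hsD ⟨c, hc, rfl⟩
  simp only at hw
  have h1 : slice C (haar hG ∘ₗ LinearMap.mulLeft k h) (D.subtype.lTensor C w) =
      slice C (CoalgebraStruct.counit (R := k) (A := H)) (D.subtype.lTensor C w) := by
    clear hw
    induction w with
    | zero => simp
    | add x y hx hy => simp only [map_add, hx, hy]
    | tmul x y =>
      rw [LinearMap.lTensor_tmul, slice_tmul, slice_tmul]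
      congr 1
      exact hh y y.2
  rw [← hw, h1, hw, slice_counit]

theorem exists_dual' (hcan : Function.Surjective (can k H C)) (s : Set C) (hs : s.Finite) :
    ∃ S : Finset (C × C), ∀ c ∈ s, ∑ p ∈ S, p.1 * rey hG C (p.2 * c) = c := by
  obtain ⟨t, ht⟩ := exists_dual hG hcan s hs
  obtain ⟨S, rfl⟩ := TensorProduct.exists_finset t
  refine ⟨S, fun c hc => ?_⟩
  have h := ht c hc
  rw [map_sum, Finset.sum_mul, map_sum] at h
  refine Eq.trans (Finset.sum_congr rfl fun p _ => ?_) h
  rw [can_tmul, mul_assoc, slice_mul_left, rey_eq_slice, IsCoactAlg.coact_mul]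

include hG in
theorem exists_dual_fin (hcan : Function.Surjective (can k H C)) (s : Set C) (hs : s.Finite) :
    ∃ (n : ℕ) (a b : Fin n → C), ∀ c ∈ s, ∑ i, a i * rey hG C (b i * c) = c := by
  obtain ⟨S, hS⟩ := exists_dual' hG hcan s hs
  refine ⟨S.card, fun i => ((S.equivFin.symm i : S) : C × C).1, fun i => ((S.equivFin.symm i : S) : C × C).2,
    fun c hc => ?_⟩
  refine Eq.trans ?_ (hS c hc)
  refine Eq.trans (Equiv.sum_comp S.equivFin.symm fun p : S => (p : C × C).1 * rey hG C ((p : C × C).2 * c)) ?_
  exact Finset.sum_coe_sort S (fun p : C × C => p.1 * rey hG C (p.2 * c))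

include hG in
/-- if the action is free, functions form a flat module over the invariants -/
theorem flat (hcan : Function.Surjective (can k H C)) : Module.Flat (invariants k H C) C := by
  rw [Module.Flat.iff_forall_isTrivialRelation]
  intro l f x hfx
  obtain ⟨n, a, b, hab⟩ := exists_dual_fin hG hcan (Set.range x) (Set.finite_range x)
  refine ⟨n, fun i j => ⟨rey hG C (b j * x i), rey_mem_invariants hG _⟩, a, fun i => ?_, fun j => ?_⟩
  · conv_lhs => rw [← hab (x i) ⟨i, rfl⟩]
    refine Finset.sum_congr rfl fun j _ => ?_
    rw [mul_comm]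
    rfl
  · apply Subtype.ext
    have h1 : ((∑ i, f i * ⟨rey hG C (b j * x i), rey_mem_invariants hG _⟩ : invariants k H C) : C) =
        ∑ i, (f i : C) * rey hG C (b j * x i) := by
      simp
    rw [h1]
    have h2 : ∀ i, (f i : C) * rey hG C (b j * x i) = rey hG C (b j * (f i • x i)) := by
      intro i
      rw [← rey_mul' hG _ (f i).2]
      congr 1
      rw [Algebra.smul_def]
      change _ = b j * ((f i : C) * x i)
      ring
    simp only [h2]
    rw [← map_sum, ← Finset.mul_sum, hfx, mul_zero, map_zero]
    rfl

include hG in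
/-- and it is faithfully flat -/
theorem faithfullyFlat (hcan : Function.Surjective (can k H C)) :
    Module.FaithfullyFlat (invariants k H C) C := by
  have := flat hG hcan
  refine ⟨fun m hm h => ?_⟩
  have h1 : (m.map (algebraMap (invariants k H C) C)) = ⊤ := by
    rw [Ideal.eq_top_iff_one]
    have h2 : (1 : C) ∈ m • (⊤ : Submodule (invariants k H C) C) := by
      rw [h]
      trivial
    rw [Ideal.smul_top_eq_map] at h2
    exact h2
  have h3 := K764.Reductive.comap_map_invariants (k := k) (A := H) (R := C) hG m
  rw [h1, Ideal.comap_top] at h3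
  exact hm.ne_top h3.symm

section CanB

variable (k H C)

/-- the coaction over the invariants -/
noncomputable def rhoB : C →ₐ[invariants k H C] C ⊗[k] H :=
  { (coactAlgHom k H C).toRingHom with
    commutes' := fun b => b.2 }

/-- the Galois map over the invariants -/
noncomputable def canB : C ⊗[invariants k H C] C →ₐ[invariants k H C] C ⊗[k] H :=
  Algebra.TensorProduct.productMap
    ({ (Algebra.TensorProduct.includeLeft : C →ₐ[k] C ⊗[k] H).toRingHom with
      commutes' := fun _ => rfl } : C →ₐ[invariants k H C] C ⊗[k] H) (rhoB k H C)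

variable {k H C}

theorem canB_tmul (a b : C) :
    canB k H C (a ⊗ₜ b) = (a ⊗ₜ[k] (1 : H)) * Comod.coact (k := k) (A := H) b := rfl

include hG in
/-- the Galois map over the invariants is an isomorphism -/
theorem canB_bijective (hcan : Function.Surjective (can k H C)) : Function.Bijective (canB k H C) := by
  constructor
  · rw [injective_iff_map_eq_zero]
    intro z hz
    obtain ⟨S, rfl⟩ := TensorProduct.exists_finset z
    obtain ⟨n, a, b, hab⟩ := exists_dual_fin hG hcan (Set.range fun p : S => p.1.2) (Set.finite_range _)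
    have h1 : ∀ p ∈ S, p.1 ⊗ₜ[invariants k H C] p.2 =
        ∑ i, (p.1 * rey hG C (b i * p.2)) ⊗ₜ[invariants k H C] a i := by
      intro p hp
      conv_lhs => rw [← hab p.2 ⟨⟨p, hp⟩, rfl⟩, TensorProduct.tmul_sum]
      refine Finset.sum_congr rfl fun i _ => ?_
      have h2 : a i * rey hG C (b i * p.2) =
          (⟨rey hG C (b i * p.2), rey_mem_invariants hG _⟩ : invariants k H C) • a i := by
        rw [mul_comm]
        rfl
      rw [h2, ← TensorProduct.smul_tmul]
      congr 1
      exact mul_comm _ _
    rw [Finset.sum_congr rfl h1, Finset.sum_comm]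
    refine Finset.sum_eq_zero fun i _ => ?_
    rw [← TensorProduct.sum_tmul]
    have h3 : ∑ p ∈ S, p.1 * rey hG C (b i * p.2) = 0 := by
      have h4 : ∀ p ∈ S, p.1 * rey hG C (b i * p.2) =
          slice C (haar hG) (Comod.coact (k := k) (A := H) (b i) * canB k H C (p.1 ⊗ₜ p.2)) := by
        intro p _
        rw [canB_tmul, mul_left_comm, slice_mul_left, rey_eq_slice, IsCoactAlg.coact_mul]
      rw [Finset.sum_congr rfl h4, ← map_sum, ← Finset.mul_sum, ← map_sum, hz, mul_zero, map_zero]
    rw [h3, TensorProduct.zero_tmul]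
  · intro x
    obtain ⟨t, rfl⟩ := hcan x
    induction t with
    | zero => exact ⟨0, by simp⟩
    | add x y hx hy =>
      obtain ⟨u, hu⟩ := hx
      obtain ⟨v, hv⟩ := hy
      exact ⟨u + v, by rw [map_add, map_add, hu, hv]⟩
    | tmul a b => exact ⟨a ⊗ₜ b, rfl⟩

end CanB

end Main

end K737.Gal
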