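import Groth.Agent.Sga3.H219.Coact
import Groth.Prelude.Def_CoactBr
import Groth.Agent.AlgSt.K750.TorsPts
import Groth.Agent.AlgSt.K737.GalAlg
import Groth.Agent.AlgSp.K628.Core
import Groth.Agent.GLin.K764.Reductive
import Groth.Agent.NonAbH1.K551.Tors

/-!
# Actions of affine groups on affine schemes and comodule algebras

* `exists_coaction`: an action of `Spec H` on `Spec C` comes from a comodule algebra structure.
* `isPullback_of_canB`: the Galois condition gives a pseudo-torsor over the spectrum of the invariants.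
-/

set_option autoImplicit false
set_option linter.unusedVariables false
set_option linter.style.haveILetI false
set_option backward.isDefEq.respectTransparency false
set_option backward.isDefEq.respectTransparency.types false
set_option linter.dupNamespace false
set_option linter.unusedSectionVars false

universe u

open CategoryTheory CategoryTheory.Limits MonoidalCategory CartesianMonoidalCategory MonObj GrpObj AlgebraicGeometry
open TensorProduct
open Groth.Agent.Books.AffBridge K750.TorsPts CoactBr

namespace K737.AffAct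

noncomputable section

variable {k : Type u} [Field k] {H : Type u} [CommRing H] [HopfAlgebra k H]

theorem isIso_of_hom_inv_id' {C : Type*} [Category C] {X Y : C} (f : X ⟶ Y) (g : Y ⟶ X) (hg : IsIso g)
    (h : f ≫ g = 𝟙 X) : IsIso f := by
  have : f = inv g := by rw [← cancel_mono g, h, IsIso.inv_hom_id]
  rw [this]
  infer_instance

/-- The library's braided monoidal structure on `Spec`, at the spelling `CommRingCat.of R`. -/
local instance braided' (R : Type u) [CommRing R] : (algSpec (CommRingCat.of R)).Braided := braidedAlgSpec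

theorem isIso_lift_incl (C : Type u) [CommRing C] [Algebra k C] :
    IsIso (lift (pt (Algebra.TensorProduct.includeLeft : C →ₐ[k] C ⊗[k] H))
      (pt (Algebra.TensorProduct.includeRight : H →ₐ[k] C ⊗[k] H))) := by
  have h1 := lift_pt_pt (Algebra.TensorProduct.includeLeft : C →ₐ[k] C ⊗[k] H)
    (Algebra.TensorProduct.includeRight : H →ₐ[k] C ⊗[k] H)
  have h2 : Algebra.TensorProduct.lift (Algebra.TensorProduct.includeLeft : C →ₐ[k] C ⊗[k] H)
      (Algebra.TensorProduct.includeRight : H →ₐ[k] C ⊗[k] H) (fun _ _ => .all _ _) = AlgHom.id k _ := by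
    ext x <;> simp
  rw [h2, pt_id] at h1
  have h3 : IsIso (Functor.LaxMonoidal.μ (algSpec (CommRingCat.of k)) (Opposite.op (CommAlgCat.of k C))
      (Opposite.op (CommAlgCat.of k H))) := inferInstance
  exact isIso_of_hom_inv_id' _ _ h3 h1

/-- **An action of `Spec H` on `Spec C` comes from a coaction.** -/
theorem exists_coaction {C : Type u} [CommRing C] [Algebra k C] (a : AlgGrp.Action (sp k H) (sp k C)) :
    ∃ (i₁ : HopfRep.Comod k H C) (i₂ : GLin.IsCoactAlg k H C), CoactBr.action k H C = a := by
  let r : sp k C ⊗ sp k H ⟶ sp k C := lift (snd _ _)⁻¹ (fst _ _) ≫ a.act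
  have hr : ∀ {T : Over (Spec (CommRingCat.of k))} (v : T ⟶ sp k C) (g : T ⟶ sp k H),
      lift v g ≫ r = act a g⁻¹ v := by
    intro T v g
    change lift v g ≫ lift (snd _ _)⁻¹ (fst _ _) ≫ a.act = lift g⁻¹ v ≫ a.act
    rw [← Category.assoc, comp_lift, lift_fst, GrpObj.comp_inv, lift_snd]
  have hone : ∀ (Y : Over (Spec (CommRingCat.of k))) (v : Y ⟶ SpecOver k C),
      lift v (1 : Y ⟶ SpecOver k H) ≫ r = v := by
    intro Y v
    rw [hr, inv_one, act_one]
  have hmul : ∀ (Y : Over (Spec (CommRingCat.of k))) (v : Y ⟶ SpecOver k C) (x y : Y ⟶ SpecOver k H),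
      lift (lift v x ≫ r) y ≫ r = lift v (x * y) ≫ r := by
    intro Y v x y
    rw [hr, hr, hr, ← act_mul, _root_.mul_inv_rev]
  let i₁ : HopfRep.Comod k H C := Groth.Agent.Sga3.H219.Coact.comod r hone hmul
  have i₂ : GLin.IsCoactAlg k H C :=
    { coact_one := map_one (Groth.Agent.Sga3.H219.Coact.rho k r)
      coact_mul := fun x y => map_mul (Groth.Agent.Sga3.H219.Coact.rho k r) x y }
  refine ⟨i₁, i₂, ?_⟩
  have hρ : GLin.coactAlgHom k H C = Groth.Agent.Sga3.H219.Coact.rho k r := AlgHom.ext fun _ => rfl
  have h1 : CoactBr.ract k H C = r := by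
    have := isIso_lift_incl (k := k) (H := H) C
    rw [← cancel_epi (lift (pt (Algebra.TensorProduct.includeLeft : C →ₐ[k] C ⊗[k] H))
      (pt (Algebra.TensorProduct.includeRight : H →ₐ[k] C ⊗[k] H))), lift_pt_ract, hρ]
    exact (Groth.Agent.Sga3.H219.Coact.lift_comp r _ _).symm
  have h2 : (CoactBr.action k H C).act = a.act := by
    have h3 := lift_action_act (R := k) (A := H) (B := C) (fst (sp k H) (sp k C)) (snd (sp k H) (sp k C))
    rw [lift_fst_snd, Category.id_comp, h1, hr, _root_.inv_inv] at h3
    rw [h3, act, lift_fst_snd, Category.id_comp]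
  obtain ⟨a1, a2, a3⟩ := a
  revert h2
  generalize CoactBr.action k H C = b
  intro h2
  obtain ⟨b1, b2, b3⟩ := b
  obtain rfl : b1 = a1 := h2
  rfl

section Torsor

open GLin

variable {C : Type u} [CommRing C] [Algebra k C] [HopfRep.Comod k H C] [GLin.IsCoactAlg k H C]

theorem isPushout_of_canB (hb : Function.Bijective (K737.Gal.canB k H C)) :
    IsPushout (CommRingCat.ofHom (algebraMap (invariants k H C) C))
      (CommRingCat.ofHom (algebraMap (invariants k H C) C))
      (CommRingCat.ofHom (Algebra.TensorProduct.includeLeft : C →ₐ[k] C ⊗[k] H).toRingHom)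
      (CommRingCat.ofHom (coactAlgHom k H C).toRingHom) := by
  have h := CommRingCat.isPushout_tensorProduct (invariants k H C) C C
  let e : C ⊗[invariants k H C] C ≃+* C ⊗[k] H := RingEquiv.ofBijective (K737.Gal.canB k H C).toRingHom hb
  refine IsPushout.of_iso h (Iso.refl _) (Iso.refl _) (Iso.refl _) e.toCommRingCatIso ?_ ?_ ?_ ?_
  · rfl
  · rfl
  · ext x
    change K737.Gal.canB k H C (x ⊗ₜ 1) = x ⊗ₜ 1
    rw [K737.Gal.canB_tmul, IsCoactAlg.coact_one, _root_.mul_one]
  · ext x
    change K737.Gal.canB k H C (1 ⊗ₜ x) = HopfRep.Comod.coact x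
    rw [K737.Gal.canB_tmul]
    exact _root_.one_mul _

theorem isPullback_pt_of_canB (hb : Function.Bijective (K737.Gal.canB k H C)) :
    IsPullback (pt (coactAlgHom k H C)) (pt (Algebra.TensorProduct.includeLeft : C →ₐ[k] C ⊗[k] H))
      (pt (invariants k H C).val) (pt (invariants k H C).val) := by
  apply K628.Core.isPullback_of_left
  exact (isPullback_SpecMap_of_isPushout _ _ _ _ (isPushout_of_canB hb)).flip

theorem isPullback_of_canB (hb : Function.Bijective (K737.Gal.canB k H C)) :
    IsPullback (CoactBr.action k H C).act (snd (sp k H) (sp k C))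
      (pt (invariants k H C).val) (pt (invariants k H C).val) := by
  have h := isPullback_pt_of_canB hb
  have i1 := isIso_lift_incl (k := k) (H := H) C
  let φ : sp k (C ⊗[k] H) ≅ sp k C ⊗ sp k H := asIso (lift
      (pt (Algebra.TensorProduct.includeLeft : C →ₐ[k] C ⊗[k] H))
      (pt (Algebra.TensorProduct.includeRight : H →ₐ[k] C ⊗[k] H)))
  let ψ : sp k C ⊗ sp k H ≅ sp k H ⊗ sp k C :=
    { hom := lift (snd _ _)⁻¹ (fst _ _)
      inv := lift (snd _ _) (fst _ _)⁻¹
      hom_inv_id := by
        apply CartesianMonoidalCategory.hom_ext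
        · simp [GrpObj.comp_inv]
        · simp [GrpObj.comp_inv]
      inv_hom_id := by
        apply CartesianMonoidalCategory.hom_ext
        · simp [GrpObj.comp_inv]
        · simp [GrpObj.comp_inv] }
  refine IsPullback.of_iso h (φ ≪≫ ψ) (Iso.refl _) (Iso.refl _) (Iso.refl _) ?_ ?_ ?_ ?_
  · rw [Iso.refl_hom, Category.comp_id]
    change _ = (CartesianMonoidalCategory.lift _ _ ≫ CartesianMonoidalCategory.lift (snd _ _)⁻¹ (fst _ _)) ≫
      (CoactBr.action k H C).act
    rw [comp_lift, GrpObj.comp_inv, lift_snd, lift_fst, lift_action_act, _root_.inv_inv, lift_pt_ract]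
    congr 1
    have h2 : Algebra.TensorProduct.lift (Algebra.TensorProduct.includeLeft : C →ₐ[k] C ⊗[k] H)
        (Algebra.TensorProduct.includeRight : H →ₐ[k] C ⊗[k] H) (fun _ _ => .all _ _) = AlgHom.id k _ := by
      ext x <;> simp
    rw [h2, AlgHom.id_comp]
  · rw [Iso.refl_hom, Category.comp_id]
    change _ = (CartesianMonoidalCategory.lift _ _ ≫ CartesianMonoidalCategory.lift (snd _ _)⁻¹ (fst _ _)) ≫ _
    rw [Category.assoc, lift_snd, lift_fst]
    rfl
  · simp
  · simp

theorem isLocallyTrivial_of_flat (hG : HopfRep.IsLinearlyReductive k H) [Algebra.FiniteType k C]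
    (hf : Module.FaithfullyFlat (invariants k H C) C) :
    NonAbH1.IsLocallyTrivialFor Scheme.fppfPrecoverage
      (Over.mk (pt (invariants k H C).val).left : Over (sp k (invariants k H C)).left) := by
  have hN : IsNoetherianRing C := Algebra.FiniteType.isNoetherianRing k C
  have hB : IsNoetherianRing (invariants k H C) := K764.Reductive.isNoetherianRing_invariants hG
  let φ : (invariants k H C) →+* C := algebraMap _ _
  have e : (pt (invariants k H C).val).left = Spec.map (CommRingCat.ofHom φ) := rfl
  have h1 : Flat (pt (invariants k H C).val).left := by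
    rw [e, Flat.SpecMap_iff]
    exact (RingHom.flat_algebraMap_iff).2 inferInstance
  have h2 : Surjective (pt (invariants k H C).val).left := by
    rw [e]
    refine ⟨fun x => ?_⟩
    exact PrimeSpectrum.comap_surjective_of_faithfullyFlat x
  have h3 : LocallyOfFinitePresentation (pt (invariants k H C).val).left := by
    rw [e, HasRingHomProperty.Spec_iff (P := @LocallyOfFinitePresentation)]
    have h4 : Algebra.FiniteType (invariants k H C) C := Algebra.FiniteType.of_restrictScalars_finiteType k _ _
    exact RingHom.FinitePresentation.of_finiteType.mp ((RingHom.finiteType_algebraMap).2 h4)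
  exact K551.Tors.isLocallyTrivialFor_fppf (pt (invariants k H C).val).left ⟨𝟙 _, Category.id_comp _⟩

end Torsor

end

end K737.AffAct
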