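import Groth.Agent.AlgSt.K737.LocLift
import Groth.Agent.AlgSt.K735.Pts

/-!
# K737.Chart: points of charts; preimages of opens under arbitrary charts
-/

set_option backward.isDefEq.respectTransparency false
set_option backward.isDefEq.respectTransparency.types false

universe w v u

open CategoryTheory CategoryTheory.Limits AlgebraicGeometry Opposite

namespace K737.Chart

open K737.SubRep K737.Pts K737.LocLift K735.Fib K735.Fp K735.Rep

variable {S : Scheme.{u}} {𝒳 : BasedCategory.{v, w} (Over S)}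

/-- the point of `𝒳` defined by a field-valued point `m` of the chart. -/
noncomputable def fpt {U : Over S} (y : FibCat.overCat U ⥤ᵇ 𝒳) {K : Type u} [Field K] {str : Spec (CommRingCat.of K) ⟶ S}
    (m : Over.mk str ⟶ U) : AlgSt.FPt 𝒳 :=
  { K := K, str := str, obj := y.obj (Over.mk m), lies := y.w_obj _ }

theorem ofChart_eq_mk_aux {U : Over S} (y : FibCat.overCat U ⥤ᵇ 𝒳) {K : Type u} [Field K]
    {str : Spec (CommRingCat.of K) ⟶ S} (m : Spec (CommRingCat.of K) ⟶ U.left) (hm : m ≫ U.hom = str) :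
    AlgSt.Points.ofChart y (m (IsLocalRing.closedPoint K)) = AlgSt.Points.mk (fpt y (Over.homMk m hm : Over.mk str ⟶ U)) := by
  have key := Scheme.descResidueField_stalkClosedPointTo_fromSpecResidueField K U.left m
  let k : (Over.mk str : Over S) ⟶
      Over.mk (U.left.fromSpecResidueField (m (IsLocalRing.closedPoint K)) ≫ U.hom) :=
    Over.homMk (Spec.map (U.left.descResidueField (K := K) (Scheme.stalkClosedPointTo m)))
      ((Category.assoc _ _ _).symm.trans ((congrArg (· ≫ U.hom) key).trans hm))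
  have hk : k ≫ (Over.homMk (U.left.fromSpecResidueField (m (IsLocalRing.closedPoint K))) rfl :
      Over.mk (U.left.fromSpecResidueField (m (IsLocalRing.closedPoint K)) ≫ U.hom) ⟶ U) = Over.homMk m hm := by
    apply Over.OverMorphism.ext
    exact key
  refine (K735.Pts.mk_eq_of_hom (?_ : (fpt y (Over.homMk m hm : Over.mk str ⟶ U)).obj ⟶ _)).symm
  exact y.map (Over.homMk k hk)

/-- the point of `|𝒳|` of a field-valued point of the chart only depends on its image in `U`. -/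
theorem ofChart_eq_mk {U : Over S} (y : FibCat.overCat U ⥤ᵇ 𝒳) {K : Type u} [Field K]
    {str : Spec (CommRingCat.of K) ⟶ S} (m : Over.mk str ⟶ U) :
    AlgSt.Points.ofChart y (m.left (IsLocalRing.closedPoint K)) = AlgSt.Points.mk (fpt y m) :=
  ofChart_eq_mk_aux y m.left (Over.w m)

/-- isomorphic values of two charts give the same points. -/
theorem ofChart_eq_of_iso (h𝒳 : FibCat.IsFibGrpd 𝒳.p) {U V W : Over S} (y : FibCat.overCat U ⥤ᵇ 𝒳)
    (v : FibCat.overCat V ⥤ᵇ 𝒳) (a : W ⟶ U) (b : W ⟶ V) (ε : y.obj (Over.mk a) ≅ v.obj (Over.mk b))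
    (hε : Vert 𝒳.p ε.hom) (t : ↥W.left) :
    AlgSt.Points.ofChart y (a.left t) = AlgSt.Points.ofChart v (b.left t) := by
  let m : Over.mk (W.left.fromSpecResidueField t ≫ W.hom) ⟶ W := Over.homMk (W.left.fromSpecResidueField t) rfl
  have hm : m.left (IsLocalRing.closedPoint (W.left.residueField t)) = t := Scheme.fromSpecResidueField_apply _ _
  have h1 := ofChart_eq_mk y (K := W.left.residueField t) (m ≫ a)
  have h2 := ofChart_eq_mk v (K := W.left.residueField t) (m ≫ b)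
  have e1 : (m ≫ a).left (IsLocalRing.closedPoint (W.left.residueField t)) = a.left t := by
    rw [Over.comp_left, Scheme.Hom.comp_apply, hm]
  have e2 : (m ≫ b).left (IsLocalRing.closedPoint (W.left.residueField t)) = b.left t := by
    rw [Over.comp_left, Scheme.Hom.comp_apply, hm]
  rw [e1] at h1
  rw [e2] at h2
  rw [h1, h2]
  -- the two objects are isomorphic
  have l1 : 𝒳.p.IsHomLift m (y.map (Over.homMk m rfl : Over.mk (m ≫ a) ⟶ Over.mk a)) := by
    have : (FibCat.overCat U).p.IsHomLift m (Over.homMk m rfl : Over.mk (m ≫ a) ⟶ Over.mk a) :=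
      IsHomLift.map (Over.forget U) (Over.homMk m rfl : Over.mk (m ≫ a) ⟶ Over.mk a)
    exact BasedFunctor.preserves_isHomLift y _ _
  have l2 : 𝒳.p.IsHomLift (𝟙 W) ε.hom := hε.isHomLift (y.w_obj (Over.mk a))
  have l3 : 𝒳.p.IsHomLift m (y.map (Over.homMk m rfl : Over.mk (m ≫ a) ⟶ Over.mk a) ≫ ε.hom) :=
    IsHomLift.comp_lift_id_right 𝒳.p m _ ε.hom
  obtain ⟨e, -, -⟩ := @Core.exists_iso_obj _ _ 𝒳 h𝒳 _ v (Over.mk b) _ m _
    (y.map (Over.homMk m rfl : Over.mk (m ≫ a) ⟶ Over.mk a) ≫ ε.hom) l3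
  exact (K735.Pts.mk_eq_of_hom (p := fpt v (m ≫ b)) (q := fpt y (m ≫ a)) e.hom).symm

/-- Preimages of open subsets of `|𝒳|` under arbitrary charts are open, when `𝒳` has a smooth atlas. -/
theorem isOpen_preimage_ofChart (h𝒳 : FibCat.IsFibGrpd 𝒳.p) (hat : AlgSt.HasAtlas (AlgSp.LocP @Smooth) 𝒳)
    {U : Over S} (y : FibCat.overCat U ⥤ᵇ 𝒳) {T : Set (AlgSt.Points 𝒳)} (hT : IsOpen T) :
    IsOpen (AlgSt.Points.ofChart y ⁻¹' T) := by
  obtain ⟨V, v, hv, hv'⟩ := hat
  obtain ⟨W, a, b, ha, ha', ε, hε⟩ := LocLift.exists_lift y v hv hv'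
  have hopen : IsOpenMap a.left := a.left.isOpenMap
  have hsurj : Function.Surjective a.left := a.left.surjective
  have hq : Topology.IsQuotientMap a.left := hopen.isQuotientMap a.left.continuous hsurj
  rw [← hq.isOpen_preimage]
  have : a.left ⁻¹' (AlgSt.Points.ofChart y ⁻¹' T) = b.left ⁻¹' (AlgSt.Points.ofChart v ⁻¹' T) := by
    ext t
    simp only [Set.mem_preimage, ofChart_eq_of_iso h𝒳 y v a b ε hε t]
  rw [this]
  exact (AlgSt.Points.isOpen_iff.1 hT V v hv).preimage b.left.continuous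

theorem continuous_ofChart (h𝒳 : FibCat.IsFibGrpd 𝒳.p) (hat : AlgSt.HasAtlas (AlgSp.LocP @Smooth) 𝒳)
    {U : Over S} (y : FibCat.overCat U ⥤ᵇ 𝒳) : Continuous (AlgSt.Points.ofChart y) :=
  continuous_def.2 fun _ hT => isOpen_preimage_ofChart h𝒳 hat y hT

/-- every point with a map to a value of `y` comes from the chart. -/
theorem exists_fpt_of_hom (h𝒳 : FibCat.IsFibGrpd 𝒳.p) {U : Over S} (y : FibCat.overCat U ⥤ᵇ 𝒳) (g : Over U)
    (p : AlgSt.FPt 𝒳) (φ : p.obj ⟶ y.obj g) :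
    ∃ m : Over.mk p.str ⟶ g.left, AlgSt.Points.mk p =
      AlgSt.Points.ofChart y ((m ≫ g.hom).left (IsLocalRing.closedPoint p.K)) := by
  obtain ⟨f, -, e, he, -⟩ := Core.exists_iso_obj' h𝒳 y g φ
  let m : Over.mk p.str ⟶ g.left := eqToHom p.lies.symm ≫ f
  refine ⟨m, ?_⟩
  rw [ofChart_eq_mk y (K := p.K) (m ≫ g.hom)]
  refine (K735.Pts.mk_eq_of_hom (p := fpt y (m ≫ g.hom)) (q := p) (?_ ≫ e.hom)).symm
  exact y.map (Over.homMk (eqToHom p.lies.symm) (by simp [m]))

/-- a chart with a surjective representable map hits every point. -/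
theorem ofChart_surjective (h𝒳 : FibCat.IsFibGrpd 𝒳.p) {V : Over S} (v : FibCat.overCat V ⥤ᵇ 𝒳)
    {P : MorphismProperty Scheme.{u}}
    (hv : AlgSt.RepByAlgSpWith (AlgSp.LocP P) v)
    (hv' : AlgSt.RepByAlgSpWith AlgSp.IsSurjectiveMor v) : Function.Surjective (AlgSt.Points.ofChart v) := by
  intro x
  obtain ⟨p, rfl⟩ := AlgSt.Points.mk_surjective x
  obtain ⟨y, e, he⟩ := Core.exists_yo h𝒳 p.obj p.lies
  obtain ⟨W, a, b, ha, ha', ε, hε⟩ := LocLift.exists_lift y v hv hv'
  obtain ⟨m, hm⟩ := exists_fpt_of_hom h𝒳 y (Over.mk (𝟙 _)) p e.inv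
  obtain ⟨t, ht⟩ := a.left.surjective ((m ≫ (Over.mk (𝟙 _)).hom).left (IsLocalRing.closedPoint p.K))
  exact ⟨b.left t, by rw [hm, ← ht, ofChart_eq_of_iso h𝒳 y v a b ε hε t]⟩

end K737.Chart
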