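import Groth.Agent.AlgSt.K737.FrPt
import Groth.Agent.Books.AffBridge2

/-!
# Affine charts: the universal pairs over an affine scheme are represented by the spectrum of an algebra
-/

set_option autoImplicit false
set_option linter.unusedVariables false
set_option linter.style.haveILetI false
set_option backward.isDefEq.respectTransparency false
set_option backward.isDefEq.respectTransparency.types false
set_option linter.dupNamespace false
set_option linter.unusedSectionVars false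

universe w u

open CategoryTheory CategoryTheory.Limits MonoidalCategory CartesianMonoidalCategory MonObj GrpObj AlgebraicGeometry
open AlgSt K750.TorsPts K908.QuotPt K737.Uni K737.Span
open scoped TensorProduct
open StMod K734.Fib K908.Aff

namespace K737.ChartC

section Iso

variable {S : Scheme.{u}} {G X : Over S} [GrpObj G] {aX : AlgGrp.Action G X}
  {𝒳 : BasedCategory.{u, w} (Over S)} {f : QuotSt Scheme.fppfPrecoverage G aX ⥤ᵇ 𝒳} {ζ : 𝒳.obj}

theorem kp_kp {P P' T : Over S} {z : P ⟶ X} (u : f.obj (tx aX z) ⟶ ζ) (m : P' ⟶ P) {z' : P' ⟶ X}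
    (hz : m ≫ z = z') (t : T ⟶ P') (x : T ⟶ X) (h : t ≫ z' = x) (h' : (t ≫ m) ≫ z = x) :
    kp (kp u m z' hz) t x h = kp u (t ≫ m) x h' := by
  unfold kp
  rw [fr_trans_assoc]
  congr 1
  apply fr_congr
  · rfl
  · simp

theorem isUni_of_iso {L P P' : Over S} {j : L ⟶ X} {π : P ⟶ L} {u : f.obj (tx aX (π ≫ j)) ⟶ ζ}
    (hu : IsUni f j π u) (i : P' ≅ P) :
    IsUni f j (i.hom ≫ π) (kp u i.hom ((i.hom ≫ π) ≫ j) (Category.assoc _ _ _).symm) := by
  refine ⟨?_, ?_⟩
  · intro T t t' x h h' e1 e2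
    have k1 : (t ≫ i.hom) ≫ π ≫ j = x := by simpa using h
    have k2 : (t' ≫ i.hom) ≫ π ≫ j = x := by simpa using h'
    rw [kp_kp u i.hom _ t x h k1, kp_kp u i.hom _ t' x h' k2] at e2
    have h1 := hu.inj _ _ x k1 k2 (by simpa using e1) e2
    exact (cancel_mono i.hom).1 h1
  · intro T l x h κ
    obtain ⟨t, ht, h1⟩ := hu.sur l x h κ
    have k1 : (t ≫ i.inv) ≫ i.hom = t := by simp
    refine ⟨t ≫ i.inv, by rw [← Category.assoc, k1, ht], ?_⟩
    rw [kp_kp u i.hom _ (t ≫ i.inv) x _ (by rw [k1, ← Category.assoc, ht]; exact h), ← h1]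
    exact kp_congr u _ _ k1

end Iso

section Sp

open CoactBr

variable {k : Type u} [Field k]

theorem exists_sp (P : Over (Spec (CommRingCat.of k))) (hP : IsAffine P.left) :
    ∃ (C : Type u) (_ : CommRing C) (_ : Algebra k C), Nonempty (sp k C ≅ P) := by
  let φ : CommRingCat.of k ⟶ Γ(P.left, ⊤) := Spec.preimage (P.left.isoSpec.inv ≫ P.hom)
  letI : Algebra k Γ(P.left, ⊤) := φ.hom.toAlgebra
  refine ⟨Γ(P.left, ⊤), inferInstance, inferInstance, ⟨Over.isoMk P.left.isoSpec.symm ?_⟩⟩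
  change P.left.isoSpec.inv ≫ P.hom = Spec.map φ
  rw [Spec.map_preimage]

variable {H : Type u} [CommRing H] [HopfAlgebra k H] {X : Over (Spec (CommRingCat.of k))}
  {aX : AlgGrp.Action (sp k H) X} {𝒳 : AlgSt.Cat (Spec (CommRingCat.of k))}

theorem exists_chart (h𝒳 : FibCat.IsFibGrpd 𝒳.p)
    (hd : AlgSt.RepByAlgSpWith AlgSp.IsAffineMor (FibCat.diag (FibCat.toSelf 𝒳)))
    {V : Over (Spec (CommRingCat.of k))} (v : FibCat.overCat V ⥤ᵇ 𝒳) (hV : IsAffine V.left)
    (hv : AlgSt.RepByAlgSpWith (AlgSp.LocP @Smooth) v) (hv' : AlgSt.RepByAlgSpWith AlgSp.IsSurjectiveMor v)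
    (f : QuotSt Scheme.fppfPrecoverage (sp k H) aX ⥤ᵇ 𝒳) {L : Over (Spec (CommRingCat.of k))} (j : L ⟶ X)
    (hL : IsAffine L.left) (hft : LocallyOfFiniteType L.hom) :
    ∃ (C : Type u) (_ : CommRing C) (_ : Algebra k C) (_ : Algebra.FiniteType k C) (π : sp k C ⟶ L)
      (u : f.obj (tx aX (π ≫ j)) ⟶ v.obj (one' V)),
      IsUni f j π u ∧ Smooth π.left ∧ Surjective π.left := by
  have hVh : IsAffineHom V.hom := isAffineHom_of_isAffine _
  have hξ : IsAffine (sch 𝒳 (f.obj (tx aX j))) := by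
    change IsAffine (𝒳.p.obj (f.obj (tx aX j))).left
    rw [f.w_obj (tx aX j)]
    exact hL
  obtain ⟨o, κ, α, hp, ho, h1, h2⟩ := exists_prod h𝒳 hd v hVh hξ
  obtain ⟨u, hu⟩ := exists_isUni h𝒳 (ζ := v.obj (one' V)) j hp
  obtain ⟨C, i1, i2, ⟨i⟩⟩ := exists_sp (𝒳.p.obj o) ho
  have hI : IsIso (eqToHom (f.w_obj (tx aX j))).left :=
    inferInstanceAs (IsIso ((Over.forget _).map (eqToHom (f.w_obj (tx aX j)))))
  have hi : IsIso i.hom.left := inferInstanceAs (IsIso ((Over.forget _).map i.hom))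
  have hs := h1 hv
  have hs' := h2 hv'
  have h3 : Smooth (i.hom ≫ (𝒳.p.map α ≫ eqToHom (f.w_obj (tx aX j)) : 𝒳.p.obj o ⟶ L)).left := by
    rw [Over.comp_left, Over.comp_left]
    infer_instance
  have h4 : Surjective (i.hom ≫ (𝒳.p.map α ≫ eqToHom (f.w_obj (tx aX j)) : 𝒳.p.obj o ⟶ L)).left := by
    rw [Over.comp_left, Over.comp_left]
    infer_instance
  refine ⟨C, i1, i2, ?_, _, _, isUni_of_iso hu i, h3, h4⟩
  have h5 : LocallyOfFiniteType (sp k C).hom := by
    rw [← Over.w (i.hom ≫ (𝒳.p.map α ≫ eqToHom (f.w_obj (tx aX j)) : 𝒳.p.obj o ⟶ L))]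
    infer_instance
  exact (Groth.Agent.Books.AffBridge2.locallyOfFiniteType_specOver_iff k C).1 h5

end Sp

end K737.ChartC
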