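import Groth.Agent.AlgSt.K737.Image
import Groth.Agent.AlgSp.K595.DescInst

/-!
# K737.Closed: closed loci and points; descent of predicates with loci along fppf covers of the test scheme
-/

set_option backward.isDefEq.respectTransparency false
set_option backward.isDefEq.respectTransparency.types false

universe v₅ u₅ v₄ u₄ w₃ v₃ w₂ v₂ w v u

open CategoryTheory CategoryTheory.Limits AlgebraicGeometry Opposite

namespace K737.Closed

open K737.SubRep K737.Pts K737.LocLift K737.Chart K737.Open K735.Fib K735.Fp K735.Rep K735.Top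

theorem isIso_of_fac {Z U W : Scheme.{u}} (i : Z ⟶ U) [Mono i] (a : W ⟶ U) (h : W ⟶ Z) (e : h ≫ i = a)
    [Flat a] [Surjective a] [LocallyOfFinitePresentation a] : IsIso i := by
  have hd := K595.DescInst.isomorphisms.{u}
  have h1 : IsIso (pullback.snd i a) := by
    have : IsSplitEpi (pullback.snd i a) := ⟨⟨⟨pullback.lift h (𝟙 W) (by rw [e, Category.id_comp]),
      pullback.lift_snd _ _ _⟩⟩⟩
    exact isIso_of_mono_of_isSplitEpi _
  exact MorphismProperty.of_pullback_snd_of_descendsAlong (P := MorphismProperty.isomorphisms Scheme.{u})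
    (Q := K595.RepDesc.Fppf) (f := i) (g := a) ⟨⟨‹Surjective a›, ‹Flat a›⟩, ‹LocallyOfFinitePresentation a›⟩ h1

variable {S : Scheme.{u}} {𝒳 : BasedCategory.{v, w} (Over S)} {Q : 𝒳.obj → Prop}

/-- Predicates with loci given by monomorphisms descend along fppf covers of the test scheme. -/
theorem of_cover {P : MorphismProperty Scheme.{u}} (hP : P ≤ MorphismProperty.monomorphisms Scheme.{u})
    (H : HasLoci P Q) {U W : Over S} (y : FibCat.overCat U ⥤ᵇ 𝒳) (a : W ⟶ U) [Flat a.left] [Surjective a.left]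
    [LocallyOfFinitePresentation a.left] (h : Q (y.obj (Over.mk a))) (g : Over U) : Q (y.obj g) := by
  obtain ⟨Z, i, hi, hl⟩ := H U y
  obtain ⟨k, hk⟩ := (hl _).1 h
  have : Mono i.left := hP _ hi
  have h1 : IsIso i.left := isIso_of_fac i.left a.left k.left (congrArg (fun m => Over.Hom.left m) hk)
  have h1' : IsIso ((Over.forget S).map i) := h1
  have h2 : IsIso i := isIso_of_reflects_iso i (Over.forget S)
  exact (hl g).2 ⟨g.hom ≫ inv i, by rw [Category.assoc, IsIso.inv_hom_id, Category.comp_id]⟩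

/-- A closed locus containing all points of a reduced scheme is everything. -/
theorem of_isReduced (h𝒳 : FibCat.IsFibGrpd 𝒳.p)
    (hQ : ObjectProperty.IsClosedUnderIsomorphisms Q) (H : HasLoci @IsClosedImmersion Q) {U : Over S}
    [IsReduced U.left] (y : FibCat.overCat U ⥤ᵇ 𝒳)
    (hy : ∀ t, AlgSt.Points.ofChart y t ∈ Set.range (AlgSt.Points.map (AlgSt.subIncl 𝒳 Q))) (g : Over U) :
    Q (y.obj g) := by
  obtain ⟨Z, i, hi, hl⟩ := H U y
  have : IsClosedImmersion i.left := hi
  have hs : Surjective i.left := ⟨fun t => (H.ofChart_mem_range_iff closedImm_le_mono h𝒳 hQ y i hi hl t).1 (hy t)⟩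
  have h1 : IsIso i.left := isIso_of_isClosedImmersion_of_surjective i.left
  have h1' : IsIso ((Over.forget S).map i) := h1
  have h2 : IsIso i := isIso_of_reflects_iso i (Over.forget S)
  exact (hl g).2 ⟨g.hom ≫ inv i, by rw [Category.assoc, IsIso.inv_hom_id, Category.comp_id]⟩

variable {𝒴 : BasedCategory.{v₂, w₂} (Over S)}

/-- Closed substacks containing the image of a reduced stack. -/
theorem forall_of_range_subset (h𝒳 : FibCat.IsFibGrpd 𝒳.p) (h𝒴 : FibCat.IsFibGrpd 𝒴.p)
    (hat : AlgSt.HasAtlas (AlgSp.LocP @Smooth) 𝒴) (hred : AlgSt.SmoothLocally (fun X => IsReduced X) 𝒴)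
    (hQ : ObjectProperty.IsClosedUnderIsomorphisms Q) (H : HasLoci @IsClosedImmersion Q) (f : 𝒴 ⥤ᵇ 𝒳)
    (hf : Set.range (AlgSt.Points.map f) ⊆ Set.range (AlgSt.Points.map (AlgSt.subIncl 𝒳 Q))) (y : 𝒴.obj) :
    Q (f.obj y) := by
  obtain ⟨V, v, hv, hv'⟩ := hat
  have hV : IsReduced V.left := hred V v hv
  have h1 : ∀ g, Q ((BasedFunctor.comp v f).obj g) :=
    of_isReduced h𝒳 hQ H (BasedFunctor.comp v f) (fun t => hf ⟨AlgSt.Points.ofChart v t, rfl⟩)
  obtain ⟨η, e, he⟩ := Core.exists_yo h𝒴 y rfl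
  obtain ⟨W, a, b, ha, ha', ε, hε⟩ := LocLift.exists_lift η v hv hv'
  have : Smooth a.left := ha
  have h2 : Q ((BasedFunctor.comp η f).obj (Over.mk a)) :=
    hQ.of_iso (f.toFunctor.mapIso ε).symm (h1 (Over.mk b))
  have h3 : Q ((BasedFunctor.comp η f).obj (Over.mk (𝟙 _))) :=
    of_cover closedImm_le_mono H (BasedFunctor.comp η f) a h2 _
  exact hQ.of_iso (f.toFunctor.mapIso e) h3

end K737.Closed
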