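import Groth.Prelude.Def_FibCat2

/-!
# K737.Core: elementary calculus of categories over a base

* lifts in categories fibred in groupoids;
* the criterion for an equivalence over the base (full + faithful + essentially surjective over identities),
  and its converse;
* the functor `C/U ⥤ᵇ 𝒳` attached to an object of `𝒳` over `U`.
-/

set_option backward.isDefEq.respectTransparency false
set_option backward.isDefEq.respectTransparency.types false

universe v₄ u₄ v₃ u₃ v₂ u₂ v u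

open CategoryTheory CategoryTheory.Functor

namespace K737.Core

variable {C : Type u} [Category.{v} C]

section Grpd

variable {𝒳 : Type u₂} [Category.{v₂} 𝒳] {p : 𝒳 ⥤ C}

theorem exists_lift (hp : FibCat.IsFibGrpd p) {x : 𝒳} {U V : C} (hx : p.obj x = U) (f : V ⟶ U) :
    ∃ (y : 𝒳) (φ : y ⟶ x), p.IsHomLift f φ := by
  subst hx
  exact hp.exists_lift f

theorem isStronglyCartesian (hp : FibCat.IsFibGrpd p) {R T : C} (f : R ⟶ T) {a b : 𝒳} (φ : a ⟶ b)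
    [h : p.IsHomLift f φ] : p.IsStronglyCartesian f φ := by
  obtain ⟨⟩ := h
  exact hp.isStronglyCartesian φ

/-- factorisation through a morphism of a category fibred in groupoids. -/
theorem exists_fac (hp : FibCat.IsFibGrpd p) {x y z : 𝒳} {U V W : C} (f : V ⟶ U) (φ : y ⟶ x)
    [p.IsHomLift f φ] (g : W ⟶ V) (ψ : z ⟶ x) [p.IsHomLift (g ≫ f) ψ] :
    ∃ χ : z ⟶ y, p.IsHomLift g χ ∧ χ ≫ φ = ψ := by
  have := isStronglyCartesian hp f φ
  exact ⟨IsStronglyCartesian.map p f φ (rfl : g ≫ f = g ≫ f) ψ,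
    IsStronglyCartesian.map_isHomLift p f φ (rfl : g ≫ f = g ≫ f) ψ,
    IsStronglyCartesian.fac p f φ (rfl : g ≫ f = g ≫ f) ψ⟩

theorem fac_unique (hp : FibCat.IsFibGrpd p) {x y z : 𝒳} {U V W : C} (f : V ⟶ U) (φ : y ⟶ x)
    [p.IsHomLift f φ] (g : W ⟶ V) (χ χ' : z ⟶ y) [p.IsHomLift g χ] [p.IsHomLift g χ']
    (h : χ ≫ φ = χ' ≫ φ) : χ = χ' := by
  have := isStronglyCartesian hp f φ
  exact IsStronglyCartesian.ext p f φ g h

/-- a morphism lying over an identity is an isomorphism. -/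
theorem isIso_of_lift_id (hp : FibCat.IsFibGrpd p) {x y : 𝒳} {U : C} (φ : y ⟶ x)
    [p.IsHomLift (𝟙 U) φ] : IsIso φ := by
  have := isStronglyCartesian hp (𝟙 U) φ
  exact IsStronglyCartesian.isIso_of_base_isIso p (𝟙 U) φ

theorem isIso_of_lift_isIso (hp : FibCat.IsFibGrpd p) {x y : 𝒳} {U V : C} (f : V ⟶ U) [IsIso f] (φ : y ⟶ x)
    [p.IsHomLift f φ] : IsIso φ := by
  have := isStronglyCartesian hp f φ
  exact IsStronglyCartesian.isIso_of_base_isIso p f φ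

end Grpd

section Equiv

variable {𝒳 : BasedCategory.{v₂, u₂} C} {𝒴 : BasedCategory.{v₃, u₃} C}

/-- Criterion for an equivalence over the base. -/
theorem isEquivOver_of (F : 𝒳 ⥤ᵇ 𝒴) (hfull : F.toFunctor.Full) (hfaith : F.toFunctor.Faithful)
    (hess : ∀ η : 𝒴.obj, ∃ (ξ : 𝒳.obj) (e : F.obj ξ ≅ η), 𝒴.p.IsHomLift (𝟙 (𝒴.p.obj η)) e.hom) :
    FibCat.IsEquivOver F := by
  choose ξ e he using hess
  have hlift : ∀ {a b : 𝒴.obj} (φ : a ⟶ b),
      𝒳.p.IsHomLift (𝒴.p.map φ) (F.toFunctor.preimage ((e a).hom ≫ φ ≫ (e b).inv)) := by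
    intro a b φ
    rw [← BasedFunctor.isHomLift_iff F]
    have := he a
    have := he b
    have h : F.map (F.toFunctor.preimage ((e a).hom ≫ φ ≫ (e b).inv)) = (e a).hom ≫ φ ≫ (e b).inv :=
      F.toFunctor.map_preimage _
    rw [h]
    infer_instance
  have hobj : ∀ a : 𝒴.obj, 𝒳.p.obj (ξ a) = 𝒴.p.obj a := by
    intro a
    have := he a
    rw [← F.w_obj]
    exact IsHomLift.domain_eq 𝒴.p (𝟙 (𝒴.p.obj a)) (e a).hom
  let G : 𝒴 ⥤ᵇ 𝒳 :=
    { obj := ξ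
      map := fun {a b} φ => F.toFunctor.preimage ((e a).hom ≫ φ ≫ (e b).inv)
      map_id := fun a => by
        apply F.toFunctor.map_injective
        simp
      map_comp := fun {a b c} φ ψ => by
        apply F.toFunctor.map_injective
        simp
      w := Functor.ext hobj (fun a b φ => by
        have := hlift φ
        exact IsHomLift.fac' 𝒳.p (𝒴.p.map φ) (F.toFunctor.preimage ((e a).hom ≫ φ ≫ (e b).inv))) }
  refine ⟨G, ⟨?_⟩, ⟨?_⟩⟩
  · refine BasedNatIso.mkNatIso (NatIso.ofComponents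
      (fun x => F.toFunctor.preimageIso (e (F.obj x))) ?_) ?_
    · intro x y f
      apply F.toFunctor.map_injective
      change F.toFunctor.map (F.toFunctor.preimage ((e (F.obj x)).hom ≫ F.map f ≫ (e (F.obj y)).inv) ≫
        F.toFunctor.preimage (e (F.obj y)).hom) = F.toFunctor.map (F.toFunctor.preimage (e (F.obj x)).hom ≫ f)
      simp
    · intro x
      have := he (F.obj x)
      change 𝒳.p.IsHomLift (𝟙 (𝒳.p.obj x)) (F.toFunctor.preimage (e (F.obj x)).hom)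
      rw [← BasedFunctor.isHomLift_iff F]
      have h : F.map (F.toFunctor.preimage (e (F.obj x)).hom) = (e (F.obj x)).hom :=
        F.toFunctor.map_preimage _
      rw [h, ← F.w_obj x]
      exact this
  · refine BasedNatIso.mkNatIso (NatIso.ofComponents e ?_) ?_
    · intro x y f
      change F.toFunctor.map (F.toFunctor.preimage ((e x).hom ≫ f ≫ (e y).inv)) ≫ (e y).hom = (e x).hom ≫ f
      simp
    · intro x
      exact he x

theorem IsEquivOver.exists_iso {F : 𝒳 ⥤ᵇ 𝒴} (hF : FibCat.IsEquivOver F) (η : 𝒴.obj) :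
    ∃ (ξ : 𝒳.obj) (e : F.obj ξ ≅ η), 𝒴.p.IsHomLift (𝟙 (𝒴.p.obj η)) e.hom := by
  obtain ⟨G, -, ⟨β⟩⟩ := hF
  exact ⟨G.obj η, ((BasedNatTrans.forgetful _ _).mapIso β).app η, BasedNatTrans.isHomLift β.hom (by simp)⟩

theorem IsEquivOver.isEquivalence {F : 𝒳 ⥤ᵇ 𝒴} (hF : FibCat.IsEquivOver F) : F.toFunctor.IsEquivalence := by
  obtain ⟨G, ⟨α⟩, ⟨β⟩⟩ := hF
  exact (CategoryTheory.Equivalence.mk F.toFunctor G.toFunctor
    ((BasedNatTrans.forgetful _ _).mapIso α).symm ((BasedNatTrans.forgetful _ _).mapIso β)).isEquivalence_functor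

theorem IsEquivOver.full {F : 𝒳 ⥤ᵇ 𝒴} (hF : FibCat.IsEquivOver F) : F.toFunctor.Full := by
  have := IsEquivOver.isEquivalence hF
  infer_instance

theorem IsEquivOver.faithful {F : 𝒳 ⥤ᵇ 𝒴} (hF : FibCat.IsEquivOver F) : F.toFunctor.Faithful := by
  have := IsEquivOver.isEquivalence hF
  infer_instance

end Equiv

section Yoneda

variable {𝒳 : BasedCategory.{v₂, u₂} C}

section

variable (h𝒳 : FibCat.IsFibGrpd 𝒳.p) {U : C} (x : 𝒳.obj) (hx : 𝒳.p.obj x = U)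

include h𝒳 hx

/-- the chosen lift -/
noncomputable def yoObj (g : Over U) : 𝒳.obj := (exists_lift h𝒳 hx g.hom).choose

/-- the chosen lift -/
noncomputable def yoLift (g : Over U) : yoObj h𝒳 x hx g ⟶ x := (exists_lift h𝒳 hx g.hom).choose_spec.choose

theorem yoLift_isHomLift (g : Over U) : 𝒳.p.IsHomLift g.hom (yoLift h𝒳 x hx g) :=
  (exists_lift h𝒳 hx g.hom).choose_spec.choose_spec

theorem yoMap_exists {g g' : Over U} (h : g ⟶ g') :
    ∃ χ : yoObj h𝒳 x hx g ⟶ yoObj h𝒳 x hx g', 𝒳.p.IsHomLift h.left χ ∧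
      χ ≫ yoLift h𝒳 x hx g' = yoLift h𝒳 x hx g := by
  have := yoLift_isHomLift h𝒳 x hx g
  have := yoLift_isHomLift h𝒳 x hx g'
  have : 𝒳.p.IsHomLift (h.left ≫ g'.hom) (yoLift h𝒳 x hx g) := by
    rw [Over.w h]; infer_instance
  exact exists_fac h𝒳 g'.hom (yoLift h𝒳 x hx g') h.left (yoLift h𝒳 x hx g)

/-- the functor `C/U ⟶ 𝒳` of an object over `U` -/
noncomputable def yoMap {g g' : Over U} (h : g ⟶ g') : yoObj h𝒳 x hx g ⟶ yoObj h𝒳 x hx g' :=
  (yoMap_exists h𝒳 x hx h).choose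

theorem yoMap_isHomLift {g g' : Over U} (h : g ⟶ g') : 𝒳.p.IsHomLift h.left (yoMap h𝒳 x hx h) :=
  (yoMap_exists h𝒳 x hx h).choose_spec.1

theorem yoMap_fac {g g' : Over U} (h : g ⟶ g') :
    yoMap h𝒳 x hx h ≫ yoLift h𝒳 x hx g' = yoLift h𝒳 x hx g :=
  (yoMap_exists h𝒳 x hx h).choose_spec.2

/-- The functor `C/U ⥤ᵇ 𝒳` attached to an object `x` of `𝒳` over `U` (2-Yoneda). -/
noncomputable def yo : FibCat.overCat U ⥤ᵇ 𝒳 where
  obj g := yoObj h𝒳 x hx g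
  map h := yoMap h𝒳 x hx h
  map_id g := by
    have := yoLift_isHomLift h𝒳 x hx g
    have := yoMap_isHomLift h𝒳 x hx (𝟙 g)
    have : 𝒳.p.IsHomLift (𝟙 g.left) (yoMap h𝒳 x hx (𝟙 g)) := this
    have h2 : 𝒳.p.IsHomLift (𝟙 g.left) (𝟙 (yoObj h𝒳 x hx g)) :=
      IsHomLift.id (IsHomLift.domain_eq 𝒳.p g.hom (yoLift h𝒳 x hx g))
    refine fac_unique h𝒳 g.hom (yoLift h𝒳 x hx g) (𝟙 g.left) _ _ ?_
    rw [yoMap_fac, Category.id_comp]
  map_comp {g g' g''} f f' := by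
    have := yoLift_isHomLift h𝒳 x hx g''
    have := yoMap_isHomLift h𝒳 x hx f
    have := yoMap_isHomLift h𝒳 x hx f'
    have := yoMap_isHomLift h𝒳 x hx (f ≫ f')
    have : 𝒳.p.IsHomLift (f.left ≫ f'.left) (yoMap h𝒳 x hx (f ≫ f')) := this
    refine fac_unique h𝒳 g''.hom (yoLift h𝒳 x hx g'') (f.left ≫ f'.left) _ _ ?_
    rw [yoMap_fac, Category.assoc, yoMap_fac, yoMap_fac]
  w := Functor.ext (fun g => by
      have := yoLift_isHomLift h𝒳 x hx g
      exact IsHomLift.domain_eq 𝒳.p g.hom (yoLift h𝒳 x hx g))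
    (fun g g' h => by
      have := yoMap_isHomLift h𝒳 x hx h
      exact IsHomLift.fac' 𝒳.p h.left (yoMap h𝒳 x hx h))

/-- The structure morphism of `yo x (g)` to `x`. -/
noncomputable def yoTo (g : Over U) : (yo h𝒳 x hx).obj g ⟶ x := yoLift h𝒳 x hx g

theorem yoTo_isHomLift (g : Over U) : 𝒳.p.IsHomLift g.hom (yoTo h𝒳 x hx g) := yoLift_isHomLift h𝒳 x hx g

theorem yo_map_yoTo {g g' : Over U} (h : g ⟶ g') :
    (yo h𝒳 x hx).map h ≫ yoTo h𝒳 x hx g' = yoTo h𝒳 x hx g := yoMap_fac h𝒳 x hx h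

theorem isIso_yoTo_id : IsIso (yoTo h𝒳 x hx (Over.mk (𝟙 U))) := by
  have : 𝒳.p.IsHomLift (𝟙 U) (yoTo h𝒳 x hx (Over.mk (𝟙 U))) := yoTo_isHomLift h𝒳 x hx (Over.mk (𝟙 U))
  exact isIso_of_lift_id h𝒳 (U := U) _

end

/-- every functor `y : C/U ⥤ᵇ 𝒳`: the map `y g ⟶ y (𝟙 U)`. -/
def toBase {U : C} (y : FibCat.overCat U ⥤ᵇ 𝒳) (g : Over U) : y.obj g ⟶ y.obj (Over.mk (𝟙 U)) :=
  y.map (Over.homMk g.hom)

theorem toBase_isHomLift {U : C} (y : FibCat.overCat U ⥤ᵇ 𝒳) (g : Over U) :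
    𝒳.p.IsHomLift g.hom (toBase y g) := by
  have : (FibCat.overCat U).p.IsHomLift g.hom (Over.homMk g.hom : g ⟶ Over.mk (𝟙 U)) :=
    IsHomLift.map (Over.forget U) (Over.homMk g.hom : g ⟶ Over.mk (𝟙 U))
  exact BasedFunctor.preserves_isHomLift y _ _

/-- two lifts of one morphism with the same target are isomorphic over the identity. -/
theorem exists_iso_of_lifts (h𝒳 : FibCat.IsFibGrpd 𝒳.p) {U V : C} {x z z' : 𝒳.obj} (f : V ⟶ U) (φ : z ⟶ x) (φ' : z' ⟶ x)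
    [𝒳.p.IsHomLift f φ] [𝒳.p.IsHomLift f φ'] :
    ∃ e : z ≅ z', 𝒳.p.IsHomLift (𝟙 V) e.hom ∧ e.hom ≫ φ' = φ := by
  have : 𝒳.p.IsHomLift (𝟙 V ≫ f) φ := by rw [Category.id_comp]; infer_instance
  obtain ⟨χ, hχ, hχ'⟩ := exists_fac h𝒳 f φ' (𝟙 V) φ
  have := isIso_of_lift_id h𝒳 (U := V) χ
  exact ⟨asIso χ, hχ, hχ'⟩

/-- an object mapping to a value of `y` is a value of `y`. -/
theorem exists_iso_obj (h𝒳 : FibCat.IsFibGrpd 𝒳.p) {U : C} (y : FibCat.overCat U ⥤ᵇ 𝒳) (g : Over U) {V : C}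
    (f : V ⟶ g.left) {z : 𝒳.obj} (φ : z ⟶ y.obj g) [𝒳.p.IsHomLift f φ] :
    ∃ e : y.obj (Over.mk (f ≫ g.hom)) ≅ z, 𝒳.p.IsHomLift (𝟙 V) e.hom ∧
      e.hom ≫ φ = y.map (Over.homMk f rfl : Over.mk (f ≫ g.hom) ⟶ g) := by
  have h : 𝒳.p.IsHomLift f (y.map (Over.homMk f rfl : Over.mk (f ≫ g.hom) ⟶ g)) := by
    have : (FibCat.overCat U).p.IsHomLift f (Over.homMk f rfl : Over.mk (f ≫ g.hom) ⟶ g) :=
      IsHomLift.map (Over.forget U) (Over.homMk f rfl : Over.mk (f ≫ g.hom) ⟶ g)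
    exact BasedFunctor.preserves_isHomLift y _ _
  exact exists_iso_of_lifts h𝒳 f (y.map (Over.homMk f rfl : Over.mk (f ≫ g.hom) ⟶ g)) φ

/-- every morphism `φ : z ⟶ y g` exhibits `z` as a value of `y`. -/
theorem exists_iso_obj' (h𝒳 : FibCat.IsFibGrpd 𝒳.p) {U : C} (y : FibCat.overCat U ⥤ᵇ 𝒳) (g : Over U)
    {z : 𝒳.obj} (φ : z ⟶ y.obj g) :
    ∃ f : 𝒳.p.obj z ⟶ g.left, 𝒳.p.IsHomLift f φ ∧
      ∃ e : y.obj (Over.mk (f ≫ g.hom)) ≅ z, 𝒳.p.IsHomLift (𝟙 (𝒳.p.obj z)) e.hom ∧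
      e.hom ≫ φ = y.map (Over.homMk f rfl : Over.mk (f ≫ g.hom) ⟶ g) := by
  refine ⟨𝒳.p.map φ ≫ eqToHom (y.w_obj g), inferInstance, ?_⟩
  exact exists_iso_obj h𝒳 y g (𝒳.p.map φ ≫ eqToHom (y.w_obj g)) φ

/-- every object is a value of a functor from a slice. -/
theorem exists_yo (h𝒳 : FibCat.IsFibGrpd 𝒳.p) {U : C} (x : 𝒳.obj) (hx : 𝒳.p.obj x = U) :
    ∃ (y : FibCat.overCat U ⥤ᵇ 𝒳) (e : y.obj (Over.mk (𝟙 U)) ≅ x), 𝒳.p.IsHomLift (𝟙 U) e.hom := by
  have := isIso_yoTo_id h𝒳 x hx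
  exact ⟨yo h𝒳 x hx, asIso (yoTo h𝒳 x hx (Over.mk (𝟙 U))), yoTo_isHomLift h𝒳 x hx (Over.mk (𝟙 U))⟩

/-- 2-isomorphisms between functors out of a slice from an isomorphism of the values at the identity. -/
theorem nonempty_iso_of_iso (h𝒳 : FibCat.IsFibGrpd 𝒳.p) {U : C} (y y' : FibCat.overCat U ⥤ᵇ 𝒳)
    (e : y.obj (Over.mk (𝟙 U)) ≅ y'.obj (Over.mk (𝟙 U))) (he : 𝒳.p.IsHomLift (𝟙 U) e.hom) :
    ∃ α : y ≅ y', α.hom.toNatTrans.app (Over.mk (𝟙 U)) = e.hom := by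
  have hex : ∀ g : Over U, ∃ ε : y.obj g ≅ y'.obj g, 𝒳.p.IsHomLift (𝟙 g.left) ε.hom ∧
      ε.hom ≫ toBase y' g = toBase y g ≫ e.hom := by
    intro g
    have := toBase_isHomLift y g
    have := toBase_isHomLift y' g
    exact exists_iso_of_lifts h𝒳 g.hom (toBase y g ≫ e.hom) (toBase y' g)
  choose ε hε hε' using hex
  have hnat : ∀ {g g' : Over U} (h : g ⟶ g'), y.map h ≫ (ε g').hom = (ε g).hom ≫ y'.map h := by
    intro g g' h
    have := toBase_isHomLift y' g'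
    have := hε g'
    have := hε g
    have l1 : 𝒳.p.IsHomLift h.left (y.map h) := by
      have : (FibCat.overCat U).p.IsHomLift h.left h := IsHomLift.map (Over.forget U) h
      exact BasedFunctor.preserves_isHomLift y _ _
    have l2 : 𝒳.p.IsHomLift h.left (y'.map h) := by
      have : (FibCat.overCat U).p.IsHomLift h.left h := IsHomLift.map (Over.forget U) h
      exact BasedFunctor.preserves_isHomLift y' _ _
    refine fac_unique h𝒳 g'.hom (toBase y' g') h.left _ _ ?_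
    rw [Category.assoc, hε', Category.assoc]
    have e1 : y'.map h ≫ toBase y' g' = toBase y' g := by
      rw [toBase, ← y'.toFunctor.map_comp]
      exact congrArg _ (Over.OverMorphism.ext (Over.w h))
    have e2 : y.map h ≫ toBase y g' = toBase y g := by
      rw [toBase, ← y.toFunctor.map_comp]
      exact congrArg _ (Over.OverMorphism.ext (Over.w h))
    rw [e1, hε', ← Category.assoc, e2]
  refine ⟨BasedNatIso.mkNatIso (NatIso.ofComponents ε hnat) (fun g => hε g), ?_⟩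
  change (ε (Over.mk (𝟙 U))).hom = e.hom
  have h1 := hε' (Over.mk (𝟙 U))
  have h2 : toBase y (Over.mk (𝟙 U)) = 𝟙 _ := by
    rw [toBase, ← y.toFunctor.map_id]
    exact congrArg _ (Over.OverMorphism.ext rfl)
  have h3 : toBase y' (Over.mk (𝟙 U)) = 𝟙 _ := by
    rw [toBase, ← y'.toFunctor.map_id]
    exact congrArg _ (Over.OverMorphism.ext rfl)
  rw [h2, h3, Category.comp_id, Category.id_comp] at h1
  exact h1

end Yoneda

end K737.Core
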