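import Groth.Agent.AlgSt.K734.FibFp

/-!
# K737.DiagSq: the diagonal square of a fully faithful functor
-/

set_option autoImplicit false
set_option backward.isDefEq.respectTransparency false
set_option backward.isDefEq.respectTransparency.types false

universe v₄ u₄ v₃ u₃ v₂ u₂ v u

open CategoryTheory CategoryTheory.Limits K734.Fib

namespace K737.DiagSq

variable {C : Type u} [Category.{v} C] {𝒳 : BasedCategory.{v₂, u₂} C} {𝒳' : BasedCategory.{v₃, u₃} C}
  {𝒴 : BasedCategory.{v₄, u₄} C}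

theorem isTwoCartOver (i : 𝒳 ⥤ᵇ 𝒳') (g : 𝒳' ⥤ᵇ 𝒴) (hf : i.toFunctor.Full) (hf' : i.toFunctor.Faithful) :
    FibCat.IsTwoCartOver
      (F := (FibCat.fpLift (BasedFunctor.comp (FibCat.fpFst (BasedFunctor.comp i g) (BasedFunctor.comp i g)) i)
        (BasedFunctor.comp (FibCat.fpSnd (BasedFunctor.comp i g) (BasedFunctor.comp i g)) i)
          (FibCat.fpIso (BasedFunctor.comp i g) (BasedFunctor.comp i g))))
      (G := FibCat.diag g) (FibCat.diag (BasedFunctor.comp i g)) i (Iso.refl _) := by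
  refine isTwoCart_of _ _ _ ?_ ?_ ?_
  · intro w w' f g' hfg
    have h1 : i.map f.hom.fst ≫ 𝟙 _ = 𝟙 _ ≫ g' := congrArg (fun k => k.hom.fst) hfg
    have h2 : i.map f.hom.snd ≫ 𝟙 _ = 𝟙 _ ≫ g' := congrArg (fun k => k.hom.snd) hfg
    rw [Category.comp_id, Category.id_comp] at h1 h2
    refine ⟨f.hom.fst, homFp_ext rfl ?_, h1⟩
    exact i.toFunctor.map_injective (h1.trans h2.symm)
  · intro w w' h h' e _
    exact congrArg (fun k => k.hom.fst) e
  · intro x y φ hφ
    let ψ1 : i.obj x.obj.fst ≅ y :=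
      { hom := φ.hom.hom.fst
        inv := φ.inv.hom.fst
        hom_inv_id := congrArg (fun k => k.hom.fst) φ.hom_inv_id
        inv_hom_id := congrArg (fun k => k.hom.fst) φ.inv_hom_id }
    let ψ2 : i.obj x.obj.snd ≅ y :=
      { hom := φ.hom.hom.snd
        inv := φ.inv.hom.snd
        hom_inv_id := congrArg (fun k => k.hom.snd) φ.hom_inv_id
        inv_hom_id := congrArg (fun k => k.hom.snd) φ.inv_hom_id }
    have hw : g.map ψ1.hom ≫ 𝟙 _ = x.obj.iso.hom ≫ g.map ψ2.hom := φ.hom.hom.w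
    rw [Category.comp_id] at hw
    let α2 : x.obj.fst ≅ x.obj.snd := i.toFunctor.preimageIso (ψ1 ≪≫ ψ2.symm)
    have hα2 : i.map α2.hom = ψ1.hom ≫ ψ2.inv := i.toFunctor.map_preimage _
    have hφ2 : g.map (i.map α2.hom) = x.obj.iso.hom := by
      have h3 : g.map ψ2.hom ≫ g.map ψ2.inv = 𝟙 _ := by rw [← g.map_comp]; simp
      rw [hα2, g.map_comp, hw, Category.assoc, h3]
      exact Category.comp_id _
    refine ⟨x.obj.fst, mkIsoFp (Iso.refl _) α2 ?_, ψ1, ?_, ?_⟩
    · change (BasedFunctor.comp i g).map (𝟙 _) ≫ x.obj.iso.hom = 𝟙 _ ≫ g.map (i.map α2.hom)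
      rw [hφ2, (BasedFunctor.comp i g).map_id, Category.id_comp, Category.id_comp]
    · rw [vert_fp_iff_fst]
      exact IsVert.id _
    · apply homFp_ext
      · change i.map (𝟙 _) ≫ ψ1.hom = 𝟙 _ ≫ ψ1.hom
        rw [i.map_id]
      · change i.map α2.hom ≫ ψ2.hom = 𝟙 _ ≫ ψ1.hom
        rw [hα2, Category.assoc, ψ2.inv_hom_id, Category.comp_id, Category.id_comp]

end K737.DiagSq
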