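import Groth.Agent.AlgSt.K737.FreeOrb
import Groth.Agent.AlgSt.K737.AffAct
import Groth.Agent.Books.HopfJordan
import Mathlib.AlgebraicGeometry.PullbackCarrier

/-!
# Invariant neighbourhoods

`K` algebraically closed, `H` linearly reductive of finite type, `q : A → C` an equivariant map of
comodule algebras of finite type, open and surjective on spectra; `w` a point of `Spec A` with closed
orbit such that the points of `Spec C` over the orbit of `w` have trivial stabilisers. Then there is an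
invariant `s` in `A` with `s(w) = 1` such that each point of `D(s)` is the image of a point of `Spec C`
near which the action is free.
-/

set_option autoImplicit false
set_option linter.unusedSectionVars false
set_option linter.unusedVariables false
set_option linter.style.haveILetI false
set_option backward.isDefEq.respectTransparency false
set_option backward.isDefEq.respectTransparency.types false

universe u

open TensorProduct HopfRep GLin
open scoped CategoryTheory

namespace K737.InvNbhd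

open Groth.Agent.Books Groth.Agent.Books.ComodBasic Groth.Agent.Books.ComodHom
open K737.Gal K737.FreeOrb

variable {k : Type u} [Field k] {H : Type u} [CommRing H] [HopfAlgebra k H]

section Mv

variable {A : Type u} [CommRing A] [Algebra k A] [Comod k H A] [IsCoactAlg k H A]
variable {R : Type u} [CommRing R] [Algebra k R]

/-- the point `x` moved by the point `g` -/
noncomputable def mv (x : A →ₐ[k] R) (g : H →ₐ[k] R) : A →ₐ[k] R :=
  (Algebra.TensorProduct.lift x g (fun _ _ => .all _ _)).comp (coactAlgHom k H A)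

theorem pt_mv (x : A →ₐ[k] R) (g : H →ₐ[k] R) :
    CoactBr.pt (mv x g) = CategoryTheory.CartesianMonoidalCategory.lift (CoactBr.pt x) (CoactBr.pt g) ≫
      CoactBr.ract k H A := (CoactBr.lift_pt_ract x g).symm

theorem pt_injective {B : Type u} [CommRing B] [Algebra k B] :
    Function.Injective (fun x : B →ₐ[k] R => CoactBr.pt x) := by
  intro x y h
  have h1 : (CoactBr.pt x).left = (CoactBr.pt y).left := by rw [show CoactBr.pt x = CoactBr.pt y from h]
  have h2 : CommRingCat.ofHom x.toRingHom = CommRingCat.ofHom y.toRingHom :=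
    AlgebraicGeometry.Spec.map_injective h1
  have h3 := congrArg CommRingCat.Hom.hom h2
  exact AlgHom.ext fun b => congrArg (fun f : B →+* R => f b) h3

open CategoryTheory MonObj in
theorem mv_mv_inv (x : A →ₐ[k] R) (g : H →ₐ[k] R) :
    mv (mv x g) (g.comp (HopfAlgebra.antipodeAlgHom k H)) = x := by
  apply pt_injective
  change CoactBr.pt _ = CoactBr.pt _
  rw [pt_mv, pt_mv, ← CoactBr.pt_inv, CoactBr.lift_ract_ract, mul_inv_cancel, CoactBr.lift_one_ract]

theorem mv_invariant (x : A →ₐ[k] R) (g : H →ₐ[k] R) {h : A} (hh : h ∈ invariants k H A) :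
    mv x g h = x h := by
  change (Algebra.TensorProduct.lift x g (fun _ _ => .all _ _)) (Comod.coact (k := k) (A := H) h) = _
  rw [(mem_invariants_iff k H A h).1 hh, Algebra.TensorProduct.lift_tmul, map_one, mul_one]

theorem comp_mv {R' : Type u} [CommRing R'] [Algebra k R'] (f : R →ₐ[k] R') (x : A →ₐ[k] R) (g : H →ₐ[k] R) :
    f.comp (mv x g) = mv (f.comp x) (f.comp g) := by
  have h : f.comp (Algebra.TensorProduct.lift x g (fun _ _ => .all _ _)) =
      Algebra.TensorProduct.lift (f.comp x) (f.comp g) (fun _ _ => .all _ _) := by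
    ext a <;> simp
  change (f.comp (Algebra.TensorProduct.lift x g (fun _ _ => .all _ _))).comp (coactAlgHom k H A) = _
  rw [h]
  rfl

variable {C : Type u} [CommRing C] [Algebra k C] [Comod k H C] [IsCoactAlg k H C]

theorem mv_comp {q : A →ₐ[k] C}
    (hq : (coactAlgHom k H C).comp q = (Algebra.TensorProduct.map q (AlgHom.id k H)).comp (coactAlgHom k H A))
    (x : C →ₐ[k] R) (g : H →ₐ[k] R) : (mv x g).comp q = mv (x.comp q) g := by
  have h : (Algebra.TensorProduct.lift x g (fun _ _ => .all _ _)).comp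
      (Algebra.TensorProduct.map q (AlgHom.id k H)) =
      Algebra.TensorProduct.lift (x.comp q) g (fun _ _ => .all _ _) := by
    ext a <;> simp
  change (Algebra.TensorProduct.lift x g (fun _ _ => .all _ _)).comp ((coactAlgHom k H C).comp q) = _
  rw [hq, ← AlgHom.comp_assoc, h]
  rfl

end Mv

/-- common field extensions -/
theorem exists_field {A C : Type u} [CommRing A] [Algebra k A] [CommRing C] [Algebra k C]
    (q : A →ₐ[k] C) (c : PrimeSpectrum C) {Ω : Type u} [Field Ω] [Algebra k Ω] (x : A →ₐ[k] Ω)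
    (h : c.asIdeal.comap q = RingHom.ker x) :
    ∃ (Ω' : Type u) (_ : Field Ω') (_ : Algebra k Ω') (y : C →ₐ[k] Ω') (ψ : Ω →ₐ[k] Ω'),
      y.comp q = ψ.comp x ∧ RingHom.ker y = c.asIdeal := by
  letI := q.toRingHom.toAlgebra
  letI := x.toRingHom.toAlgebra
  have i1 : IsScalarTower k A C := IsScalarTower.of_algebraMap_eq fun r => (q.commutes r).symm
  have i2 : IsScalarTower k A Ω := IsScalarTower.of_algebraMap_eq fun r => (x.commutes r).symm
  have hP := AlgebraicGeometry.isPullback_SpecMap_of_isPushout _ _ _ _ (CommRingCat.isPushout_tensorProduct A C Ω)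
  obtain ⟨z, hz1, hz2⟩ := AlgebraicGeometry.Scheme.exists_preimage_of_isPullback hP
    (c : AlgebraicGeometry.Spec (CommRingCat.of C)) ((⊥ : PrimeSpectrum Ω) : AlgebraicGeometry.Spec (CommRingCat.of Ω))
    (by
      apply PrimeSpectrum.ext
      change c.asIdeal.comap q.toRingHom = (⊥ : Ideal Ω).comap x.toRingHom
      exact h)
  let P : Ideal (C ⊗[A] Ω) := z.asIdeal
  have hPP : P.IsPrime := z.isPrime
  have hz : P.comap (Algebra.TensorProduct.includeLeft : C →ₐ[A] C ⊗[A] Ω) = c.asIdeal :=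
    congrArg PrimeSpectrum.asIdeal hz1
  let e := algebraMap (C ⊗[A] Ω) P.ResidueField
  letI : Algebra k P.ResidueField := (e.comp (algebraMap k (C ⊗[A] Ω))).toAlgebra
  let y : C →ₐ[k] P.ResidueField :=
    { toRingHom := e.comp (Algebra.TensorProduct.includeLeft : C →ₐ[A] C ⊗[A] Ω).toRingHom
      commutes' := fun r => rfl }
  let ψ : Ω →ₐ[k] P.ResidueField :=
    { toRingHom := e.comp (Algebra.TensorProduct.includeRight : Ω →ₐ[A] C ⊗[A] Ω).toRingHom
      commutes' := fun r => by
        change e ((1 : C) ⊗ₜ[A] algebraMap k Ω r) = e ((algebraMap k C r) ⊗ₜ[A] (1 : Ω))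
        congr 1
        rw [IsScalarTower.algebraMap_apply k A Ω, IsScalarTower.algebraMap_apply k A C,
          Algebra.algebraMap_eq_smul_one (A := Ω), Algebra.algebraMap_eq_smul_one (A := C), TensorProduct.smul_tmul] }
  refine ⟨P.ResidueField, inferInstance, inferInstance, y, ψ, ?_, ?_⟩
  · ext a
    change e ((algebraMap A C a) ⊗ₜ[A] (1 : Ω)) = e ((1 : C) ⊗ₜ[A] algebraMap A Ω a)
    congr 1
    rw [Algebra.algebraMap_eq_smul_one (A := Ω), Algebra.algebraMap_eq_smul_one (A := C), TensorProduct.smul_tmul]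
  · ext a
    rw [RingHom.mem_ker, ← hz, Ideal.mem_comap]
    change e (a ⊗ₜ 1) = 0 ↔ (a ⊗ₜ 1) ∈ P
    exact Ideal.algebraMap_residueField_eq_zero

section Core

variable {A : Type u} [CommRing A] [Algebra k A] [Comod k H A] [IsCoactAlg k H A]

open CategoryTheory MonObj in
theorem mv_counit {R : Type u} [CommRing R] [Algebra k R] (x : A →ₐ[k] R) :
    mv x ((Algebra.ofId k R).comp (Bialgebra.counitAlgHom k H)) = x := by
  apply pt_injective
  change CoactBr.pt _ = CoactBr.pt _
  rw [pt_mv, ← CoactBr.one_eq_pt, CoactBr.lift_one_ract]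

variable (k H) in
/-- `A → (A/I) ⊗ H` -/
noncomputable def coreHom (I : Ideal A) : A →ₐ[k] (A ⧸ I) ⊗[k] H :=
  (Algebra.TensorProduct.map (Ideal.Quotient.mkₐ k I) (AlgHom.id k H)).comp (coactAlgHom k H A)

theorem lift_comp_coreHom (I : Ideal A) {R : Type u} [CommRing R] [Algebra k R] (x : (A ⧸ I) →ₐ[k] R)
    (g : H →ₐ[k] R) : (Algebra.TensorProduct.lift x g (fun _ _ => .all _ _)).comp (coreHom k H I) =
      mv (x.comp (Ideal.Quotient.mkₐ k I)) g := by
  have h : (Algebra.TensorProduct.lift x g (fun _ _ => .all _ _)).comp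
      (Algebra.TensorProduct.map (Ideal.Quotient.mkₐ k I) (AlgHom.id k H)) =
      Algebra.TensorProduct.lift (x.comp (Ideal.Quotient.mkₐ k I)) g (fun _ _ => .all _ _) := by
    ext a <;> simp
  rw [coreHom, ← AlgHom.comp_assoc, h]
  rfl

theorem ker_coreHom_le (I : Ideal A) : RingHom.ker (coreHom k H I) ≤ I := by
  intro a ha
  have h := lift_comp_coreHom I (AlgHom.id k (A ⧸ I))
    ((Algebra.ofId k (A ⧸ I)).comp (Bialgebra.counitAlgHom k H))
  rw [mv_counit] at h
  have h1 := congrArg (fun f : A →ₐ[k] (A ⧸ I) => f a) h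
  simp only [AlgHom.comp_apply, AlgHom.id_apply] at h1
  rw [(RingHom.mem_ker).1 ha, map_zero] at h1
  exact Ideal.Quotient.eq_zero_iff_mem.1 h1.symm

theorem isSubcomod_ker_coreHom (I : Ideal A) :
    IsSubcomod (k := k) (A := H) ((RingHom.ker (coreHom k H I)).restrictScalars k) := by
  rw [isSubcomod_iff_dact]
  intro φ a ha
  have h0 : coreHom k H I a = 0 := ha
  change coreHom k H I (dact A φ a) = 0
  have h1 : ∀ b : A, coreHom k H I b = (Ideal.Quotient.mkₐ k I).toLinearMap.rTensor H
      (Comod.coact (k := k) (A := H) b) := fun b => rfl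
  rw [h1] at h0 ⊢
  have h2 : Comod.coact (k := k) (A := H) (dact A φ a) =
      (DualAct.dact H φ).lTensor A (Comod.coact (k := k) (A := H) a) := HopfJordan.coact_dact φ a
  rw [h2, ← LinearMap.comp_apply, LinearMap.rTensor_comp_lTensor, ← LinearMap.lTensor_comp_rTensor,
    LinearMap.comp_apply, h0, map_zero]

end Core

section Main

open K765.Basic PrimeSpectrum

variable {A : Type u} [CommRing A] [Algebra k A] [Comod k H A] [IsCoactAlg k H A]
variable {C : Type u} [CommRing C] [Algebra k C] [Comod k H C] [IsCoactAlg k H C]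

/-- the image of an invariant basic open is stable -/
theorem mem_image_mv {q : A →ₐ[k] C} (hq : IsEquiv H q) {h : C} (hh : h ∈ invariants k H C)
    {Ω : Type u} [Field Ω] [Algebra k Ω] (x : A →ₐ[k] Ω) (g : H →ₐ[k] Ω)
    (hx : ∃ c : PrimeSpectrum C, h ∉ c.asIdeal ∧ c.asIdeal.comap q = RingHom.ker x) :
    ∃ c : PrimeSpectrum C, h ∉ c.asIdeal ∧ c.asIdeal.comap q = RingHom.ker (mv x g) := by
  obtain ⟨c, hc, hcx⟩ := hx
  obtain ⟨Ω', i1, i2, y, ψ, hy, hyc⟩ := exists_field q c x hcx
  have hq' : (coactAlgHom k H C).comp q = (Algebra.TensorProduct.map q (AlgHom.id k H)).comp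
    (coactAlgHom k H A) := AlgHom.ext hq
  refine ⟨⟨RingHom.ker (mv y (ψ.comp g)), RingHom.ker_isPrime _⟩, ?_, ?_⟩
  · change ¬ (h ∈ RingHom.ker (mv y (ψ.comp g)))
    rw [RingHom.mem_ker, mv_invariant _ _ hh, ← RingHom.mem_ker, hyc]
    exact hc
  · have h1 : (mv y (ψ.comp g)).comp q = ψ.comp (mv x g) := by
      rw [mv_comp hq', hy, comp_mv]
    ext a
    change mv y (ψ.comp g) (q a) = 0 ↔ mv x g a = 0
    have h2 : mv y (ψ.comp g) (q a) = ψ (mv x g a) := congrArg (fun f : A →ₐ[k] Ω' => f a) h1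
    rw [h2]
    exact map_eq_zero_iff ψ ψ.toRingHom.injective

/-- **the key algebraic statement** -/
theorem exists_nbhd [IsAlgClosed k] (hG : IsLinearlyReductive k H) [Algebra.FiniteType k H]
    [Algebra.FiniteType k A] [Algebra.FiniteType k C] {q : A →ₐ[k] C} (hq : IsEquiv H q)
    (ho : IsOpenMap (PrimeSpectrum.comap q.toRingHom))
    (hs : Function.Surjective (PrimeSpectrum.comap q.toRingHom))
    {w : A →ₐ[k] k} (hw : IsClosedOrbit k H w)
    (hfree : ∀ c : C →ₐ[k] k, (∃ g : H →ₐ[k] k, c.comp q = actPt k g w) →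
      ∀ a : H, CoalgebraStruct.counit (R := k) a = 0 → a ∈ stabIdeal k H c) :
    ∃ s ∈ invariants k H A, w s = 1 ∧ ∀ y : A →ₐ[k] k, y s ≠ 0 →
      ∃ (h : C) (c : C →ₐ[k] k), c.comp q = y ∧ c h ≠ 0 ∧
        ∀ z : C ⊗[k] H, ∃ n : ℕ, ((h ^ n) ⊗ₜ[k] (1 : H)) * z ∈ (can k H C).range := by
  classical
  -- a point of `C` over `y`, avoiding `h`
  have point : ∀ (y : A →ₐ[k] k) (h : C) (c₀ : PrimeSpectrum C), h ∉ c₀.asIdeal →
      c₀.asIdeal.comap q = RingHom.ker y → ∃ c : C →ₐ[k] k, c.comp q = y ∧ c h ≠ 0 := by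
    intro y h c₀ hc₀ hy
    obtain ⟨c, hc, hch⟩ : ∃ c : C →ₐ[k] k, (∀ b ∈ c₀.asIdeal, c b = 0) ∧ c h ≠ 0 := by
      by_contra hcon
      push Not at hcon
      have h3 := K701.Basic.mem_radical_of_forall_point (k := k) c₀.asIdeal h hcon
      rw [c₀.isPrime.radical] at h3
      exact hc₀ h3
    refine ⟨c, ?_, hch⟩
    ext a
    have h1 : a - algebraMap k A (y a) ∈ RingHom.ker y := by
      rw [RingHom.mem_ker, map_sub, AlgHom.commutes]
      exact sub_self _
    rw [← hy, Ideal.mem_comap] at h1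
    have h2 := hc _ h1
    rw [map_sub, AlgHom.commutes, map_sub, AlgHom.commutes] at h2
    exact sub_eq_zero.1 h2
  -- Step 1: a point over `w`
  obtain ⟨p0, hp0, -⟩ : ∃ c : C →ₐ[k] k, c.comp q = w ∧ c 1 ≠ 0 := by
    obtain ⟨c0, hc0⟩ := hs ⟨RingHom.ker w, RingHom.ker_isPrime w⟩
    exact point w 1 c0 (fun h => c0.isPrime.ne_top ((Ideal.eq_top_iff_one _).2 h))
      (congrArg PrimeSpectrum.asIdeal hc0)
  -- Step 2: a closed orbit in the closure of the orbit of `p0`
  obtain ⟨c, hc, hc'⟩ := K701.Orbit2.exists_closed_orbit (A := H) (RingHom.ker (orbitHom k H p0))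
    (K701.Orbit.isSubcomod_ker_orbitHom p0) (by
      intro htop
      have h2 : (1 : C) ∈ RingHom.ker p0 := K701.Orbit.ker_orbitHom_le_ker (A := H) p0 (by rw [htop]; trivial)
      rw [RingHom.mem_ker, map_one] at h2
      exact one_ne_zero h2)
  have hcl : IsClosedOrbit k H c := K765.Closed.isClosedOrbit_of_closedOrb hc'
  obtain ⟨g, hg⟩ : ∃ g : H →ₐ[k] k, c.comp q = actPt k g w := by
    refine K690.Orbits.exists_actPt_of_ker_le hw fun a ha => ?_
    rw [RingHom.mem_ker]
    refine hc (q a) ?_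
    rw [RingHom.mem_ker] at ha ⊢
    have h1 : orbitHom k H w = (orbitHom k H p0).comp q := by rw [← hp0, orbitHom_comp hq]
    rw [h1] at ha
    exact ha
  -- Step 3: the invariant function on `C`
  obtain ⟨h, hh, hh1, hh2⟩ := exists_inv hG (surjective_orbitHom hcl (hfree c ⟨g, hg⟩))
  -- Step 4: the open set
  let O : Set (PrimeSpectrum A) := PrimeSpectrum.comap q.toRingHom '' (basicOpen h : Set (PrimeSpectrum C))
  have hO : IsOpen O := ho _ (basicOpen h).isOpen
  have hwO : (⟨RingHom.ker w, RingHom.ker_isPrime w⟩ : PrimeSpectrum A) ∈ O := by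
    let g' : H →ₐ[k] k := (WithConv.toConv g)⁻¹.ofConv
    have h1 : actPt k g' (actPt k g w) = w := K701.Orbit2.actPt_inv_actPt w (WithConv.toConv g)
    have h2 : (actPt k g' c).comp q = w := by rw [← actPt_comp hq, hg, h1]
    refine ⟨⟨RingHom.ker (actPt k g' c), RingHom.ker_isPrime _⟩, ?_, ?_⟩
    · change ¬ (h ∈ RingHom.ker (actPt k g' c))
      rw [RingHom.mem_ker]
      have h3 : actPt k g' c h = 1 := by
        rw [K701.Orbit.actPt_apply]
        have h4 := (RingHom.mem_ker).1 hh1
        rw [map_sub, map_one, sub_eq_zero] at h4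
        rw [← h4, map_one]
      rw [h3]
      exact one_ne_zero
    · apply PrimeSpectrum.ext
      change (RingHom.ker (actPt k g' c)).comap q = RingHom.ker w
      rw [← h2]
      rfl
  -- Step 5: the ideals
  let I : Ideal A := vanishingIdeal Oᶜ
  have hI : zeroLocus (I : Set A) = Oᶜ := by
    rw [zeroLocus_vanishingIdeal_eq_closure, hO.isClosed_compl.closure_eq]
  have hV : ∀ P : PrimeSpectrum A, RingHom.ker (coreHom k H I) ≤ P.asIdeal → P ∉ O := by
    intro P hP
    have h1 : P ∈ closure (Set.range (PrimeSpectrum.comap (coreHom k H I).toRingHom)) := by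
      rw [PrimeSpectrum.closure_range_comap]
      exact hP
    have h2 : closure (Set.range (PrimeSpectrum.comap (coreHom k H I).toRingHom)) ⊆ Oᶜ := by
      rw [hO.isClosed_compl.closure_subset_iff]
      rintro _ ⟨Q, rfl⟩ hQ
      obtain ⟨c₁, hc₁, hc₁'⟩ := hQ
      let e := algebraMap ((A ⧸ I) ⊗[k] H) Q.asIdeal.ResidueField
      let x : (A ⧸ I) →ₐ[k] Q.asIdeal.ResidueField :=
        (IsScalarTower.toAlgHom k ((A ⧸ I) ⊗[k] H) Q.asIdeal.ResidueField).comp
          Algebra.TensorProduct.includeLeft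
      let γ : H →ₐ[k] Q.asIdeal.ResidueField :=
        (IsScalarTower.toAlgHom k ((A ⧸ I) ⊗[k] H) Q.asIdeal.ResidueField).comp
          Algebra.TensorProduct.includeRight
      have h3 : (Algebra.TensorProduct.lift x γ (fun _ _ => .all _ _)) =
          IsScalarTower.toAlgHom k ((A ⧸ I) ⊗[k] H) Q.asIdeal.ResidueField := by
        ext a <;> simp [x, γ]
      have h4 := lift_comp_coreHom I x γ
      rw [h3] at h4
      have h5 : RingHom.ker (mv (x.comp (Ideal.Quotient.mkₐ k I)) γ) =
          (PrimeSpectrum.comap (coreHom k H I).toRingHom Q).asIdeal := by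
        rw [← h4]
        ext a
        rw [RingHom.mem_ker]
        change algebraMap ((A ⧸ I) ⊗[k] H) Q.asIdeal.ResidueField (coreHom k H I a) = 0 ↔
          coreHom k H I a ∈ Q.asIdeal
        exact Ideal.algebraMap_residueField_eq_zero
      obtain ⟨c₂, hc₂, hc₂'⟩ := mem_image_mv hq hh (mv (x.comp (Ideal.Quotient.mkₐ k I)) γ)
        (γ.comp (HopfAlgebra.antipodeAlgHom k H)) ⟨c₁, hc₁, by
          rw [h5, ← hc₁']
          rfl⟩
      rw [mv_mv_inv] at hc₂'
      have h6 : (⟨RingHom.ker (x.comp (Ideal.Quotient.mkₐ k I)), RingHom.ker_isPrime _⟩ : PrimeSpectrum A) ∈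
          zeroLocus (I : Set A) := by
        intro a ha
        change x (Ideal.Quotient.mk I a) = 0
        rw [Ideal.Quotient.eq_zero_iff_mem.2 ha, map_zero]
      rw [hI] at h6
      exact h6 ⟨c₂, hc₂, PrimeSpectrum.ext hc₂'⟩
    exact h2 h1
  have hsup : RingHom.ker (coreHom k H I) ⊔ RingHom.ker (orbitHom k H w) = ⊤ := by
    by_contra hne
    obtain ⟨z, hz⟩ := K701.Basic.exists_point_of_ne_top k A _ hne
    obtain ⟨g₁, hg₁⟩ := K690.Orbits.exists_actPt_of_ker_le hw (z := z)
      (fun a ha => hz a (Ideal.mem_sup_right ha))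
    have h1 : RingHom.ker (coreHom k H I) ≤ RingHom.ker (orbitHom k H z) :=
      K701.Orbit.le_ker_orbitHom (isSubcomod_ker_coreHom I) z fun a ha => hz a (Ideal.mem_sup_left ha)
    rw [hg₁, K701.Orbit.ker_orbitHom_actPt] at h1
    exact hV _ (h1.trans (K701.Orbit.ker_orbitHom_le_ker w)) hwO
  obtain ⟨s, hs1, hs2, hs3⟩ := K690.Orbits.exists_invariant_sub_mem hG (RingHom.ker (coreHom k H I))
    (RingHom.ker (orbitHom k H w)) (isSubcomod_ker_coreHom I) (K701.Orbit.isSubcomod_ker_orbitHom w) hsup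
  refine ⟨s, hs1, ?_, fun y hy => ⟨h, ?_⟩⟩
  · have h1 := K701.Orbit.ker_orbitHom_le_ker (A := H) w hs3
    rw [RingHom.mem_ker, map_sub, map_one, sub_eq_zero] at h1
    exact h1.symm
  · have hyO : (⟨RingHom.ker y, RingHom.ker_isPrime y⟩ : PrimeSpectrum A) ∈ O := by
      by_contra hcon
      have h1 : (⟨RingHom.ker y, RingHom.ker_isPrime y⟩ : PrimeSpectrum A) ∈ zeroLocus (I : Set A) := by
        rw [hI]
        exact hcon
      exact hy (h1 (ker_coreHom_le I hs2))
    obtain ⟨c₁, hc₁, hc₁'⟩ := hyO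
    obtain ⟨c₂, hc₂, hc₂'⟩ := point y h c₁ hc₁ (congrArg PrimeSpectrum.asIdeal hc₁')
    exact ⟨c₂, hc₂, hc₂', hh2⟩

end Main

end K737.InvNbhd
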