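import Groth.Agent.AlgSt.K737.Uni
import Groth.Agent.AlgSt.K737.InvNbhd
import Groth.Agent.AlgSt.K750.AutGrp

/-!
# Points at which the functor is injective on stabilizers
-/

set_option autoImplicit false
set_option linter.unusedVariables false
set_option linter.style.haveILetI false
set_option backward.isDefEq.respectTransparency false
set_option backward.isDefEq.respectTransparency.types false
set_option linter.dupNamespace false
set_option linter.unusedSectionVars false

universe w u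

open CategoryTheory CategoryTheory.Limits MonoidalCategory CartesianMonoidalCategory MonObj GrpObj AlgebraicGeometry
open AlgSt K750.TorsPts K908.QuotPt K737.Uni
open scoped TensorProduct

namespace K737.FrPt

section Fr

variable {S : Scheme.{u}} {G X : Over S} [GrpObj G] {aX : AlgGrp.Action G X}
  {𝒳 : BasedCategory.{u, w} (Over S)} (f : QuotSt Scheme.fppfPrecoverage G aX ⥤ᵇ 𝒳)

/-- `f` is injective on the stabilizer of `x` -/
def Fr {T : Over S} (x : T ⟶ X) : Prop :=
  ∀ (g : T ⟶ G) (e : act aX g (𝟙 T ≫ x) = x), fr f x x (𝟙 T) g e = 𝟙 _ → g = 1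

theorem eq_one_of_ar {T : Over S} (x : T ⟶ X) (g : T ⟶ G) (e : act aX g (𝟙 T ≫ x) = x)
    (h : ar x x (𝟙 T) g e = 𝟙 _) : g = 1 := by
  have e1 : act aX 1 (𝟙 T ≫ x) = x := by rw [act_one, Category.id_comp]
  rw [← ar_id x e1] at h
  have h1 := uno_ar x x (𝟙 T) g e
  have h2 := uno_ar x x (𝟙 T) 1 e1
  rw [h] at h1
  exact act_left_cancel (tx aX x).act (tx aX x).cart _ (h1.symm.trans h2)

theorem fr_of_autMap (hQ : FibCat.IsFibGrpd (QuotSt Scheme.fppfPrecoverage G aX).p) {T : Over S} (x : T ⟶ X)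
    (h : Function.Injective (Gerb.autMap f (tx aX x))) : Fr f x := by
  intro g e h1
  have l : (QuotSt Scheme.fppfPrecoverage G aX).p.IsHomLift (𝟙 T) (ar x x (𝟙 T) g e) :=
    IsHomLift.map (QuotSt Scheme.fppfPrecoverage G aX).p (ar x x (𝟙 T) g e)
  let α := K750.AutGrp.mk hQ (z := tx aX x) (V := T) rfl (ar x x (𝟙 T) g e) l
  have h2 : Gerb.autMap f (tx aX x) α = Gerb.autMap f (tx aX x) 1 := by
    rw [map_one]
    apply K750.AutGrp.autO_ext
    rw [Gerb.autMap_hom_val, K750.AutGrp.mk_hom]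
    exact h1
  have h3 := congrArg (fun a : Gerb.AutO (tx aX x) => a.hom.1) (h h2)
  change α.hom.1 = 𝟙 _ at h3
  rw [K750.AutGrp.mk_hom] at h3
  exact eq_one_of_ar x g e h3

variable {f}

theorem Fr.act {T : Over S} {x : T ⟶ X} (hx : Fr f x) (g₀ : T ⟶ G) : Fr f (K750.TorsPts.act aX g₀ x) := by
  intro g e h
  have e1 : K750.TorsPts.act aX g₀⁻¹ (𝟙 T ≫ K750.TorsPts.act aX g₀ x) = x := by
    rw [Category.id_comp, ← act_mul, inv_mul_cancel, act_one]
  have e2 : K750.TorsPts.act aX g₀ (𝟙 T ≫ x) = K750.TorsPts.act aX g₀ x := by rw [Category.id_comp]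
  have h1 : fr f x _ (𝟙 T) g₀⁻¹ e1 ≫ fr f _ _ (𝟙 T) g e ≫ fr f _ x (𝟙 T) g₀ e2 =
      fr f x _ (𝟙 T) g₀⁻¹ e1 ≫ fr f _ x (𝟙 T) g₀ e2 := by
    rw [h, Category.id_comp]
  rw [fr_trans, fr_trans, fr_trans] at h1
  have h2 : fr f x x (𝟙 T ≫ 𝟙 T) (g₀⁻¹ * 𝟙 T ≫ g₀) (act_comp e1 e2) = 𝟙 _ := by
    rw [← fr_id (f := f) x (by rw [act_one, Category.id_comp])]
    apply fr_congr
    · rw [Category.id_comp]
    · rw [Category.id_comp, inv_mul_cancel]
  rw [h2] at h1
  have e3 : K750.TorsPts.act aX (g₀⁻¹ * (g * g₀)) (𝟙 T ≫ x) = x := by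
    rw [act_mul, act_mul, Category.id_comp]
    rw [Category.id_comp] at e
    rw [e, ← act_mul, inv_mul_cancel, act_one]
  have h3 : fr f x x (𝟙 T) (g₀⁻¹ * (g * g₀)) e3 = 𝟙 _ := by
    rw [← h1]
    apply fr_congr
    · rw [Category.id_comp, Category.id_comp]
    · rw [Category.id_comp, Category.id_comp]
  have h4 := hx _ e3 h3
  have h5 : g * g₀ = g₀ := by
    have := congrArg (fun y => g₀ * y) h4
    simpa using this
  exact mul_eq_right.1 h5

end Fr

section Pt

open HopfRep GLin CoactBr K737.InvNbhd K737.Gal Groth.Agent.Books.AffBridge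

variable {k : Type u} [Field k] {H : Type u} [CommRing H] [HopfAlgebra k H]
variable {C : Type u} [CommRing C] [Algebra k C] [Comod k H C] [IsCoactAlg k H C]

theorem exists_pt {B R : Type u} [CommRing B] [Algebra k B] [CommRing R] [Algebra k R] (g : sp k R ⟶ sp k B) :
    ∃ γ : B →ₐ[k] R, pt γ = g := ⟨specPreimage k g, specMap_specPreimage k g⟩

theorem act_pt {R : Type u} [CommRing R] [Algebra k R] (x : C →ₐ[k] R) (g : H →ₐ[k] R) :
    act (CoactBr.action k H C) (pt g)⁻¹ (pt x) = pt (mv x g) := by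
  rw [act, lift_action_act, _root_.inv_inv, ← pt_mv]

/-- a stabiliser which is trivial on points is trivial -/
theorem stab_of_free {x : C →ₐ[k] k} (h : ∀ (R : Type u) [CommRing R] [Algebra k R] (g : sp k R ⟶ sp k H),
    act (CoactBr.action k H C) g (pt ((Algebra.ofId k R).comp x)) = pt ((Algebra.ofId k R).comp x) → g = 1)
    (a : H) (ha : CoalgebraStruct.counit (R := k) a = 0) : a ∈ stabIdeal k H x := by
  let σ : H →ₐ[k] H ⧸ stabIdeal k H x := Ideal.Quotient.mkₐ k _
  have h1 : mv ((Algebra.ofId k (H ⧸ stabIdeal k H x)).comp x) σ = (Algebra.ofId k (H ⧸ stabIdeal k H x)).comp x := by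
    have h2 : mv ((Algebra.ofId k (H ⧸ stabIdeal k H x)).comp x) σ = σ.comp (orbitHom k H x) := by
      have h3 : (Algebra.TensorProduct.lift ((Algebra.ofId k (H ⧸ stabIdeal k H x)).comp x) σ
          (fun _ _ => .all _ _)) = σ.comp ((Algebra.TensorProduct.lid k H).toAlgHom.comp
            (Algebra.TensorProduct.map x (AlgHom.id k H))) := by
        apply Algebra.TensorProduct.ext'
        intro b c
        simp [Algebra.ofId_apply, Algebra.smul_def]
      change (Algebra.TensorProduct.lift ((Algebra.ofId k (H ⧸ stabIdeal k H x)).comp x) σ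
          (fun _ _ => .all _ _)).comp (coactAlgHom k H C) = _
      rw [h3]
      rfl
    rw [h2]
    ext c
    have h4 : c - algebraMap k C (x c) ∈ RingHom.ker x := by
      rw [RingHom.mem_ker, map_sub, AlgHom.commutes]
      exact sub_self _
    have h5 := Ideal.mem_map_of_mem (orbitHom k H x) h4
    have h6 : σ (orbitHom k H x (c - algebraMap k C (x c))) = 0 := Ideal.Quotient.eq_zero_iff_mem.2 h5
    rw [map_sub, AlgHom.commutes, map_sub, AlgHom.commutes] at h6
    exact sub_eq_zero.1 h6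
  have h2 := h (H ⧸ stabIdeal k H x) (pt σ)⁻¹ (by rw [act_pt, h1])
  rw [inv_eq_one, one_eq_pt] at h2
  have h3 := CoactBr.pt_injective h2
  have h4 := congrArg (fun φ : H →ₐ[k] _ => φ a) h3
  have h5 : σ a = algebraMap k _ (CoalgebraStruct.counit (R := k) a) := h4
  rw [ha, map_zero] at h5
  exact Ideal.Quotient.eq_zero_iff_mem.1 h5

/-- the action is free where the Galois map is surjective -/
theorem eq_one_of_can {R : Type u} [CommRing R] [Algebra k R] {y : C →ₐ[k] R} {h : C} (hy : IsUnit (y h))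
    (hh : ∀ z : C ⊗[k] H, ∃ n : ℕ, ((h ^ n) ⊗ₜ[k] (1 : H)) * z ∈ (can k H C).range)
    (g : sp k R ⟶ sp k H) (hg : act (CoactBr.action k H C) g (pt y) = pt y) : g = 1 := by
  obtain ⟨γ, hγ⟩ := exists_pt g⁻¹
  have hg' : g = (pt γ)⁻¹ := by rw [hγ, _root_.inv_inv]
  rw [hg', act_pt] at hg
  have h1 : mv y γ = y := CoactBr.pt_injective hg
  have h2 : mv y ((Algebra.ofId k R).comp (Bialgebra.counitAlgHom k H)) = y := mv_counit y
  have key : ∀ δ : H →ₐ[k] R, mv y δ = y → ∀ z : C ⊗[k] C,
      Algebra.TensorProduct.lift y δ (fun _ _ => .all _ _) (can k H C z) =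
      Algebra.TensorProduct.lift y y (fun _ _ => .all _ _) z := by
    intro δ hδ z
    have h3 : (Algebra.TensorProduct.lift y δ (fun _ _ => .all _ _)).comp (can k H C) =
        Algebra.TensorProduct.lift y y (fun _ _ => .all _ _) := by
      ext a
      · have h5 : Comod.coact (k := k) (A := H) (1 : C) = 1 := IsCoactAlg.coact_one (k := k)
        simp [can, h5]
      · have h4 : mv y δ a = y a := by rw [hδ]
        simp only [can, AlgHom.comp_apply, Algebra.TensorProduct.includeRight_apply,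
          AlgHom.restrictScalars_apply,
          Algebra.TensorProduct.productMap_apply_tmul, map_one, _root_.one_mul,
          Algebra.TensorProduct.lift_tmul]
        exact h4
    exact congrArg (fun φ : C ⊗[k] C →ₐ[k] R => φ z) h3
  have h3 : γ = (Algebra.ofId k R).comp (Bialgebra.counitAlgHom k H) := by
    ext a
    obtain ⟨n, z, hz⟩ := hh (1 ⊗ₜ a)
    have h4 := key γ h1 z
    have h5 := key _ h2 z
    have hz' : can k H C z = (h ^ n) ⊗ₜ[k] (1 : H) * (1 : C) ⊗ₜ[k] a := hz
    rw [hz', Algebra.TensorProduct.tmul_mul_tmul, _root_.mul_one, _root_.one_mul] at h4 h5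
    rw [Algebra.TensorProduct.lift_tmul] at h4 h5
    have h6 := h4.trans h5.symm
    rw [map_pow] at h6
    exact (hy.pow n).mul_left_cancel h6
  rw [hg', h3, ← one_eq_pt, inv_one]

end Pt

end K737.FrPt
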