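import Groth.Agent.AlgSt.K737.GalAlg
import Groth.Agent.LunaSt.K881.OrbFF
import Groth.Agent.GLin.K765.Closed
import Groth.Agent.InvQ.K701.Orbit2
import Groth.Agent.Books.CoeffMat

/-!
# Closed orbits with trivial stabiliser of a linearly reductive group

* `surjective_orbitHom`: the orbit map of a closed orbit with trivial stabiliser is a closed
  immersion;
* `exists_inv`: the action is free (the Galois map is surjective) on an invariant affine
  neighbourhood `D(h)`, `h` an invariant function equal to `1` on the orbit;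
* `surjective_can`: if all stabilisers are trivial then the Galois map is surjective.
-/

set_option autoImplicit false
set_option linter.unusedSectionVars false

universe u

open TensorProduct HopfRep GLin

namespace K737.FreeOrb

open Groth.Agent.Books Groth.Agent.Books.ComodBasic Groth.Agent.Books.ComodHom Groth.Agent.Books.CoeffMat
open K737.Gal

variable {k : Type u} [Field k] {H : Type u} [CommRing H] [HopfAlgebra k H]
variable {C : Type u} [CommRing C] [Algebra k C] [Comod k H C] [IsCoactAlg k H C]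

/-- the orbit map of a closed orbit with trivial stabiliser is a closed immersion -/
theorem surjective_orbitHom {x : C →ₐ[k] k} (hx : IsClosedOrbit k H x)
    (hs : ∀ a : H, CoalgebraStruct.counit (R := k) a = 0 → a ∈ stabIdeal k H x) :
    Function.Surjective (orbitHom k H x) := by
  intro a
  refine K881.OrbFF.mem_range_of_comul_sub_mem hx (a := a) ?_
  have h1 : ∀ z : H ⊗[k] H, z - 1 ⊗ₜ[k] (TensorProduct.lid k H
      ((CoalgebraStruct.counit (R := k) (A := H)).rTensor H z)) ∈ (stabIdeal k H x).map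
      (Algebra.TensorProduct.includeLeft : H →ₐ[k] H ⊗[k] H) := by
    intro z
    induction z with
    | zero => simp
    | add z w hz hw =>
      have := add_mem hz hw
      rw [map_add, map_add, TensorProduct.tmul_add]
      convert this using 1
      abel
    | tmul p q =>
      rw [LinearMap.rTensor_tmul, TensorProduct.lid_tmul]
      have h2 : p ⊗ₜ[k] q - 1 ⊗ₜ[k] (CoalgebraStruct.counit (R := k) p • q) =
          ((1 : H) ⊗ₜ[k] q) * ((Algebra.TensorProduct.includeLeft : H →ₐ[k] H ⊗[k] H)
            (p - CoalgebraStruct.counit (R := k) p • (1 : H))) := by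
        rw [map_sub, map_smul]
        change _ = (1 ⊗ₜ[k] q) * (p ⊗ₜ[k] 1 - CoalgebraStruct.counit (R := k) p • (1 ⊗ₜ[k] 1))
        rw [mul_sub, mul_smul_comm, Algebra.TensorProduct.tmul_mul_tmul, Algebra.TensorProduct.tmul_mul_tmul,
          one_mul, one_mul, mul_one, TensorProduct.tmul_smul]
      rw [h2]
      refine Ideal.mul_mem_left _ _ (Ideal.mem_map_of_mem _ (hs _ ?_))
      have h3 : CoalgebraStruct.counit (R := k) (1 : H) = (1 : k) := Bialgebra.counit_one
      rw [map_sub, map_smul, h3, smul_eq_mul, mul_one, sub_self]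
  have h2 := h1 (CoalgebraStruct.comul (R := k) a)
  rw [Coalgebra.rTensor_counit_comul, TensorProduct.lid_tmul, one_smul] at h2
  exact h2

/-- a comodule section of a surjective comodule map -/
theorem exists_section (hG : IsLinearlyReductive k H) {f : C →ₗ[k] H} (hf : IsComodHom k H f)
    (hs : Function.Surjective f) : ∃ s : H →ₗ[k] C, IsComodHom k H s ∧ ∀ a, f (s a) = a := by
  obtain ⟨N, hN, hc⟩ := K688.Reynolds.exists_isCompl_isSubcomod hG _ hf.isSubcomod_ker
  have hinj : ∀ x ∈ N, ∀ y ∈ N, f x = f y → x = y := by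
    intro x hx y hy h
    have h1 : x - y ∈ LinearMap.ker f := by rw [LinearMap.mem_ker, map_sub, h, sub_self]
    have h2 := (Submodule.disjoint_def.1 hc.disjoint) _ h1 (sub_mem hx hy)
    exact sub_eq_zero.1 h2
  have hsurj : ∀ a, ∃ x : N, f x = a := by
    intro a
    obtain ⟨c, rfl⟩ := hs a
    have h1 : c ∈ LinearMap.ker f ⊔ N := by rw [hc.sup_eq_top]; trivial
    obtain ⟨p, hp, q, hq, rfl⟩ := Submodule.mem_sup.1 h1
    refine ⟨⟨q, hq⟩, ?_⟩
    rw [map_add, LinearMap.mem_ker.1 hp, zero_add]
  let e : N ≃ₗ[k] H := LinearEquiv.ofBijective (f ∘ₗ N.subtype)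
    ⟨fun x y h => Subtype.ext (hinj x x.2 y y.2 h), hsurj⟩
  have he : ∀ a, f (e.symm a : C) = a := fun a => e.apply_symm_apply a
  refine ⟨N.subtype ∘ₗ e.symm.toLinearMap, ?_, he⟩
  rw [isComodHom_iff_dact]
  intro φ a
  refine hinj _ (e.symm _).2 _ ((isSubcomod_iff_dact N).1 hN φ _ (e.symm a).2) ?_
  rw [(isComodHom_iff_dact f).1 hf]
  change f (e.symm (dact H φ a) : C) = dact H φ (f (e.symm a : C))
  rw [he, he]

/-- the ideal generated by a semi-invariant is stable -/
theorem isSubcomod_span_singleton {d : C} {u : H}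
    (hd : Comod.coact (k := k) (A := H) d = d ⊗ₜ[k] u) :
    IsSubcomod (k := k) (A := H) ((Ideal.span {d}).restrictScalars k) := by
  intro w hw
  obtain ⟨c, rfl⟩ := Ideal.mem_span_singleton'.1 hw
  rw [IsCoactAlg.coact_mul, hd]
  generalize Comod.coact (k := k) (A := H) c = z
  induction z with
  | zero => rw [zero_mul]; exact zero_mem _
  | add x y hx hy => rw [add_mul]; exact add_mem hx hy
  | tmul a b =>
    rw [Algebra.TensorProduct.tmul_mul_tmul]
    exact ⟨⟨a * d, Ideal.mul_mem_left _ _ (Ideal.mem_span_singleton_self d)⟩ ⊗ₜ (b * u), rfl⟩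

theorem left_mem_range (a : C) : a ⊗ₜ[k] (1 : H) ∈ (can k H C).range :=
  ⟨a ⊗ₜ 1, by
    change can k H C (a ⊗ₜ 1) = _
    rw [can_tmul, IsCoactAlg.coact_one (k := k), mul_one]⟩

theorem coact_mem_range (a : C) : Comod.coact (k := k) (A := H) a ∈ (can k H C).range :=
  ⟨1 ⊗ₜ a, by
    change can k H C (1 ⊗ₜ a) = _
    rw [can_tmul, ← Algebra.TensorProduct.one_def, one_mul]⟩

/-- it is enough to find the generators of `H` in the image -/
theorem forall_exists_of_adjoin {h : C} (S : Set H) (hS : Algebra.adjoin k S = ⊤)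
    (hm : ∀ y ∈ S, ∃ n : ℕ, (h ^ n) ⊗ₜ[k] y ∈ (can k H C).range) (z : C ⊗[k] H) :
    ∃ n : ℕ, ((h ^ n) ⊗ₜ[k] (1 : H)) * z ∈ (can k H C).range := by
  have up : ∀ (n m : ℕ) (z : C ⊗[k] H), ((h ^ n) ⊗ₜ[k] (1 : H)) * z ∈ (can k H C).range →
      ((h ^ (m + n)) ⊗ₜ[k] (1 : H)) * z ∈ (can k H C).range := by
    intro n m z hz
    have h1 : ((h ^ (m + n)) ⊗ₜ[k] (1 : H)) * z = ((h ^ m) ⊗ₜ[k] (1 : H)) * (((h ^ n) ⊗ₜ[k] (1 : H)) * z) := by
      rw [← mul_assoc, Algebra.TensorProduct.tmul_mul_tmul, ← pow_add, one_mul]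
    rw [h1]
    exact mul_mem (left_mem_range _) hz
  have key : ∀ y : H, ∃ n : ℕ, ((h ^ n) ⊗ₜ[k] (1 : H)) * ((1 : C) ⊗ₜ[k] y) ∈ (can k H C).range := by
    intro y
    have hy : y ∈ Algebra.adjoin k S := by rw [hS]; trivial
    induction hy using Algebra.adjoin_induction with
    | mem y hy =>
      obtain ⟨n, hn⟩ := hm y hy
      exact ⟨n, by rwa [Algebra.TensorProduct.tmul_mul_tmul, mul_one, one_mul]⟩
    | algebraMap r =>
      refine ⟨0, ?_⟩
      rw [Algebra.algebraMap_eq_smul_one, ← TensorProduct.smul_tmul]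
      exact mul_mem (left_mem_range _) (left_mem_range _)
    | add x y _ _ hx hy =>
      obtain ⟨n, hn⟩ := hx
      obtain ⟨m, hm⟩ := hy
      refine ⟨m + n, ?_⟩
      rw [TensorProduct.tmul_add, mul_add]
      refine add_mem (up n m _ hn) ?_
      rw [add_comm m n]
      exact up m n _ hm
    | mul x y _ _ hx hy =>
      obtain ⟨n, hn⟩ := hx
      obtain ⟨m, hm⟩ := hy
      refine ⟨n + m, ?_⟩
      have h1 : ((h ^ (n + m)) ⊗ₜ[k] (1 : H)) * ((1 : C) ⊗ₜ[k] (x * y)) =
          (((h ^ n) ⊗ₜ[k] (1 : H)) * ((1 : C) ⊗ₜ[k] x)) * (((h ^ m) ⊗ₜ[k] (1 : H)) * ((1 : C) ⊗ₜ[k] y)) := by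
        simp only [Algebra.TensorProduct.tmul_mul_tmul, one_mul, mul_one, pow_add]
      rw [h1]
      exact mul_mem hn hm
  induction z with
  | zero => exact ⟨0, by rw [mul_zero]; exact zero_mem _⟩
  | add x y hx hy =>
    obtain ⟨n, hn⟩ := hx
    obtain ⟨m, hm⟩ := hy
    refine ⟨m + n, ?_⟩
    rw [mul_add]
    refine add_mem (up n m _ hn) ?_
    rw [add_comm m n]
    exact up m n _ hm
  | tmul a y =>
    obtain ⟨n, hn⟩ := key y
    refine ⟨n, ?_⟩
    have h1 : ((h ^ n) ⊗ₜ[k] (1 : H)) * (a ⊗ₜ[k] y) =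
        (a ⊗ₜ[k] (1 : H)) * (((h ^ n) ⊗ₜ[k] (1 : H)) * ((1 : C) ⊗ₜ[k] y)) := by
      simp only [Algebra.TensorProduct.tmul_mul_tmul, one_mul, mul_one, mul_comm]
    rw [h1]
    exact mul_mem (left_mem_range _) hn

/-- **free closed orbits have invariant affine neighbourhoods on which the action is free** -/
theorem exists_inv (hG : IsLinearlyReductive k H) [Algebra.FiniteType k H] {x : C →ₐ[k] k}
    (hx : Function.Surjective (orbitHom k H x)) :
    ∃ h ∈ invariants k H C, 1 - h ∈ RingHom.ker (orbitHom k H x) ∧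
      ∀ z : C ⊗[k] H, ∃ n : ℕ, ((h ^ n) ⊗ₜ[k] (1 : H)) * z ∈ (can k H C).range := by
  classical
  obtain ⟨s, hs, hs'⟩ := exists_section hG (f := (orbitHom k H x).toLinearMap)
    (K701.Orbit.isComodHom_orbitHom x) hx
  obtain ⟨S, hS⟩ := (Algebra.FiniteType.out : (⊤ : Subalgebra k H).FG)
  obtain ⟨n, v, m, -, hSv, hm, hv⟩ := exists_isMult_of_finite (k := k) (A := H) (V := H) (S : Set H)
    S.finite_toSet
  have hvm : ∀ j, v j = ∑ i, CoalgebraStruct.counit (R := k) (v i) • m i j := by
    intro j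
    have h1 := congrArg (fun z => TensorProduct.lid k H
      ((CoalgebraStruct.counit (R := k) (A := H)).rTensor H z)) (hv j)
    have h2 : Comod.coact (k := k) (A := H) (v j) = CoalgebraStruct.comul (R := k) (v j) := rfl
    simp only [h2, Coalgebra.rTensor_counit_comul, map_sum, LinearMap.rTensor_tmul, TensorProduct.lid_tmul,
      one_smul] at h1
    exact h1
  let M : Matrix (Fin n) (Fin n) C := Matrix.of fun i j => s (m i j)
  have hM : ∀ i j, Comod.coact (k := k) (A := H) (M i j) = ∑ l, M i l ⊗ₜ[k] m l j := by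
    intro i j
    have h1 := hs (m i j)
    have h2 : Comod.coact (k := k) (A := H) (m i j) = ∑ l, m i l ⊗ₜ[k] m l j := hm.comul i j
    rw [h2, map_sum] at h1
    exact h1
  have hd : Comod.coact (k := k) (A := H) M.det = M.det ⊗ₜ[k] m.det := by
    have h1 : coactAlgHom k H C M.det = ((coactAlgHom k H C).mapMatrix M).det := AlgHom.map_det _ _
    have h2 : (coactAlgHom k H C).mapMatrix M =
        (Algebra.TensorProduct.includeLeft : C →ₐ[k] C ⊗[k] H).mapMatrix M *
          (Algebra.TensorProduct.includeRight : H →ₐ[k] C ⊗[k] H).mapMatrix m := by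
      ext i j
      rw [Matrix.mul_apply]
      simp only [AlgHom.mapMatrix_apply, Matrix.map_apply, coactAlgHom_apply,
        Algebra.TensorProduct.includeLeft_apply, Algebra.TensorProduct.includeRight_apply,
        Algebra.TensorProduct.tmul_mul_tmul, one_mul, mul_one]
      exact hM i j
    rw [h2, Matrix.det_mul, ← AlgHom.map_det, ← AlgHom.map_det] at h1
    simpa only [coactAlgHom_apply, Algebra.TensorProduct.includeLeft_apply, Algebra.TensorProduct.includeRight_apply,
        Algebra.TensorProduct.tmul_mul_tmul, one_mul, mul_one] using h1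
  have hxd : orbitHom k H x M.det = m.det := by
    rw [AlgHom.map_det]
    congr 1
    ext i j
    exact hs' (m i j)
  have hsup : Ideal.span {M.det} ⊔ RingHom.ker (orbitHom k H x) = ⊤ := by
    obtain ⟨u, hu⟩ := hm.isUnit_det.exists_left_inv
    obtain ⟨c, rfl⟩ := hx u
    rw [Ideal.eq_top_iff_one, Submodule.mem_sup]
    refine ⟨c * M.det, Ideal.mul_mem_left _ _ (Ideal.mem_span_singleton_self _), 1 - c * M.det, ?_, by ring⟩
    rw [RingHom.mem_ker, map_sub, map_mul, hxd, hu, map_one, sub_self]
  obtain ⟨h, hh, hhd, hh1⟩ := K690.Orbits.exists_invariant_sub_mem hG (Ideal.span {M.det})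
    (RingHom.ker (orbitHom k H x)) (isSubcomod_span_singleton hd) (K701.Orbit.isSubcomod_ker_orbitHom x) hsup
  refine ⟨h, hh, hh1, fun z => forall_exists_of_adjoin (S : Set H) hS (fun y hy => ⟨1, ?_⟩) z⟩
  obtain ⟨t, rfl⟩ := Ideal.mem_span_singleton'.1 hhd
  rw [pow_one]
  have h1 : ∀ l j, M.det ⊗ₜ[k] m l j ∈ (can k H C).range := by
    intro l j
    have h2 : M.det ⊗ₜ[k] m l j = ∑ i, (M.adjugate l i ⊗ₜ[k] (1 : H)) * Comod.coact (k := k) (A := H) (M i j) := by
      simp only [hM, Finset.mul_sum, Algebra.TensorProduct.tmul_mul_tmul, one_mul]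
      rw [Finset.sum_comm]
      simp only [← TensorProduct.sum_tmul]
      have h3 : ∀ l', ∑ i, M.adjugate l i * M i l' = if l = l' then M.det else 0 := by
        intro l'
        have := congrFun (congrFun (Matrix.adjugate_mul M) l) l'
        rw [Matrix.mul_apply] at this
        rw [this]
        simp [Matrix.one_apply]
      simp only [h3]
      rw [Finset.sum_eq_single l]
      · rw [if_pos rfl]
      · intro b _ hb
        rw [if_neg (Ne.symm hb), TensorProduct.zero_tmul]
      · intro h0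
        exact absurd (Finset.mem_univ l) h0
    rw [h2]
    exact sum_mem fun i _ => mul_mem (left_mem_range _) (coact_mem_range _)
  have h2 : ∀ y ∈ Submodule.span k (Set.range v), M.det ⊗ₜ[k] y ∈ (can k H C).range := by
    intro y hy
    induction hy using Submodule.span_induction with
    | mem y hy =>
      obtain ⟨j, rfl⟩ := hy
      rw [hvm j, TensorProduct.tmul_sum]
      refine sum_mem fun i _ => ?_
      rw [TensorProduct.tmul_smul]
      exact (can k H C).range.smul_mem (h1 i j) _
    | zero => rw [TensorProduct.tmul_zero]; exact zero_mem _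
    | add x y _ _ hx hy => rw [TensorProduct.tmul_add]; exact add_mem hx hy
    | smul c x _ hx => rw [TensorProduct.tmul_smul]; exact (can k H C).range.smul_mem hx _
  have h3 : (t * M.det) ⊗ₜ[k] y = (t ⊗ₜ[k] (1 : H)) * (M.det ⊗ₜ[k] y) := by
    rw [Algebra.TensorProduct.tmul_mul_tmul, one_mul]
  rw [h3]
  exact mul_mem (left_mem_range _) (h2 y (hSv hy))

/-- **an action of a linearly reductive group with trivial stabilisers on an affine scheme of finite
type over an algebraically closed field is free**: the Galois map is surjective -/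
theorem surjective_can [IsAlgClosed k] (hG : IsLinearlyReductive k H) [Algebra.FiniteType k H]
    [Algebra.FiniteType k C]
    (hst : ∀ (x : C →ₐ[k] k) (a : H), CoalgebraStruct.counit (R := k) a = 0 → a ∈ stabIdeal k H x) :
    Function.Surjective (can k H C) := by
  let T : Set C := {b | b ∈ invariants k H C ∧ ∀ z : C ⊗[k] H, ∃ n : ℕ,
    ((b ^ n) ⊗ₜ[k] (1 : H)) * z ∈ (can k H C).range}
  have hT : Ideal.span T = ⊤ := by
    by_contra hne
    have hstab : IsSubcomod (k := k) (A := H) ((Ideal.span T).restrictScalars k) := by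
      have hself := K764.HopfMod.isHopfMod_self (k := k) (A := H) (B := C)
      exact K764.HopfMod.isSubcomod_span_of_fixed (B := C) (M := C) T fun b hb => hb.1
    obtain ⟨y, hy, hy'⟩ := K701.Orbit2.exists_closed_orbit (A := H) (Ideal.span T) hstab hne
    have hcl : IsClosedOrbit k H y := K765.Closed.isClosedOrbit_of_closedOrb hy'
    obtain ⟨h, hh, hh1, hh2⟩ := exists_inv hG (surjective_orbitHom hcl (hst y))
    have h1 : y h = 0 := hy h (Ideal.subset_span ⟨hh, hh2⟩)
    have h2 := K701.Orbit.ker_orbitHom_le_ker (A := H) y hh1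
    rw [RingHom.mem_ker, map_sub, map_one, h1, sub_zero] at h2
    exact one_ne_zero h2
  intro z
  choose n hn using fun b : T => b.2.2 z
  let J : Ideal C :=
    { carrier := {c | (c ⊗ₜ[k] (1 : H)) * z ∈ (can k H C).range}
      add_mem' := fun {a b} ha hb => by
        change ((a + b) ⊗ₜ[k] (1 : H)) * z ∈ (can k H C).range
        rw [TensorProduct.add_tmul, add_mul]
        exact add_mem ha hb
      zero_mem' := by
        change ((0 : C) ⊗ₜ[k] (1 : H)) * z ∈ (can k H C).range
        rw [TensorProduct.zero_tmul, zero_mul]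
        exact zero_mem _
      smul_mem' := fun c x hx => by
        change ((c * x) ⊗ₜ[k] (1 : H)) * z ∈ (can k H C).range
        have h1 : (c * x) ⊗ₜ[k] (1 : H) = (c ⊗ₜ[k] (1 : H)) * (x ⊗ₜ[k] (1 : H)) := by
          rw [Algebra.TensorProduct.tmul_mul_tmul, one_mul]
        rw [h1, mul_assoc]
        exact mul_mem (left_mem_range _) hx }
  have hJ : J = ⊤ := by
    rw [eq_top_iff, ← Ideal.span_range_pow_eq_top T hT n, Ideal.span_le]
    rintro _ ⟨b, rfl⟩
    exact hn b
  have h1 : (1 : C) ∈ J := by rw [hJ]; trivial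
  have h2 : ((1 : C) ⊗ₜ[k] (1 : H)) * z ∈ (can k H C).range := h1
  rw [← Algebra.TensorProduct.one_def, one_mul] at h2
  exact h2

end K737.FreeOrb
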