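import Groth.Agent.AlgSt.K737.Atlas
import Groth.Agent.CurvSt.K899.FpEquiv

/-!
# K737.Image: the open image of a 1-morphism, lifts through full subcategories
-/

set_option backward.isDefEq.respectTransparency false
set_option backward.isDefEq.respectTransparency.types false

universe v₅ u₅ v₄ u₄ w₃ v₃ w₂ v₂ w v u

open CategoryTheory CategoryTheory.Limits AlgebraicGeometry Opposite

namespace K737.Image

open K737.SubRep K737.Pts K737.LocLift K737.Chart K737.Open K735.Fib K735.Fp K735.Rep K735.Top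

variable {S : Scheme.{u}}

section FF

variable {𝒱 : BasedCategory.{v₂, w₂} (Over S)} {𝒬' : BasedCategory.{v₄, u₄} (Over S)}
  {𝒬 : BasedCategory.{v₅, u₅} (Over S)}

/-- A 1-morphism is representable with property `P` when its composite with a fully faithful one is. -/
theorem repByAlgSpWith_of_comp_ff (g : 𝒱 ⥤ᵇ 𝒬') (J : 𝒬' ⥤ᵇ 𝒬) (hJ : J.toFunctor.Full) (hJ' : J.toFunctor.Faithful)
    (P : MorphismProperty (AlgSp.Sp S)) (h : AlgSt.RepByAlgSpWith P (BasedFunctor.comp g J)) :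
    AlgSt.RepByAlgSpWith P g := by
  intro U y
  refine K899.FpEquiv.exists_rep_of_Θ y (BasedFunctor.id 𝒱) J g (BasedFunctor.comp g J) (Iso.refl _)
    (K899.FpEquiv.Θ_isEquivOver y (BasedFunctor.id 𝒱) J g (BasedFunctor.comp g J) (Iso.refl _)
      (inferInstanceAs (𝟭 _).Full) (inferInstanceAs (𝟭 _).Faithful) hJ hJ' ?_) P (h U (BasedFunctor.comp y J))
  intro a x i _
  exact ⟨x, Iso.refl _, IsHomLift.id rfl⟩

end FF

section Lift

variable {𝒳 : BasedCategory.{v, w} (Over S)} {𝒱 : BasedCategory.{v₂, w₂} (Over S)} {Q : 𝒳.obj → Prop}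

/-- lift to a full subcategory -/
def lift (f : 𝒱 ⥤ᵇ 𝒳) (h : ∀ a, Q (f.obj a)) : 𝒱 ⥤ᵇ AlgSt.fullSub 𝒳 Q where
  toFunctor := ObjectProperty.lift Q f.toFunctor h
  w := f.w

theorem lift_comp (f : 𝒱 ⥤ᵇ 𝒳) (h : ∀ a, Q (f.obj a)) :
    BasedFunctor.comp (lift f h) (AlgSt.subIncl 𝒳 Q) = f := rfl

theorem subIncl_full : (AlgSt.subIncl 𝒳 Q).toFunctor.Full := inferInstanceAs (ObjectProperty.ι Q).Full

theorem subIncl_faithful : (AlgSt.subIncl 𝒳 Q).toFunctor.Faithful := inferInstanceAs (ObjectProperty.ι Q).Faithful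

theorem repByAlgSpWith_lift (f : 𝒱 ⥤ᵇ 𝒳) (h : ∀ a, Q (f.obj a)) (P : MorphismProperty (AlgSp.Sp S))
    (hf : AlgSt.RepByAlgSpWith P f) : AlgSt.RepByAlgSpWith P (lift f h) :=
  repByAlgSpWith_of_comp_ff _ (AlgSt.subIncl 𝒳 Q) subIncl_full subIncl_faithful P hf

theorem repByAlgSp1_lift (f : 𝒱 ⥤ᵇ 𝒳) (h : ∀ a, Q (f.obj a)) (hf : AlgSt.RepByAlgSp1 f) :
    AlgSt.RepByAlgSp1 (lift f h) := by
  rw [repByAlgSp1_iff_top] at hf ⊢
  exact repByAlgSpWith_lift f h _ hf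

/-- the inclusion of a pullback stable full subcategory is injective on points. -/
theorem injective_map_subIncl (h𝒳 : FibCat.IsFibGrpd 𝒳.p) (hQ : ∀ ⦃x z : 𝒳.obj⦄, (z ⟶ x) → Q x → Q z) :
    Function.Injective (AlgSt.Points.map (AlgSt.subIncl 𝒳 Q)) := by
  intro a b h
  obtain ⟨p, rfl⟩ := AlgSt.Points.mk_surjective a
  obtain ⟨q, rfl⟩ := AlgSt.Points.mk_surjective b
  obtain ⟨r, φ, ψ, -⟩ := (K735.Pts.mk_eq_mk_iff h𝒳).1 h
  let r' : AlgSt.FPt (AlgSt.fullSub 𝒳 Q) := ⟨r.K, r.str, ⟨r.obj, hQ φ p.obj.property⟩, r.lies⟩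
  exact AlgSt.Points.sound ⟨r', ObjectProperty.homMk φ, ObjectProperty.homMk ψ, trivial⟩

/-- a 1-morphism takes values in the predicate cut out by its image. -/
theorem predOf_range (h𝒳 : FibCat.IsFibGrpd 𝒳.p) (h𝒱 : FibCat.IsFibGrpd 𝒱.p) (f : 𝒱 ⥤ᵇ 𝒳) (a : 𝒱.obj) :
    predOf (Set.range (AlgSt.Points.map f)) (f.obj a) := by
  intro p φ
  -- the base map of `φ`
  obtain ⟨b, χ, e, hχ⟩ := K735.Fib.exists_lift_eq h𝒱 (rfl : 𝒱.p.obj a = 𝒱.p.obj a)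
    (eqToHom p.lies.symm ≫ 𝒳.p.map φ ≫ eqToHom (f.w_obj a))
  let q : AlgSt.FPt 𝒱 := ⟨p.K, p.str, b, e⟩
  refine ⟨AlgSt.Points.mk q, ?_⟩
  -- `f b` and `p.obj` are isomorphic
  have l1 : 𝒳.p.IsHomLift (eqToHom p.lies.symm ≫ 𝒳.p.map φ ≫ eqToHom (f.w_obj a)) φ := by
    exact IsHomLift.of_fac' _ _ _ p.lies (f.w_obj a) (by simp)
  have l2 : 𝒱.p.IsHomLift (eqToHom p.lies.symm ≫ 𝒳.p.map φ ≫ eqToHom (f.w_obj a)) χ := by
    refine IsHomLift.of_fac' _ _ _ e rfl ?_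
    rw [hχ]
  have l3 : 𝒳.p.IsHomLift (eqToHom p.lies.symm ≫ 𝒳.p.map φ ≫ eqToHom (f.w_obj a)) (f.map χ) :=
    BasedFunctor.preserves_isHomLift f _ _
  obtain ⟨ε, -, -⟩ := K737.Core.exists_iso_of_lifts h𝒳
    (eqToHom p.lies.symm ≫ 𝒳.p.map φ ≫ eqToHom (f.w_obj a)) φ (f.map χ)
  exact (K735.Pts.mk_eq_of_hom (p := p) (q := q.map f) ε.hom).symm

/-- the corestriction of `f` to the substack cut out by a set of points containing the image. -/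
theorem exists_corestriction (h𝒳 : FibCat.IsFibGrpd 𝒳.p) (h𝒱 : FibCat.IsFibGrpd 𝒱.p) (f : 𝒱 ⥤ᵇ 𝒳)
    {T : Set (AlgSt.Points 𝒳)} (hT : Set.range (AlgSt.Points.map f) ⊆ T) : ∀ a, predOf T (f.obj a) :=
  fun a => predOf_mono hT (predOf_range h𝒳 h𝒱 f a)

/-- the corestriction to the image is surjective. -/
theorem surjective_map_lift (h𝒳 : FibCat.IsFibGrpd 𝒳.p) (f : 𝒱 ⥤ᵇ 𝒳)
    {T : Set (AlgSt.Points 𝒳)} (h : ∀ a, predOf T (f.obj a)) (hT : T ⊆ Set.range (AlgSt.Points.map f)) :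
    Function.Surjective (AlgSt.Points.map (lift f h)) := by
  intro z
  obtain ⟨p, rfl⟩ := AlgSt.Points.mk_surjective z
  have h1 : AlgSt.Points.mk (p.map (AlgSt.subIncl 𝒳 (predOf T))) ∈ T :=
    (predOf_fpt T (p.map (AlgSt.subIncl 𝒳 (predOf T)))).1 p.obj.property
  obtain ⟨t, ht⟩ := hT h1
  refine ⟨t, injective_map_subIncl h𝒳 (fun _ _ φ hx => predOf_of_hom φ hx) ?_⟩
  rw [← K735.Pts.map_comp]
  exact ht

end Lift

end K737.Image
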