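import Groth.Agent.AlgSt.K736.Props
import Groth.Agent.AlgSt.K737.Atlas
import Groth.Agent.AlgSp.K628.Props
import Groth.Agent.AlgSp.K628.OpenImm
import Groth.Agent.S10547
/-!
# Immersions are detected after a flat cover of the target (helper737)
-/

set_option autoImplicit false
set_option backward.isDefEq.respectTransparency false
set_option backward.isDefEq.respectTransparency.types false

universe u

open CategoryTheory CategoryTheory.Limits AlgebraicGeometry Opposite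

namespace K737.ImmFlat

variable {S : Scheme.{u}} {𝒳 𝒴 : AlgSt.Cat S}

/-- `RepWith P` morphisms: stable under base change (in the K736 form). -/
theorem stabBC_repWith (P : MorphismProperty Scheme.{u}) [P.IsStableUnderBaseChange] :
    K736.Rep.StabBC (S := S) (AlgSp.RepWith P) :=
  fun _ _ _ _ _ _ _ _ _ _ _ _ sq h => MorphismProperty.of_isPullback sq h

theorem local_imm : AlgSp.IsLocalOnBase AlgSp.IsFppfCover (AlgSp.RepWith (S := S) @IsImmersion) :=
  Groth.Agent.S10547.result S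

theorem local_open : AlgSp.IsLocalOnBase AlgSp.IsFppfCover (AlgSp.RepWith (S := S) @IsOpenImmersion) :=
  Atlas.isLocalOnBase_fppf_of_fpqc K628.Props.isLocalOnBase_isOpenImmersion

theorem local_closed : AlgSp.IsLocalOnBase AlgSp.IsFppfCover (AlgSp.RepWith (S := S) @IsClosedImmersion) :=
  Atlas.isLocalOnBase_fppf_of_fpqc K628.Props.isLocalOnBase_isClosedImmersion

/-- The criterion, with the bootstrap `RepByAlgSp (W ×_𝒴 𝒳) → RepByAlgSp1 f` as a hypothesis. -/
theorem iff_of_boot (h𝒳 : FibCat.IsFibGrpd 𝒳.p) (h𝒴 : FibCat.IsFibGrpd 𝒴.p) {P : MorphismProperty (AlgSp.Sp S)}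
    (hPb : K736.Rep.StabBC P) (hP : AlgSp.IsLocalOnBase AlgSp.IsFppfCover P)
    (f : 𝒳 ⥤ᵇ 𝒴) (W : AlgSp.Space S) (w : AlgSt.ofSp W.obj ⥤ᵇ 𝒴)
    (hw₁ : AlgSt.RepByAlgSpWith (AlgSp.LocP @Flat) w)
    (hw₂ : AlgSt.RepByAlgSpWith (AlgSp.LocP @LocallyOfFinitePresentation) w)
    (hw₃ : AlgSt.RepByAlgSpWith AlgSp.IsSurjectiveMor w)
    (hb : AlgSt.RepByAlgSp (FibCat.fp w f) → AlgSt.RepByAlgSp1 f) :
    AlgSt.RepByAlgSpWith P f ↔
      ∃ (V : AlgSp.Space S) (a : V ⟶ W) (e : AlgSt.ofSp V.obj ⥤ᵇ FibCat.fp w f),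
        FibCat.IsEquivOver e ∧
          Nonempty (BasedFunctor.comp e (FibCat.fpFst w f) ≅ AlgSt.ofSpMap a.hom) ∧ P a.hom := by
  constructor
  · intro h
    exact (K736.Props.s12844 h𝒳 h𝒴 hPb hP (K735.Rep.repByAlgSp1_of_with h) W w hw₁ hw₂ hw₃).1 h
  · intro h
    have h1 : AlgSt.RepByAlgSp1 f := by
      obtain ⟨V, -, e, he, -, -⟩ := h
      exact hb ⟨V, e, he⟩
    exact (K736.Props.s12844 h𝒳 h𝒴 hPb hP h1 W w hw₁ hw₂ hw₃).2 h

end K737.ImmFlat
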