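import Groth.Agent.AlgSt.K737.Closed
import Groth.Agent.Stk.K751.FF
import Groth.Agent.CurvSt.K899.OpenCrit

/-!
# K737.SubSt: full subcategories with loci (open, closed, locally closed) of algebraic stacks are algebraic stacks

* `exists_fac_of_mem`: factorisation through a monomorphism is local for the fppf topology;
* `isAlgStack_fullSub`: `HasLoci P Q` for `P` a class of monomorphisms makes `fullSub 𝒳 Q` an algebraic stack;
* `isClosedSubstack_iff`, `isLocClosedSubstack_iff`.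
-/

set_option backward.isDefEq.respectTransparency false
set_option backward.isDefEq.respectTransparency.types false

universe w₃ v₃ w₂ v₂ w v u

open CategoryTheory CategoryTheory.Limits AlgebraicGeometry Opposite

namespace K737.SubSt

open K737.SubRep K737.Pts K737.LocLift K737.Chart K737.Open K735.Fib K735.Fp K735.Rep K735.Top

variable {S : Scheme.{u}}

/-- Factorisation through a monomorphism is local for a subcanonical topology. -/
theorem exists_fac_of_mem {J : GrothendieckTopology (Over S)} [J.Subcanonical] {Z X T : Over S} (z : Z ⟶ X) [Mono z]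
    (x : T ⟶ X) (R : Sieve T) (hR : R ∈ J T) (h : ∀ ⦃T' : Over S⦄ (g : T' ⟶ T), R g → ∃ v : T' ⟶ Z, v ≫ z = g ≫ x) :
    ∃ v : T ⟶ Z, v ≫ z = x := by
  have hZ : Presieve.IsSheaf J (yoneda.obj Z) :=
    GrothendieckTopology.Subcanonical.isSheaf_of_isRepresentable _
  have hX : Presieve.IsSheaf J (yoneda.obj X) :=
    GrothendieckTopology.Subcanonical.isSheaf_of_isRepresentable _
  choose v hv using h
  have h1 := hZ _ hR
  let fam : Presieve.FamilyOfElements (yoneda.obj Z) R.arrows := fun T' g hg => v g hg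
  have hc : fam.Compatible := by
    intro T₁ T₂ W g₁ g₂ f₁ f₂ h₁ h₂ hg
    change g₁ ≫ v f₁ h₁ = g₂ ≫ v f₂ h₂
    rw [← cancel_mono z, Category.assoc, Category.assoc, hv, hv, ← Category.assoc,
      ← Category.assoc, hg]
  obtain ⟨w, hw, -⟩ := h1 fam hc
  refine ⟨w, ?_⟩
  refine (hX _ hR).isSeparatedFor.ext fun T' g hg => ?_
  change g ≫ (w ≫ z) = g ≫ x
  rw [← hv g hg, ← Category.assoc]
  congr 1
  exact hw g hg

variable {𝒳 : BasedCategory.{v, w} (Over S)} {Q : 𝒳.obj → Prop}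

theorem isStack_fullSub {J : GrothendieckTopology (Over S)} [J.Subcanonical] {P : MorphismProperty Scheme.{u}}
    (hP : P ≤ MorphismProperty.monomorphisms Scheme.{u})
    (h𝒳 : Stk.IsStack J 𝒳) (hQ : ObjectProperty.IsClosedUnderIsomorphisms Q)
    (H : HasLoci P Q) : Stk.IsStack J (AlgSt.fullSub 𝒳 Q) := by
  have h1 : K751.FF.LiftClosed (Q : ObjectProperty 𝒳.obj) := fun y x φ hx =>
    ⟨y, Iso.refl _, H.of_hom h𝒳.1 hQ φ hx, IsHomLift.id rfl⟩
  refine K751.FF.isStack_sub (Q := Q) h𝒳 h1 ?_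
  intro U R hR x hx hloc
  refine ⟨x, Iso.refl _, ?_, IsHomLift.id hx⟩
  obtain ⟨y, e, he⟩ := Core.exists_yo h𝒳.1 x hx
  obtain ⟨Z, i, hi, hl⟩ := H U y
  have : Mono i.left := hP _ hi
  have : Mono i := Over.mono_of_mono_left i
  obtain ⟨k, hk⟩ := exists_fac_of_mem i (𝟙 U) R hR (fun V f hf => by
    have l1 : 𝒳.p.IsHomLift f (Core.toBase y (Over.mk f) ≫ e.hom) := by
      have := Core.toBase_isHomLift y (Over.mk f)
      have h2 : 𝒳.p.IsHomLift (Over.mk f).hom (Core.toBase y (Over.mk f) ≫ e.hom) :=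
        IsHomLift.comp_lift_id_right 𝒳.p _ _ e.hom
      exact h2
    obtain ⟨y', e', hy', -⟩ := hloc f hf (y.obj (Over.mk f)) (Core.toBase y (Over.mk f) ≫ e.hom) l1
    obtain ⟨v, hv⟩ := (hl (Over.mk f)).1 (hQ.of_iso e'.symm hy')
    exact ⟨v, hv.trans (Category.comp_id f).symm⟩)
  exact hQ.of_iso e ((hl (Over.mk (𝟙 U))).2 ⟨k, hk⟩)

theorem overMap_full {U V : Over S} (i : U ⟶ V) [Mono i] : (AlgSt.overMap i).toFunctor.Full where
  map_surjective {a b} f := by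
    refine ⟨Over.homMk f.left ?_, Over.OverMorphism.ext rfl⟩
    rw [← cancel_mono i, Category.assoc]
    exact Over.w f

/-- The atlas of the full subcategory. -/
theorem repByAlgSpWith_locus {P : MorphismProperty Scheme.{u}}
    (hP : P ≤ MorphismProperty.monomorphisms Scheme.{u}) (h𝒳 : FibCat.IsFibGrpd 𝒳.p)
    (hQ : ObjectProperty.IsClosedUnderIsomorphisms Q) (H : HasLoci P Q) {V Z : Over S}
    (x : FibCat.overCat V ⥤ᵇ 𝒳) (i : Z ⟶ V) (hi : P i.left) (hl : IsLocus Q x i)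
    (hx' : ∀ a, Q ((BasedFunctor.comp (AlgSt.overMap i) x).obj a))
    (R : MorphismProperty (AlgSp.Sp S)) (h : AlgSt.RepByAlgSpWith R x) :
    AlgSt.RepByAlgSpWith R (Image.lift (BasedFunctor.comp (AlgSt.overMap i) x) hx') := by
  intro U y
  have : Mono i.left := hP _ hi
  have : Mono i := Over.mono_of_mono_left i
  have hΘ := K899.FpEquiv.Θ_isEquivOver y (AlgSt.overMap i) (AlgSt.subIncl 𝒳 Q)
    (Image.lift (BasedFunctor.comp (AlgSt.overMap i) x) hx') x (Iso.refl _)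
    (overMap_full i) (K899.OpenCrit.overMap_faithful i)
    (inferInstanceAs (ObjectProperty.ι Q).Full) (inferInstanceAs (ObjectProperty.ι Q).Faithful)
    (fun a g j hj => by
      obtain ⟨k, hk⟩ := (hl g).1 (H.of_hom h𝒳 hQ j.inv (y.obj a).property)
      let e : (AlgSt.overMap i).obj (Over.mk k) ≅ g := Over.isoMk (Iso.refl _) ((Category.id_comp _).trans hk.symm)
      exact ⟨Over.mk k, e, IsHomLift.map (FibCat.overCat V).p e.hom⟩)
  exact K899.FpEquiv.exists_rep_of_Θ y _ _ _ _ _ hΘ R (h U _)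

theorem hasAtlas_fullSub {P : MorphismProperty Scheme.{u}}
    (hP : P ≤ MorphismProperty.monomorphisms Scheme.{u}) (h𝒳 : FibCat.IsFibGrpd 𝒳.p)
    (hQ : ObjectProperty.IsClosedUnderIsomorphisms Q) (H : HasLoci P Q) (R : MorphismProperty (AlgSp.Sp S))
    (h : AlgSt.HasAtlas R 𝒳) : AlgSt.HasAtlas R (AlgSt.fullSub 𝒳 Q) := by
  obtain ⟨V, x, h₁, h₂⟩ := h
  obtain ⟨Z, i, hi, hl⟩ := H V x
  have hx' : ∀ a, Q ((BasedFunctor.comp (AlgSt.overMap i) x).obj a) := fun a => (hl _).2 ⟨a.hom, rfl⟩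
  exact ⟨_, _, repByAlgSpWith_locus hP h𝒳 hQ H x i hi hl hx' R h₁, repByAlgSpWith_locus hP h𝒳 hQ H x i hi hl hx' _ h₂⟩

theorem isAlgStack_fullSub {K : Precoverage Scheme.{u}} [(QuotSh.J K S).Subcanonical] {P : MorphismProperty Scheme.{u}}
    (hP : P ≤ MorphismProperty.monomorphisms Scheme.{u})
    (h𝒳 : AlgSt.IsAlgStack K 𝒳) (hQ : ObjectProperty.IsClosedUnderIsomorphisms Q)
    (H : HasLoci P Q) : AlgSt.IsAlgStack K (AlgSt.fullSub 𝒳 Q) :=
  ⟨isStack_fullSub hP h𝒳.isStack hQ H,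
    K899.OpenCrit.repByAlgSp1_diag_fullSub h𝒳.diag (fun φ hx => H.of_hom h𝒳.isStack.1 hQ φ hx),
    hasAtlas_fullSub hP h𝒳.isStack.1 hQ H _ h𝒳.atlas⟩

theorem isClosedSubstack_iff (h𝒳 : AlgSt.IsAlgStack Scheme.fppfPrecoverage 𝒳) (Q : 𝒳.obj → Prop) :
    AlgSt.IsClosedSubstack 𝒳 Q Scheme.fppfPrecoverage ↔
      ObjectProperty.IsClosedUnderIsomorphisms Q ∧ HasLoci @IsClosedImmersion Q := by
  constructor
  · rintro ⟨hQ, -, H⟩
    exact ⟨hQ, (hasLoci_iff _ closedImm_le_mono hQ).1 H⟩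
  · rintro ⟨hQ, H⟩
    exact ⟨hQ, isAlgStack_fullSub closedImm_le_mono h𝒳 hQ H, (hasLoci_iff _ closedImm_le_mono hQ).2 H⟩

theorem isLocClosedSubstack_iff (h𝒳 : AlgSt.IsAlgStack Scheme.fppfPrecoverage 𝒳) (Q : 𝒳.obj → Prop) :
    AlgSt.IsLocClosedSubstack 𝒳 Q Scheme.fppfPrecoverage ↔
      ObjectProperty.IsClosedUnderIsomorphisms Q ∧ HasLoci @IsImmersion Q := by
  constructor
  · rintro ⟨hQ, -, H⟩
    exact ⟨hQ, (hasLoci_iff _ imm_le_mono hQ).1 H⟩
  · rintro ⟨hQ, H⟩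
    exact ⟨hQ, isAlgStack_fullSub imm_le_mono h𝒳 hQ H, (hasLoci_iff _ imm_le_mono hQ).2 H⟩

end K737.SubSt
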