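import Groth.Agent.AlgSt.K737.UniTors
import Groth.Agent.AlgSt.K737.SubSt
import Groth.Agent.AlgSt.K750.QuotEff

/-!
# The open substack of a quotient stack defined by an invariant open, and open subschemes with an action
-/

set_option autoImplicit false
set_option linter.unusedVariables false
set_option linter.style.haveILetI false
set_option backward.isDefEq.respectTransparency false
set_option backward.isDefEq.respectTransparency.types false
set_option linter.dupNamespace false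
set_option linter.unusedSectionVars false

universe w u

open CategoryTheory CategoryTheory.Limits MonoidalCategory CartesianMonoidalCategory MonObj GrpObj AlgebraicGeometry
open AlgSt K750.TorsPts K908.QuotPt K737.Uni K737.UniTors

namespace K737.SubQ

variable {S : Scheme.{u}} {G X : Over S}

/-- the open subscheme over `S` -/
noncomputable abbrev opL (U : X.left.Opens) : Over S := Over.mk (U.ι ≫ X.hom)

/-- its inclusion -/
noncomputable abbrev opJ (U : X.left.Opens) : opL U ⟶ X := Over.homMk U.ι rfl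

instance (U : X.left.Opens) : Mono (opJ U) := by
  have : Mono (opJ U).left := inferInstanceAs (Mono U.ι)
  exact Over.mono_of_mono_left _

theorem exists_fac_iff (U : X.left.Opens) {T : Over S} (x : T ⟶ X) :
    x.left ⁻¹ᵁ U = ⊤ ↔ ∃ l : T ⟶ opL U, l ≫ opJ U = x := by
  constructor
  · intro h
    have h1 : Set.range x.left ⊆ Set.range U.ι := by
      rw [Scheme.Opens.range_ι]
      rintro _ ⟨t, rfl⟩
      have : t ∈ x.left ⁻¹ᵁ U := by rw [h]; trivial
      exact this
    let l₀ := IsOpenImmersion.lift U.ι x.left h1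
    have h2 : l₀ ≫ U.ι = x.left := IsOpenImmersion.lift_fac _ _ _
    refine ⟨Over.homMk l₀ ?_, ?_⟩
    · change l₀ ≫ U.ι ≫ X.hom = T.hom
      rw [← Category.assoc, h2, Over.w]
    · ext1
      exact h2
  · rintro ⟨l, rfl⟩
    rw [Over.comp_left, Scheme.Hom.comp_preimage]
    have h1 : (opJ U).left ⁻¹ᵁ U = ⊤ := by
      change U.ι ⁻¹ᵁ U = ⊤
      exact Scheme.Opens.ι_preimage_self U
    rw [h1]
    rfl

section Act

variable [GrpObj G] (aX : AlgGrp.Action G X)

/-- a stable subfunctor which is representable has an action -/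
theorem exists_action {L : Over S} (j : L ⟶ X) [Mono j]
    (h : ∀ (T : Over S) (g : T ⟶ G) (l : T ⟶ L), ∃ l' : T ⟶ L, l' ≫ j = act aX g (l ≫ j)) :
    ∃ aL : AlgGrp.Action G L, aL.act ≫ j = (G ◁ j) ≫ aX.act := by
  obtain ⟨m, hm⟩ := h (G ⊗ L) (fst _ _) (snd _ _)
  have key : ∀ (T : Over S) (g : T ⟶ G) (l : T ⟶ L), (lift g l ≫ m) ≫ j = act aX g (l ≫ j) := by
    intro T g l
    rw [Category.assoc, hm, comp_act, lift_fst, ← Category.assoc, lift_snd]
  refine ⟨{ act := m, one_act := ?_, mul_act := ?_ }, ?_⟩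
  · apply K750.QuotEff.one_act_of_pts
    intro T q
    rw [← cancel_mono j, key, act_one]
  · apply K750.QuotEff.mul_act_of_pts
    intro T g g' q
    rw [← cancel_mono j, key, key, key, act_mul]
  · change m ≫ j = _
    rw [hm, act]
    congr 1

end Act

section Sub

variable [GrpObj G] {aX : AlgGrp.Action G X} {K : Precoverage Scheme.{u}}

theorem isStack_fullSub [(QuotSh.J K S).Subcanonical] (hQ : Stk.IsStack (QuotSh.J K S) (QuotSt K G aX))
    (U : X.left.Opens) :
    Stk.IsStack (QuotSh.J K S) (AlgSt.fullSub (QuotSt K G aX) (fun o => o.φ.left ⁻¹ᵁ U = ⊤)) := by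
  have h0 : ∀ {y x : (QuotSt K G aX).obj} (φ : y ⟶ x), x.φ.left ⁻¹ᵁ U = ⊤ → y.φ.left ⁻¹ᵁ U = ⊤ := by
    intro y x φ hx
    have h1 : φ.top ≫ x.φ = y.φ := φ.wφ
    rw [← h1, Over.comp_left, Scheme.Hom.comp_preimage, hx]
    rfl
  have h1 : K751.FF.LiftClosed (𝒳 := QuotSt K G aX) (fun o => o.φ.left ⁻¹ᵁ U = ⊤) := fun y x φ hx =>
    ⟨y, Iso.refl _, h0 φ hx, IsHomLift.id rfl⟩
  refine K751.FF.isStack_sub (Q := fun o : (QuotSt K G aX).obj => o.φ.left ⁻¹ᵁ U = ⊤) hQ h1 ?_
  rintro V R hR x rfl hloc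
  refine ⟨x, Iso.refl _, ?_, IsHomLift.id rfl⟩
  rw [exists_fac_iff]
  refine K737.SubSt.exists_fac_of_mem (opJ U) x.φ _ ((QuotSh.J K S).pullback_stable x.π hR) ?_
  intro T g hg
  obtain ⟨y, φ, hφ⟩ := hQ.1.exists_lift (x := x) (g ≫ x.π)
  obtain ⟨y', e, hy', -⟩ := hloc (g ≫ x.π) hg y φ hφ
  have hy : y.φ.left ⁻¹ᵁ U = ⊤ := h0 e.hom hy'
  obtain ⟨l, hl⟩ := (exists_fac_iff U y.φ).1 hy
  have hd : y.base = T := IsHomLift.domain_eq (QuotSt K G aX).p (g ≫ x.π) φ
  subst hd
  have hb : φ.base = g ≫ x.π := (IsHomLift.eq_of_isHomLift (QuotSt K G aX).p (g ≫ x.π) φ).symm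
  let p := φ.cart.lift g (𝟙 _) (by rw [hb, Category.id_comp])
  have hp : p ≫ φ.top = g := φ.cart.lift_fst _ _ _
  refine ⟨p ≫ l, ?_⟩
  have h2 : φ.top ≫ x.φ = y.φ := φ.wφ
  rw [Category.assoc, hl, ← h2, ← Category.assoc, hp]

end Sub

end K737.SubQ
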