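import Groth.Agent.AlgSt.K737.UnivC
import Groth.Agent.AlgSt.K737.SubQ

/-!
# The invariant neighbourhood on which `f` is injective on stabilizers
-/

set_option autoImplicit false
set_option linter.unusedVariables false
set_option linter.style.haveILetI false
set_option backward.isDefEq.respectTransparency false
set_option backward.isDefEq.respectTransparency.types false
set_option linter.dupNamespace false
set_option linter.unusedSectionVars false

universe w u

open CategoryTheory CategoryTheory.Limits MonoidalCategory CartesianMonoidalCategory MonObj GrpObj AlgebraicGeometry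
open AlgSt K750.TorsPts K908.QuotPt K737.Uni K737.UniTors K737.FrPt K737.InvNbhd K737.Gal K737.FreeOrb K737.AffAct CoactBr
open HopfRep GLin K737.SubQ K737.Span Groth.Agent.Books.AffBridge
open scoped TensorProduct

namespace K737.InvU

variable {k : Type u} [Field k] {H : Type u} [CommRing H] [HopfAlgebra k H]
variable {A : Type u} [CommRing A] [Algebra k A] [Comod k H A] [IsCoactAlg k H A]

section Sch

theorem mv_incl {C : Type u} [CommRing C] [Algebra k C] [Comod k H C] [IsCoactAlg k H C] :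
    mv (Algebra.TensorProduct.includeLeft : C →ₐ[k] C ⊗[k] H) Algebra.TensorProduct.includeRight =
      coactAlgHom k H C := by
  have h2 : Algebra.TensorProduct.lift (Algebra.TensorProduct.includeLeft : C →ₐ[k] C ⊗[k] H)
      (Algebra.TensorProduct.includeRight : H →ₐ[k] C ⊗[k] H) (fun _ _ => .all _ _) = AlgHom.id k _ := by
    ext x <;> simp
  rw [mv, h2, AlgHom.id_comp]

/-- equivariance on rings from equivariance of schemes -/
theorem isEquiv_of_eqv {C : Type u} [CommRing C] [Algebra k C] [Comod k H C] [IsCoactAlg k H C] (q : A →ₐ[k] C)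
    (h : (CoactBr.action k H C).act ≫ pt q = (sp k H ◁ pt q) ≫ (CoactBr.action k H A).act) :
    K765.Basic.IsEquiv H q := by
  have h1 := act_eqv (CoactBr.action k H C) (CoactBr.action k H A) (pt q) h
    (pt (Algebra.TensorProduct.includeRight : H →ₐ[k] C ⊗[k] H))⁻¹
    (pt (Algebra.TensorProduct.includeLeft : C →ₐ[k] C ⊗[k] H))
  rw [act_pt, ← pt_comp, ← pt_comp, act_pt] at h1
  have h2 := CoactBr.pt_injective h1
  rw [mv_incl] at h2
  have h3 : mv ((Algebra.TensorProduct.includeLeft : C →ₐ[k] C ⊗[k] H).comp q) Algebra.TensorProduct.includeRight =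
      (Algebra.TensorProduct.map q (AlgHom.id k H)).comp (coactAlgHom k H A) := by
    have h4 : Algebra.TensorProduct.lift ((Algebra.TensorProduct.includeLeft : C →ₐ[k] C ⊗[k] H).comp q)
        (Algebra.TensorProduct.includeRight : H →ₐ[k] C ⊗[k] H) (fun _ _ => .all _ _) =
        Algebra.TensorProduct.map q (AlgHom.id k H) := by
      ext x <;> simp
    rw [mv, h4]
  rw [h3] at h2
  intro s
  exact congrArg (fun φ : A →ₐ[k] C ⊗[k] H => φ s) h2

theorem ract_preimage {s : A} (hs : s ∈ invariants k H A) :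
    (CoactBr.ract k H A).left ⁻¹ᵁ (PrimeSpectrum.basicOpen s) =
      (fst (sp k A) (sp k H)).left ⁻¹ᵁ (PrimeSpectrum.basicOpen s) := by
  let φ := lift (pt (Algebra.TensorProduct.includeLeft : A →ₐ[k] A ⊗[k] H))
      (pt (Algebra.TensorProduct.includeRight : H →ₐ[k] A ⊗[k] H))
  have i1 : IsIso φ := isIso_lift_incl (k := k) (H := H) A
  have i2 : IsIso φ.left := inferInstanceAs (IsIso ((Over.forget _).map φ))
  have h1 : φ ≫ CoactBr.ract k H A = pt (coactAlgHom k H A) := by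
    change lift _ _ ≫ CoactBr.ract k H A = _
    rw [← pt_mv, mv_incl]
  have h2 : φ ≫ fst (sp k A) (sp k H) = pt (Algebra.TensorProduct.includeLeft : A →ₐ[k] A ⊗[k] H) := lift_fst _ _
  have h3 : φ.left ⁻¹ᵁ (CoactBr.ract k H A).left ⁻¹ᵁ (PrimeSpectrum.basicOpen s) =
      φ.left ⁻¹ᵁ (fst (sp k A) (sp k H)).left ⁻¹ᵁ (PrimeSpectrum.basicOpen s) := by
    rw [← Scheme.Hom.comp_preimage, ← Scheme.Hom.comp_preimage, ← Over.comp_left, ← Over.comp_left, h1, h2]
    change (PrimeSpectrum.basicOpen (Comod.coact (k := k) (A := H) s) : TopologicalSpace.Opens _) =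
      PrimeSpectrum.basicOpen (s ⊗ₜ[k] (1 : H))
    rw [(mem_invariants_iff k H A s).1 hs]
  ext x
  obtain ⟨y, rfl⟩ := φ.left.surjective x
  exact Iff.of_eq (congrArg (fun W : (sp k (A ⊗[k] H)).left.Opens => y ∈ W) h3)

theorem exists_act_fac {U : (sp k A).left.Opens}
    (hU : (CoactBr.ract k H A).left ⁻¹ᵁ U = (fst (sp k A) (sp k H)).left ⁻¹ᵁ U)
    (T : Over (Spec (CommRingCat.of k))) (g : T ⟶ sp k H) (l : T ⟶ opL U) :
    ∃ l' : T ⟶ opL U, l' ≫ opJ U = act (CoactBr.action k H A) g (l ≫ opJ U) := by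
  rw [← exists_fac_iff]
  have h1 : (l ≫ opJ U).left ⁻¹ᵁ U = ⊤ := (exists_fac_iff U _).2 ⟨l, rfl⟩
  rw [act, lift_action_act, Over.comp_left, Scheme.Hom.comp_preimage, hU, ← Scheme.Hom.comp_preimage,
    ← Over.comp_left, lift_fst]
  exact h1

end Sch

section Main

variable [IsAlgClosed k] [Algebra.FiniteType k H] [Algebra.FiniteType k A] (hG : IsLinearlyReductive k H)
  {𝒳 : AlgSt.Cat (Spec (CommRingCat.of k))} (h𝒳 : FibCat.IsFibGrpd 𝒳.p)
  (hd : AlgSt.RepByAlgSpWith AlgSp.IsAffineMor (FibCat.diag (FibCat.toSelf 𝒳)))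
  {V : Over (Spec (CommRingCat.of k))} (v : FibCat.overCat V ⥤ᵇ 𝒳) (hV : IsAffine V.left)
  (hv : AlgSt.RepByAlgSpWith (AlgSp.LocP @Smooth) v) (hv' : AlgSt.RepByAlgSpWith AlgSp.IsSurjectiveMor v)
  (f : QuotSt Scheme.fppfPrecoverage (sp k H) (CoactBr.action k H A) ⥤ᵇ 𝒳)
  (hQ : FibCat.IsFibGrpd (QuotSt Scheme.fppfPrecoverage (sp k H) (CoactBr.action k H A)).p)
  (w : A →ₐ[k] k) (hw : IsClosedOrbit k H w)
  (hst : ∀ (R : Type u) [CommRing R] [Algebra k R], Fr f (pt (Algebra.ofId k R) ≫ pt w))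

theorem lof_sp : LocallyOfFiniteType (sp k A).hom :=
  (Groth.Agent.Books.AffBridge2.locallyOfFiniteType_specOver_iff k A).2 inferInstance

include hG h𝒳 hd hV hv hv' hw hst

/-- **the invariant function** -/
theorem exists_s : ∃ s ∈ invariants k H A, w s = 1 ∧ ∀ y : A →ₐ[k] k, y s ≠ 0 →
    ∀ (R : Type u) [CommRing R] [Algebra k R], Fr f (pt (Algebra.ofId k R) ≫ pt y) := by
  obtain ⟨C, i1, i2, i3, π, u, hu, hs, hs'⟩ := K737.ChartC.exists_chart h𝒳 hd v hV hv hv' f (𝟙 (sp k A))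
    (inferInstanceAs (IsAffine (Spec (CommRingCat.of A)))) lof_sp
  have hj : (CoactBr.action k H A).act ≫ 𝟙 (sp k A) = (sp k H ◁ 𝟙 (sp k A)) ≫ (CoactBr.action k H A).act := by
    rw [Category.comp_id, MonoidalCategory.whiskerLeft_id, Category.id_comp]
  obtain ⟨i₁, i₂, ha⟩ := exists_coaction (aP hu (CoactBr.action k H A) hj)
  obtain ⟨q, hq⟩ := exists_pt π
  have heq : K765.Basic.IsEquiv H q := by
    apply isEquiv_of_eqv
    rw [hq, ha]
    exact eqv_π hu (CoactBr.action k H A) hj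
  have hπ : π.left = Spec.map (CommRingCat.ofHom q.toRingHom) := by rw [← hq]; rfl
  have ho : IsOpenMap (PrimeSpectrum.comap q.toRingHom) := by
    have h1 : IsOpenMap π.left := π.left.isOpenMap
    rw [hπ] at h1
    exact h1
  have hsur : Function.Surjective (PrimeSpectrum.comap q.toRingHom) := by
    have h1 := π.left.surjective
    rw [hπ] at h1
    exact h1
  obtain ⟨s, hs1, hs2, hs3⟩ := exists_nbhd hG heq ho hsur hw (by
    rintro c ⟨g, hg⟩
    apply stab_of_free
    intro R _ _ g' hg'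
    rw [ha] at hg'
    obtain ⟨e, he⟩ := fr_eq_id_of_fixed h𝒳 hu (CoactBr.action k H A) hj g' (pt ((Algebra.ofId k R).comp c)) hg'
      (act (CoactBr.action k H A) (pt (Algebra.ofId k R) ≫ (pt g)⁻¹) (pt (Algebra.ofId k R) ≫ pt w)) (by
        rw [Category.comp_id, ← hq, pt_comp, Category.assoc, ← pt_comp, hg, ← comp_act, act, lift_action_act,
          _root_.inv_inv, lift_pt_ract_eq_actPt])
    exact (hst R).act _ g' e he)
  refine ⟨s, hs1, hs2, fun y hy R _ _ => ?_⟩
  obtain ⟨h, c, hcq, hch, hz⟩ := hs3 y hy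
  intro g e he
  have ht : pt ((Algebra.ofId k R).comp c) ≫ π ≫ 𝟙 (sp k A) = pt (Algebra.ofId k R) ≫ pt y := by
    rw [Category.comp_id, ← hq, pt_comp, Category.assoc, ← pt_comp, hcq]
  have h1 := fixed_of_fr_eq_id h𝒳 hu (CoactBr.action k H A) hj g (pt ((Algebra.ofId k R).comp c))
    (pt (Algebra.ofId k R) ≫ pt y) ht e (by
      rw [Category.comp_id] at ht
      rw [Category.id_comp] at e
      rw [ht, e]) he
  rw [← ha] at h1
  refine eq_one_of_can (h := h) ?_ hz g h1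
  exact (IsUnit.mk0 _ hch).map (algebraMap k R)

/-- **the universal arrow on the neighbourhood** -/
theorem exists_U (h𝒳' : Stk.IsPrestack (AlgSp.J (Spec (CommRingCat.of k))) 𝒳) :
    ∃ U : (sp k A).left.Opens, IsAffineOpen U ∧ (pt w).left ⁻¹ᵁ U = ⊤ ∧
      (CoactBr.ract k H A).left ⁻¹ᵁ U = (fst (sp k A) (sp k H)).left ⁻¹ᵁ U ∧
      ∃ (o : (QuotSt Scheme.fppfPrecoverage (sp k H) (CoactBr.action k H A)).obj) (κ₀ : f.obj o ⟶ v.obj (one' V)),
        IsAffine o.base.left ∧ o.φ.left ⁻¹ᵁ U = ⊤ ∧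
        ∀ (A' : (QuotSt Scheme.fppfPrecoverage (sp k H) (CoactBr.action k H A)).obj), A'.φ.left ⁻¹ᵁ U = ⊤ →
          ∀ κ : f.obj A' ⟶ v.obj (one' V), ∃! χ : A' ⟶ o, f.map χ ≫ κ₀ = κ := by
  obtain ⟨s, hs1, hs2, hs3⟩ := exists_s hG h𝒳 hd v hV hv hv' f w hw hst
  let U : (sp k A).left.Opens := PrimeSpectrum.basicOpen s
  have hU : IsAffineOpen U := AlgebraicGeometry.IsAffineOpen.Spec_basicOpen (R := CommRingCat.of A) s
  have hU' : (CoactBr.ract k H A).left ⁻¹ᵁ U = (fst (sp k A) (sp k H)).left ⁻¹ᵁ U := ract_preimage hs1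
  have hpt : ∀ (y : A →ₐ[k] k), (pt y).left ⁻¹ᵁ U = PrimeSpectrum.basicOpen (y s) := fun y => rfl
  have hL : IsAffine (opL U).left := hU
  have hX := lof_sp (k := k) (A := A)
  have hLf : LocallyOfFiniteType (opL U).hom := by
    change LocallyOfFiniteType (U.ι ≫ (sp k A).hom)
    infer_instance
  obtain ⟨C, i1, i2, i3, π, u, hu, hs, hs'⟩ := K737.ChartC.exists_chart h𝒳 hd v hV hv hv' f (opJ U) hL hLf
  obtain ⟨aL, hj⟩ := exists_action (CoactBr.action k H A) (opJ U) (exists_act_fac hU')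
  obtain ⟨o, κ₀, ho, ⟨l₀, hl₀⟩, huniv⟩ := K737.UnivC.exists_universal hG h𝒳' hu aL hj (by
    intro l₀ R _ _
    obtain ⟨y, hy⟩ := exists_pt (l₀ ≫ opJ U)
    rw [← hy]
    apply hs3 y
    intro h0
    have h1 : (pt y).left ⁻¹ᵁ U = ⊤ := (exists_fac_iff U _).2 ⟨l₀, hy.symm⟩
    rw [hpt, h0, PrimeSpectrum.basicOpen_zero] at h1
    have h2 : (⊥ : PrimeSpectrum k) ∈ (⊤ : TopologicalSpace.Opens (PrimeSpectrum k)) := trivial
    rw [← h1] at h2
    exact h2)
  refine ⟨U, hU, ?_, hU', o, κ₀, ho, (exists_fac_iff U _).2 ⟨l₀, hl₀⟩, fun A' hA' κ => ?_⟩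
  · rw [hpt, hs2, PrimeSpectrum.basicOpen_one]
  · obtain ⟨l, hl⟩ := (exists_fac_iff U _).1 hA'
    exact huniv A' l hl κ

end Main

end K737.InvU
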