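import Groth.Agent.AlgSt.K740.Mono
import Groth.Agent.AlgSt.K734.RepSp2
import Groth.Agent.AlgSp.K594.Basic
import Groth.Agent.AlgSt.K737.Core

/-!
# K737.MonoFF: monomorphisms = representable and fully faithful
-/

set_option backward.isDefEq.respectTransparency false
set_option backward.isDefEq.respectTransparency.types false

universe v₅ u₅ v₄ u₄ w₃ v₃ w₂ v₂ w v u

open CategoryTheory CategoryTheory.Limits AlgebraicGeometry Opposite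

namespace K737.MonoFF

variable {S : Scheme.{u}}

theorem mono_of_full {F : AlgSp.Sp S} {U : Over S} (Φ : AlgSt.ofSp F ⥤ᵇ FibCat.overCat U)
    (hΦ : Φ.toFunctor.Full) : CategoryTheory.Mono (AlgSt.spMapOfOver Φ) := by
  rw [K594.Basic.mono_iff]
  intro T s s' h
  have h1 : AlgSt.secHom Φ ⟨T, s⟩ = AlgSt.secHom Φ ⟨T, s'⟩ := congrArg ULift.down h
  have w1 : (Φ.obj ⟨T, s⟩).left = T := Φ.w_obj ⟨T, s⟩
  have w2 : (Φ.obj ⟨T, s'⟩).left = T := Φ.w_obj ⟨T, s'⟩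
  let m : Φ.obj ⟨T, s⟩ ⟶ Φ.obj ⟨T, s'⟩ := Over.homMk (eqToHom (w1.trans w2.symm)) (by
    have e1 : (Φ.obj ⟨T, s⟩).hom = eqToHom w1 ≫ AlgSt.secHom Φ ⟨T, s⟩ := by
      rw [AlgSt.secHom, eqToHom_trans_assoc, eqToHom_refl, Category.id_comp]
    have e2 : (Φ.obj ⟨T, s'⟩).hom = eqToHom w2 ≫ AlgSt.secHom Φ ⟨T, s'⟩ := by
      rw [AlgSt.secHom, eqToHom_trans_assoc, eqToHom_refl, Category.id_comp]
    rw [e1, e2, h1, eqToHom_trans_assoc])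
  let k : (⟨T, s⟩ : (AlgSt.ofSp F).obj) ⟶ ⟨T, s'⟩ := Φ.toFunctor.preimage m
  have hk : Φ.map k = m := Φ.toFunctor.map_preimage m
  have h2 : (Φ.map k).left = eqToHom w1 ≫ k.hom ≫ eqToHom w2.symm :=
    Functor.congr_hom Φ.w k
  have h3 : k.hom = 𝟙 T := by
    rw [hk] at h2
    change eqToHom (w1.trans w2.symm) = _ at h2
    have h4 : eqToHom w1.symm ≫ eqToHom (w1.trans w2.symm) ≫ eqToHom w2 = k.hom := by
      rw [h2]
      simp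
    rw [← h4]
    simp
  have h5 := k.map_sec
  rw [h3] at h5
  change F.obj.map (𝟙 (op T)) s' = s at h5
  rw [F.obj.map_id] at h5
  exact h5.symm

variable {𝒳 : BasedCategory.{v, w} (Over S)} {𝒴 : BasedCategory.{v₂, w₂} (Over S)}

theorem isMono_of_full {f : 𝒳 ⥤ᵇ 𝒴} (hf : AlgSt.RepByAlgSp1 f) (h : f.toFunctor.Full) : AlgSt.IsMono f := by
  intro U y
  obtain ⟨F, e, he⟩ := hf U y
  refine ⟨F, e, he, mono_of_full _ ?_⟩
  have h1 : (FibCat.fpFst y f).toFunctor.Full := K734.Fib.full_fpFst y f h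
  have h2 : e.toFunctor.Full := K737.Core.IsEquivOver.full he
  exact inferInstanceAs (e.toFunctor ⋙ (FibCat.fpFst y f).toFunctor).Full

theorem isMono_iff (h𝒴 : FibCat.IsFibGrpd 𝒴.p) (f : 𝒳 ⥤ᵇ 𝒴) :
    AlgSt.IsMono f ↔ AlgSt.RepByAlgSp1 f ∧ f.toFunctor.Full ∧ f.toFunctor.Faithful :=
  ⟨fun h => ⟨K735.Rep.repByAlgSp1_of_with h, K740.Mono.full_faithful_of_isMono h𝒴 f h⟩,
    fun h => isMono_of_full h.1 h.2.1⟩

theorem isMono_comp {𝒳 𝒴 : AlgSt.Cat S} {𝒵 : BasedCategory.{v₃, w₃} (Over S)} (h𝒳 : FibCat.IsFibGrpd 𝒳.p)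
    (h𝒴 : FibCat.IsFibGrpd 𝒴.p) (h𝒵 : FibCat.IsFibGrpd 𝒵.p) {f : 𝒳 ⥤ᵇ 𝒴} {g : 𝒴 ⥤ᵇ 𝒵} (hf : AlgSt.IsMono f)
    (hg : AlgSt.IsMono g) : AlgSt.IsMono (BasedFunctor.comp f g) := by
  obtain ⟨f1, f2, -⟩ := (isMono_iff h𝒴 f).1 hf
  obtain ⟨g1, g2, -⟩ := (isMono_iff h𝒵 g).1 hg
  exact isMono_of_full (K734.Rep.repByAlgSp1_comp h𝒳 h𝒴 f1 g1)
    (inferInstanceAs (f.toFunctor ⋙ g.toFunctor).Full)

end K737.MonoFF
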