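import Groth.Agent.AlgSt.K737.Open
import Groth.Agent.CurvSt.K899.OpenCrit

/-!
# K737.OpenSt: open substacks of algebraic stacks are the predicates with open loci
-/

set_option backward.isDefEq.respectTransparency false
set_option backward.isDefEq.respectTransparency.types false

universe w v u

open CategoryTheory CategoryTheory.Limits AlgebraicGeometry Opposite

namespace K737.OpenSt

open K737.SubRep K737.Pts K737.LocLift K737.Chart K737.Open K735.Fib K735.Fp K735.Rep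

variable {S : Scheme.{u}} {𝒳 : BasedCategory.{v, w} (Over S)}

theorem exists_fac_iff_range {U Z : Over S} (i : Z ⟶ U) [IsOpenImmersion i.left] (g : Over U) :
    (∃ h : g.left ⟶ Z, h ≫ i = g.hom) ↔ Set.range g.hom.left ⊆ Set.range i.left := by
  constructor
  · rintro ⟨h, hh⟩ _ ⟨t, rfl⟩
    rw [← hh, Over.comp_left, Scheme.Hom.comp_apply]
    exact ⟨_, rfl⟩
  · intro h
    refine ⟨Over.homMk (IsOpenImmersion.lift i.left g.hom.left h) ?_, ?_⟩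
    · rw [← Over.w i, IsOpenImmersion.lift_fac_assoc, Over.w]
    · apply Over.OverMorphism.ext
      exact IsOpenImmersion.lift_fac i.left _ h

theorem hasOpenLocus_of_hasLoci (h𝒳 : FibCat.IsFibGrpd 𝒳.p) {Q : 𝒳.obj → Prop}
    (hQ : ObjectProperty.IsClosedUnderIsomorphisms Q) (H : HasLoci @IsOpenImmersion Q) :
    K899.OpenCrit.HasOpenLocus Q := by
  intro x
  obtain ⟨y, e, he⟩ := Core.exists_yo h𝒳 x rfl
  obtain ⟨Z, i, hi, hl⟩ := H _ y
  have : IsOpenImmersion i.left := hi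
  refine ⟨i.left.opensRange, fun z φ => ?_⟩
  obtain ⟨f, hf, e', he', -⟩ := Core.exists_iso_obj' h𝒳 y (Over.mk (𝟙 _)) (φ ≫ e.inv)
  have h1 : Q z ↔ Q (y.obj (Over.mk (f ≫ (Over.mk (𝟙 (𝒳.p.obj x))).hom))) :=
    ⟨fun h => hQ.of_iso e'.symm h, fun h => hQ.of_iso e' h⟩
  rw [h1, hl, exists_fac_iff_range]
  have h2 : 𝒳.p.IsHomLift f φ := by
    have he2 : 𝒳.p.IsHomLift (𝟙 (Over.mk (𝟙 (𝒳.p.obj x))).left) e.hom := he
    have h3 : 𝒳.p.IsHomLift (f ≫ 𝟙 (𝒳.p.obj x)) ((φ ≫ e.inv) ≫ e.hom) := IsHomLift.comp 𝒳.p f (𝟙 _) _ e.hom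
    rw [Category.assoc, e.inv_hom_id, Category.comp_id] at h3
    rw [← Category.comp_id f]
    exact h3
  have h4 : f = 𝒳.p.map φ := IsHomLift.eq_of_isHomLift 𝒳.p f φ
  have h5 : f ≫ (Over.mk (𝟙 (𝒳.p.obj x))).hom = 𝒳.p.map φ := by
    rw [h4]; exact Category.comp_id _
  change Set.range (f ≫ (Over.mk (𝟙 (𝒳.p.obj x))).hom).left ⊆ _ ↔ _
  rw [h5]
  rfl

theorem isOpenSubstack_iff (h𝒳 : AlgSt.IsAlgStack Scheme.fppfPrecoverage 𝒳) (Q : 𝒳.obj → Prop) :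
    AlgSt.IsOpenSubstack 𝒳 Q Scheme.fppfPrecoverage ↔
      ObjectProperty.IsClosedUnderIsomorphisms Q ∧ HasLoci @IsOpenImmersion Q := by
  have hG := h𝒳.isStack.1
  constructor
  · rintro ⟨hQ, -, H⟩
    exact ⟨hQ, (hasLoci_iff _ openImm_le_mono hQ).1 H⟩
  · rintro ⟨hQ, H⟩
    exact K899.OpenCrit.isOpenSubstack h𝒳 (hasOpenLocus_of_hasLoci hG hQ H)

/-- the open substack of an open set of points. -/
theorem isOpenSubstack_predOf (h𝒳 : AlgSt.IsAlgStack Scheme.fppfPrecoverage 𝒳) {T : Set (AlgSt.Points 𝒳)}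
    (hT : IsOpen T) :
    AlgSt.IsOpenSubstack 𝒳 (predOf T) Scheme.fppfPrecoverage ∧
      Set.range (AlgSt.Points.map (AlgSt.subIncl 𝒳 (predOf T))) = T := by
  have hG := h𝒳.isStack.1
  have hT' : ∀ (U : Over S) (y : FibCat.overCat U ⥤ᵇ 𝒳), IsOpen (AlgSt.Points.ofChart y ⁻¹' T) :=
    fun U y => K737.Chart.isOpen_preimage_ofChart hG h𝒳.atlas y hT
  exact ⟨(isOpenSubstack_iff h𝒳 _).2 ⟨K737.Open.predOf_iso T, K737.Open.hasLoci_predOf hG hT'⟩,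
    K737.Open.range_predOf hG hT'⟩

theorem isOpen_range_of_isOpenSubstack (h𝒳 : AlgSt.IsAlgStack Scheme.fppfPrecoverage 𝒳) {Q : 𝒳.obj → Prop}
    (hQ : AlgSt.IsOpenSubstack 𝒳 Q Scheme.fppfPrecoverage) :
    IsOpen (Set.range (AlgSt.Points.map (AlgSt.subIncl 𝒳 Q))) := by
  obtain ⟨hQ, H⟩ := (isOpenSubstack_iff h𝒳 Q).1 hQ
  exact K737.Open.isOpen_range h𝒳.isStack.1 hQ H

theorem iff_predOf (h𝒳 : AlgSt.IsAlgStack Scheme.fppfPrecoverage 𝒳) {Q : 𝒳.obj → Prop}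
    (hQ : AlgSt.IsOpenSubstack 𝒳 Q Scheme.fppfPrecoverage) (x : 𝒳.obj) :
    Q x ↔ predOf (Set.range (AlgSt.Points.map (AlgSt.subIncl 𝒳 Q))) x := by
  obtain ⟨hQ, H⟩ := (isOpenSubstack_iff h𝒳 Q).1 hQ
  exact iff_predOf_range h𝒳.isStack.1 hQ H x

end K737.OpenSt
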