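import Groth.Prelude.Def_AlgSt3
import Groth.Agent.AlgSt.K737.Core

/-!
# K737.SubRep: representability of the inclusion of a full subcategory, elementwise

For `𝒳` fibred in groupoids over `(Sch/S)` and a predicate `Q` on its objects closed under isomorphisms,
the inclusion `fullSub 𝒳 Q ⥤ᵇ 𝒳` is representable by algebraic spaces with property `RepWith P` (`P` a class of
monomorphisms of schemes stable under base change) if and only if for every `y : (Sch/U) ⥤ᵇ 𝒳` there is a morphism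
`i : Z ⟶ U` with `P` such that `Q (y g)` iff `g` factors through `i`.
-/

set_option backward.isDefEq.respectTransparency false
set_option backward.isDefEq.respectTransparency.types false

universe w v u

open CategoryTheory CategoryTheory.Limits AlgebraicGeometry Opposite

namespace K737.SubRep

variable {S : Scheme.{u}} {𝒳 : BasedCategory.{v, w} (Over S)} {Q : 𝒳.obj → Prop}

/-- `i : Z ⟶ U` cuts out the locus of `Q` in the family `y`. -/
def IsLocus (Q : 𝒳.obj → Prop) {U : Over S} (y : FibCat.overCat U ⥤ᵇ 𝒳) {Z : Over S} (i : Z ⟶ U) : Prop :=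
  ∀ g : Over U, Q (y.obj g) ↔ ∃ h : g.left ⟶ Z, h ≫ i = g.hom

section Mk

variable (hQ : ObjectProperty.IsClosedUnderIsomorphisms Q) {U : Over S} (y : FibCat.overCat U ⥤ᵇ 𝒳) {Z : Over S}
  (i : Z ⟶ U) (hi : IsLocus Q y i)

/-- the functor `ofSp h_Z ⟶ (Sch/U)`, `(T, h) ↦ h ≫ i`. -/
def base : AlgSt.ofSp ((AlgSp.yon S).obj Z) ⥤ᵇ FibCat.overCat U :=
  BasedFunctor.comp (AlgSt.toOverCat Z) (AlgSt.overMap i)

include hi in
/-- the functor `ofSp h_Z ⟶ fullSub 𝒳 Q`. -/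
def toSub : AlgSt.ofSp ((AlgSp.yon S).obj Z) ⥤ᵇ AlgSt.fullSub 𝒳 Q where
  toFunctor := ObjectProperty.lift (P := Q) (BasedFunctor.comp (base i) y).toFunctor
    (fun a => (hi _).2 ⟨a.sec.down, rfl⟩)
  w := (BasedFunctor.comp (base i) y).w

/-- the comparison functor `ofSp h_Z ⟶ (Sch/U) ×_𝒳 fullSub 𝒳 Q`. -/
def cmp : AlgSt.ofSp ((AlgSp.yon S).obj Z) ⥤ᵇ FibCat.fp y (AlgSt.subIncl 𝒳 Q) :=
  FibCat.fpLift (base i) (toSub y i hi)
    (BasedNatIso.mkNatIso (NatIso.ofComponents (fun _ => Iso.refl _) (fun f => by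
        dsimp; rw [Category.comp_id, Category.id_comp]; rfl))
      (fun a => by
        dsimp
        exact IsHomLift.id (BasedFunctor.w_obj (BasedFunctor.comp (base i) y) a)))

theorem cmp_faithful [Mono i] : (cmp y i hi).toFunctor.Faithful where
  map_injective {a b} f g h := by
    apply Stk.EltObj.hom_ext
    have h1 : ((cmp y i hi).map f).hom.fst.left = ((cmp y i hi).map g).hom.fst.left := by
      rw [show (cmp y i hi).map f = (cmp y i hi).map g from h]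
    exact h1

theorem cmp_full [Mono i] : (cmp y i hi).toFunctor.Full where
  map_surjective {a b} m := by
    have hm : m.hom.fst.left ≫ (b.sec.down ≫ i) = a.sec.down ≫ i := Over.w m.hom.fst
    let k : a.base ⟶ b.base := m.hom.fst.left
    have hk : k ≫ b.sec.down = a.sec.down := by
      rw [← cancel_mono i, Category.assoc]
      exact hm
    refine ⟨⟨k, congrArg ULift.up hk⟩, ?_⟩
    apply ObjectProperty.hom_ext
    apply CategoricalPullback.hom_ext
    · apply Over.OverMorphism.ext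
      rfl
    · apply ObjectProperty.hom_ext
      have hw := m.hom.w
      have e1 : ((cmp y i hi).obj a).obj.iso.hom = 𝟙 _ := rfl
      have e2 : ((cmp y i hi).obj b).obj.iso.hom = 𝟙 _ := rfl
      rw [e1, e2] at hw
      have hw' : y.map m.hom.fst = m.hom.snd.hom := by
        have := hw
        simp only [Category.comp_id, Category.id_comp] at this
        exact this
      rw [← hw']
      change y.map _ = y.map _
      congr 1
      
include hQ in
theorem cmp_ess (η : (FibCat.fp y (AlgSt.subIncl 𝒳 Q)).obj) :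
    ∃ (ξ : (AlgSt.ofSp ((AlgSp.yon S).obj Z)).obj) (e : (cmp y i hi).obj ξ ≅ η),
      (FibCat.fp y (AlgSt.subIncl 𝒳 Q)).p.IsHomLift (𝟙 ((FibCat.fp y (AlgSt.subIncl 𝒳 Q)).p.obj η)) e.hom := by
  have hQg : Q (y.obj η.obj.fst) := hQ.of_iso η.obj.iso.symm η.obj.snd.property
  obtain ⟨h, hh⟩ := (hi _).1 hQg
  let e1 : Over.mk (h ≫ i) ≅ η.obj.fst := Over.isoMk (Iso.refl _) (by simp [hh])
  let e2 : ((cmp y i hi).obj ⟨η.obj.fst.left, ⟨h⟩⟩).obj.snd ≅ η.obj.snd :=
    ObjectProperty.isoMk Q (y.toFunctor.mapIso e1 ≪≫ η.obj.iso)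
  refine ⟨⟨η.obj.fst.left, ⟨h⟩⟩, ObjectProperty.isoMk _ (CategoricalPullback.mkIso e1 e2 ?_), ?_⟩
  · change y.map e1.hom ≫ η.obj.iso.hom = 𝟙 _ ≫ (y.map e1.hom ≫ η.obj.iso.hom)
    rw [Category.id_comp]
  · refine IsHomLift.of_fac _ _ _ rfl rfl ?_
    change 𝟙 η.obj.fst.left = 𝟙 _ ≫ 𝟙 η.obj.fst.left ≫ 𝟙 _
    simp

include hQ in
theorem cmp_isEquivOver [Mono i] : FibCat.IsEquivOver (cmp y i hi) :=
  Core.isEquivOver_of _ (cmp_full y i hi) (cmp_faithful y i hi) (cmp_ess hQ y i hi)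

theorem spMapOfOver_cmp :
    AlgSt.spMapOfOver (BasedFunctor.comp (cmp y i hi) (FibCat.fpFst y (AlgSt.subIncl 𝒳 Q))) = (AlgSp.yon S).map i := by
  apply ObjectProperty.hom_ext
  ext T x
  apply ULift.ext
  exact Category.id_comp (x.down ≫ i)

end Mk

theorem repByAlgSpWith_of_isLocus (P : MorphismProperty Scheme.{u}) [P.IsStableUnderBaseChange]
    (hP : P ≤ MorphismProperty.monomorphisms Scheme.{u})
    (hQ : ObjectProperty.IsClosedUnderIsomorphisms Q)
    (H : ∀ (U : Over S) (y : FibCat.overCat U ⥤ᵇ 𝒳), ∃ (Z : Over S) (i : Z ⟶ U), P i.left ∧ IsLocus Q y i) :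
    AlgSt.RepByAlgSpWith (AlgSp.RepWith P) (AlgSt.subIncl 𝒳 Q) := by
  intro U y
  obtain ⟨Z, i, hiP, hi⟩ := H U y
  have : Mono i.left := hP _ hiP
  have : Mono i := Over.mono_of_mono_left i
  refine ⟨(AlgSp.ofScheme S).obj Z, cmp y i hi, cmp_isEquivOver hQ y i hi, ?_⟩
  rw [show AlgSt.spMapOfOver (BasedFunctor.comp (cmp y i hi) (FibCat.fpFst y (AlgSt.subIncl 𝒳 Q))) =
    (AlgSp.yon S).map i from spMapOfOver_cmp y i hi]
  exact (AlgSp.repWith_yon_map_iff P i).2 hiP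

/-- sections of `spMapOfOver Φ` and the object `Φ ξ`. -/
theorem obj_hom_eq {F : AlgSp.Sp S} {U : Over S} (Φ : AlgSt.ofSp F ⥤ᵇ FibCat.overCat U) (ξ : (AlgSt.ofSp F).obj) :
    (Φ.obj ξ).hom = eqToHom (Φ.w_obj ξ) ≫ ((AlgSt.spMapOfOver Φ).hom.app (op ξ.base) ξ.sec).down := by
  change (Φ.obj ξ).hom = eqToHom (Φ.w_obj ξ) ≫ AlgSt.secHom Φ ξ
  rw [AlgSt.secHom, eqToHom_trans_assoc, eqToHom_refl, Category.id_comp]

/-- The converse: the data of a representing space give the locus. -/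
theorem exists_isLocus_of_repByAlgSpWith (P : MorphismProperty Scheme.{u})
    (hQ : ObjectProperty.IsClosedUnderIsomorphisms Q)
    (H : AlgSt.RepByAlgSpWith (AlgSp.RepWith P) (AlgSt.subIncl 𝒳 Q))
    (U : Over S) (y : FibCat.overCat U ⥤ᵇ 𝒳) : ∃ (Z : Over S) (i : Z ⟶ U), P i.left ∧ IsLocus Q y i := by
  obtain ⟨F, e, he, hrep, hP⟩ := H U y
  obtain ⟨Z, i, fst, sq⟩ := hrep (𝟙 ((AlgSp.yon S).obj U))
  have hPi : P i.left := hP _ _ _ sq
  -- `fst : h_Z ⟶ F` is an isomorphism over `h_U`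
  have hfst : IsIso fst := by
    have := sq.flip
    exact (MorphismProperty.isomorphisms _).of_isPullback sq.flip (inferInstanceAs (IsIso (𝟙 _)))
  have hw : ∀ (T : Over S) (k : T ⟶ Z), ((AlgSt.spMapOfOver (BasedFunctor.comp e (FibCat.fpFst y (AlgSt.subIncl 𝒳 Q)))).hom.app
      (op T) (fst.hom.app (op T) ⟨k⟩)).down = k ≫ i := by
    intro T k
    have h1 := sq.w
    rw [Category.comp_id] at h1
    have h2 := congrArg (fun (m : (AlgSp.yon S).obj Z ⟶ (AlgSp.yon S).obj U) => (m.hom.app (op T) ⟨k⟩).down) h1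
    exact h2
  refine ⟨Z, i, hPi, fun g => ⟨fun hg => ?_, ?_⟩⟩
  · -- an object of the fibre product over `g`
    let η : (FibCat.fp y (AlgSt.subIncl 𝒳 Q)).obj :=
      ⟨{ fst := g, snd := ⟨y.obj g, hg⟩, iso := Iso.refl _ }, IsHomLift.id (y.w_obj g)⟩
    obtain ⟨ξ, ε, hε⟩ := Core.IsEquivOver.exists_iso he η
    let Φ := BasedFunctor.comp e (FibCat.fpFst y (AlgSt.subIncl 𝒳 Q))
    let m : g ⟶ Φ.obj ξ := ε.inv.hom.fst
    have hm : m.left ≫ (Φ.obj ξ).hom = g.hom := Over.w m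
    let k : ξ.base ⟶ Z := ((inv fst).hom.app (op ξ.base) ξ.sec).down
    have hk : fst.hom.app (op ξ.base) ⟨k⟩ = ξ.sec := by
      have : (inv fst ≫ fst).hom.app (op ξ.base) ξ.sec = ξ.sec := by
        rw [IsIso.inv_hom_id]; rfl
      exact this
    have hk2 : (Φ.obj ξ).hom = eqToHom (Φ.w_obj ξ) ≫ k ≫ i := by
      rw [obj_hom_eq Φ ξ, ← hk, hw]
    refine ⟨m.left ≫ eqToHom (Φ.w_obj ξ) ≫ k, ?_⟩
    rw [← hm, hk2, Category.assoc, Category.assoc]
  · rintro ⟨h, hh⟩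
    let Φ := BasedFunctor.comp e (FibCat.fpFst y (AlgSt.subIncl 𝒳 Q))
    let ξ : (AlgSt.ofSp F.obj).obj := ⟨g.left, fst.hom.app (op g.left) ⟨h⟩⟩
    have hξ : (Φ.obj ξ).hom = eqToHom (Φ.w_obj ξ) ≫ g.hom := by
      rw [obj_hom_eq Φ ξ, ← hh]
      exact congrArg (fun t => eqToHom (Φ.w_obj ξ) ≫ t) (hw g.left h)
    let e1 : Φ.obj ξ ≅ g := Over.isoMk (eqToIso (Φ.w_obj ξ)) (by rw [hξ]; rfl)
    have h1 : Q (y.obj (Φ.obj ξ)) := hQ.of_iso (e.obj ξ).obj.iso.symm (e.obj ξ).obj.snd.property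
    exact hQ.of_iso (y.toFunctor.mapIso e1) h1

theorem repByAlgSpWith_subIncl_iff (P : MorphismProperty Scheme.{u}) [P.IsStableUnderBaseChange]
    (hP : P ≤ MorphismProperty.monomorphisms Scheme.{u})
    (hQ : ObjectProperty.IsClosedUnderIsomorphisms Q) :
    AlgSt.RepByAlgSpWith (AlgSp.RepWith P) (AlgSt.subIncl 𝒳 Q) ↔
      ∀ (U : Over S) (y : FibCat.overCat U ⥤ᵇ 𝒳), ∃ (Z : Over S) (i : Z ⟶ U), P i.left ∧ IsLocus Q y i :=
  ⟨fun H U y => exists_isLocus_of_repByAlgSpWith P hQ H U y, repByAlgSpWith_of_isLocus P hP hQ⟩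

end K737.SubRep
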