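import Groth.Prelude.Def_AlgSt4
import Groth.Agent.AlgSt.K737.SubRep
import Mathlib.AlgebraicGeometry.Morphisms.FlatMono
import Mathlib.AlgebraicGeometry.PullbackCarrier

/-!
# K737.Pts: substacks and points

For a predicate `Q` with loci (`K737.SubRep.IsLocus`) given by monomorphisms: closure of `Q` under pullback,
invariance on field-valued points, the range of `|subIncl|` and its preimage under an arbitrary chart.
-/

set_option backward.isDefEq.respectTransparency false
set_option backward.isDefEq.respectTransparency.types false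

universe w v u

open CategoryTheory CategoryTheory.Limits AlgebraicGeometry Opposite

namespace K737.Pts

open K737.SubRep

/-- A monomorphism onto the spectrum of a field with nonempty source has a section (it is an isomorphism). -/
theorem exists_section_of_mono {K : Type u} [Field K] {Z : Scheme.{u}} (i : Z ⟶ Spec (CommRingCat.of K)) [Mono i] (z : Z) :
    ∃ s : Spec (CommRingCat.of K) ⟶ Z, s ≫ i = 𝟙 _ := by
  let q : Spec (Z.residueField z) ⟶ Spec (CommRingCat.of K) := Z.fromSpecResidueField z ≫ i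
  have : Mono q := mono_comp _ _
  have : Flat q := by
    obtain ⟨φ, hφ⟩ := Spec.map_surjective q
    rw [← hφ, Flat.SpecMap_iff]
    algebraize [φ.hom]
    letI : Field ((CommRingCat.of K : CommRingCat) : Type u) := inferInstanceAs (Field K)
    have : Module.Free (CommRingCat.of K) (Z.residueField z) := Module.Free.of_divisionRing _ _
    exact Module.Flat.of_free
  have : Surjective q :=
    ⟨fun x => ⟨IsLocalRing.closedPoint (Z.residueField z), Subsingleton.elim (α := PrimeSpectrum K) _ _⟩⟩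
  have := Flat.isIso_of_surjective_of_mono q
  exact ⟨inv q ≫ Z.fromSpecResidueField z, by rw [Category.assoc]; exact IsIso.inv_hom_id q⟩

variable {S : Scheme.{u}} {𝒳 : BasedCategory.{v, w} (Over S)} {Q : 𝒳.obj → Prop}

/-- `Q` has loci with property `P` in every family. -/
def HasLoci (P : MorphismProperty Scheme.{u}) (Q : 𝒳.obj → Prop) : Prop :=
  ∀ (U : Over S) (y : FibCat.overCat U ⥤ᵇ 𝒳), ∃ (Z : Over S) (i : Z ⟶ U), P i.left ∧ IsLocus Q y i

theorem HasLoci.mono {P P' : MorphismProperty Scheme.{u}} (h : P ≤ P') (H : HasLoci P Q) : HasLoci P' Q :=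
  fun U y => by
    obtain ⟨Z, i, hi, hl⟩ := H U y
    exact ⟨Z, i, h _ hi, hl⟩

theorem hasLoci_iff (P : MorphismProperty Scheme.{u}) [P.IsStableUnderBaseChange]
    (hP : P ≤ MorphismProperty.monomorphisms Scheme.{u})
    (hQ : ObjectProperty.IsClosedUnderIsomorphisms Q) :
    AlgSt.RepByAlgSpWith (AlgSp.RepWith P) (AlgSt.subIncl 𝒳 Q) ↔ HasLoci P Q :=
  repByAlgSpWith_subIncl_iff P hP hQ

/-- predicates with loci are stable under pullback. -/
theorem HasLoci.of_hom {P : MorphismProperty Scheme.{u}} (h𝒳 : FibCat.IsFibGrpd 𝒳.p)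
    (hQ : ObjectProperty.IsClosedUnderIsomorphisms Q) (H : HasLoci P Q) {x z : 𝒳.obj} (φ : z ⟶ x) (hx : Q x) :
    Q z := by
  obtain ⟨y, e, he⟩ := Core.exists_yo h𝒳 x rfl
  obtain ⟨Z, i, -, hl⟩ := H _ y
  have h1 : Q (y.obj (Over.mk (𝟙 _))) := hQ.of_iso e.symm hx
  obtain ⟨k, hk⟩ := (hl _).1 h1
  obtain ⟨f, -, e', -, -⟩ := Core.exists_iso_obj' h𝒳 y (Over.mk (𝟙 _)) (φ ≫ e.inv)
  refine hQ.of_iso e' ((hl _).2 ⟨f ≫ k, ?_⟩)
  rw [Category.assoc, hk]
  rfl

/-- The full subcategory of a pullback-stable predicate is fibred in groupoids. -/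
theorem isFibGrpd_fullSub (h𝒳 : FibCat.IsFibGrpd 𝒳.p) (H : ∀ ⦃x z : 𝒳.obj⦄, (z ⟶ x) → Q x → Q z) :
    FibCat.IsFibGrpd (AlgSt.fullSub 𝒳 Q).p where
  exists_lift {x} V f := by
    obtain ⟨y, φ, hφ⟩ := h𝒳.exists_lift f
    refine ⟨⟨y, H φ x.property⟩, ObjectProperty.homMk φ, ?_⟩
    exact (BasedFunctor.isHomLift_iff (AlgSt.subIncl 𝒳 Q) f
      (ObjectProperty.homMk φ : (⟨y, H φ x.property⟩ : (AlgSt.fullSub 𝒳 Q).obj) ⟶ x)).1 hφ
  isStronglyCartesian {y x} φ :=
    { toIsHomLift := IsHomLift.map _ _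
      universal_property' := fun {a'} g φ' hφ' => by
        have := h𝒳.isStronglyCartesian φ.hom
        have hl : 𝒳.p.IsHomLift (g ≫ 𝒳.p.map φ.hom) φ'.hom :=
          (BasedFunctor.isHomLift_iff (AlgSt.subIncl 𝒳 Q) (g ≫ 𝒳.p.map φ.hom) φ').2 hφ'
        obtain ⟨χ, ⟨hχ, hχ'⟩, huniq⟩ :=
          this.universal_property' (a' := a'.obj) g φ'.hom
        refine ⟨ObjectProperty.homMk χ, ⟨?_, ?_⟩, ?_⟩
        · exact (BasedFunctor.isHomLift_iff (AlgSt.subIncl 𝒳 Q) g (ObjectProperty.homMk χ : a' ⟶ y)).1 hχ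
        · exact ObjectProperty.hom_ext _ hχ'
        · rintro ψ ⟨hψ, hψ'⟩
          apply ObjectProperty.hom_ext
          exact huniq ψ.hom ⟨(BasedFunctor.isHomLift_iff (AlgSt.subIncl 𝒳 Q) g ψ).2 hψ,
            congrArg (fun t => t.hom) hψ'⟩ }

/-- predicates with loci given by monomorphisms descend along maps of field-valued points. -/
theorem HasLoci.of_fpt {P : MorphismProperty Scheme.{u}} (hP : P ≤ MorphismProperty.monomorphisms Scheme.{u})
    (h𝒳 : FibCat.IsFibGrpd 𝒳.p) (hQ : ObjectProperty.IsClosedUnderIsomorphisms Q) (H : HasLoci P Q)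
    {r p : AlgSt.FPt 𝒳} (φ : r.obj ⟶ p.obj) (hr : Q r.obj) : Q p.obj := by
  obtain ⟨y, e, he⟩ := Core.exists_yo h𝒳 p.obj p.lies
  obtain ⟨Z, i, hi, hl⟩ := H _ y
  obtain ⟨f, -, e', -, -⟩ := Core.exists_iso_obj' h𝒳 y (Over.mk (𝟙 _)) (φ ≫ e.inv)
  obtain ⟨k, hk⟩ := (hl _).1 (hQ.of_iso e'.symm hr)
  have hmono : Mono i.left := hP _ hi
  let k' : Over.mk r.str ⟶ Z := eqToHom r.lies.symm ≫ k
  obtain ⟨s, hs⟩ := exists_section_of_mono i.left (k'.left (IsLocalRing.closedPoint r.K))
  refine hQ.of_iso e ((hl _).2 ⟨Over.homMk s ?_, ?_⟩)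
  · change s ≫ Z.hom = p.str
    rw [← Over.w i, ← Category.assoc, hs, Category.id_comp]
    rfl
  · apply Over.OverMorphism.ext
    exact hs

/-- membership of a point in the substack. -/
theorem HasLoci.mk_mem_range_iff {P : MorphismProperty Scheme.{u}} (hP : P ≤ MorphismProperty.monomorphisms Scheme.{u})
    (h𝒳 : FibCat.IsFibGrpd 𝒳.p) (hQ : ObjectProperty.IsClosedUnderIsomorphisms Q) (H : HasLoci P Q)
    (p : AlgSt.FPt 𝒳) :
    AlgSt.Points.mk p ∈ Set.range (AlgSt.Points.map (AlgSt.subIncl 𝒳 Q)) ↔ Q p.obj := by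
  let φ : AlgSt.Points 𝒳 → Prop := Quot.lift (fun p : AlgSt.FPt 𝒳 => Q p.obj) (by
    rintro p q ⟨r, a, b, -⟩
    refine propext ⟨fun h => ?_, fun h => ?_⟩
    · exact H.of_fpt hP h𝒳 hQ b (H.of_hom h𝒳 hQ a h)
    · exact H.of_fpt hP h𝒳 hQ a (H.of_hom h𝒳 hQ b h))
  constructor
  · rintro ⟨t, ht⟩
    obtain ⟨q, rfl⟩ := AlgSt.Points.mk_surjective t
    have : φ (AlgSt.Points.mk p) := by
      rw [← ht]
      exact q.obj.property
    exact this
  · intro hp
    exact ⟨AlgSt.Points.mk ⟨p.K, p.str, ⟨p.obj, hp⟩, p.lies⟩, rfl⟩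

/-- the preimage of the substack under an arbitrary chart. -/
theorem HasLoci.ofChart_mem_range_iff {P : MorphismProperty Scheme.{u}} (hP : P ≤ MorphismProperty.monomorphisms Scheme.{u})
    (h𝒳 : FibCat.IsFibGrpd 𝒳.p) (hQ : ObjectProperty.IsClosedUnderIsomorphisms Q) (H : HasLoci P Q)
    {U Z : Over S} (y : FibCat.overCat U ⥤ᵇ 𝒳) (i : Z ⟶ U) (hi : P i.left) (hl : IsLocus Q y i) (t : ↥U.left) :
    AlgSt.Points.ofChart y t ∈ Set.range (AlgSt.Points.map (AlgSt.subIncl 𝒳 Q)) ↔ t ∈ Set.range i.left := by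
  rw [AlgSt.Points.ofChart, H.mk_mem_range_iff hP h𝒳 hQ]
  change Q (y.obj _) ↔ _
  rw [hl]
  have hmono : Mono i.left := hP _ hi
  constructor
  · rintro ⟨h, hh⟩
    refine ⟨h.left (IsLocalRing.closedPoint (U.left.residueField t)), ?_⟩
    have e : h.left ≫ i.left = U.left.fromSpecResidueField t := congrArg (fun m => Over.Hom.left m) hh
    rw [← Scheme.Hom.comp_apply, e]
    exact Scheme.fromSpecResidueField_apply _ _
  · rintro ⟨z, hz⟩
    obtain ⟨c, -, -⟩ := Scheme.Pullback.exists_preimage_pullback (f := i.left) (g := U.left.fromSpecResidueField t)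
      z (IsLocalRing.closedPoint (U.left.residueField t)) (by
        rw [hz]; exact (Scheme.fromSpecResidueField_apply _ _).symm)
    obtain ⟨s, hs⟩ := exists_section_of_mono (K := U.left.residueField t) (pullback.snd i.left (U.left.fromSpecResidueField t)) c
    have e : (s ≫ pullback.fst i.left (U.left.fromSpecResidueField t)) ≫ i.left = U.left.fromSpecResidueField t := by
      rw [Category.assoc, pullback.condition, ← Category.assoc, hs]
      exact Category.id_comp _
    refine ⟨Over.homMk (s ≫ pullback.fst i.left (U.left.fromSpecResidueField t)) ?_, ?_⟩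
    · change _ = U.left.fromSpecResidueField t ≫ U.hom
      rw [← Over.w i, ← Category.assoc, e]
    · apply Over.OverMorphism.ext
      exact e

end K737.Pts
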