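import Groth.Agent.StMod.K908.Aff
import Groth.Agent.AlgSt.K737.Core
import Groth.Agent.AlgSt.K743.DiagQA
import Groth.Agent.AlgSt.K741.FlatDesc
import Groth.Agent.AlgSt.K735.EtQuot

/-!
# Products in the total category of a stack with affine diagonal

Let `𝒳` be fibred in groupoids over `(Sch/S)` with diagonal representable and affine, `ζ = v(𝟙)` the object
of a functor `v : (Sch/V) ⟶ 𝒳` with `V` affine, `ξ` an object over an affine scheme `L`.  Then the product
of `ζ` and `ξ` exists in the total category, lies over an affine scheme `P`, and `P ⟶ L` is smooth and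
surjective if `v` is.
-/

set_option autoImplicit false
set_option linter.unusedVariables false
set_option linter.style.haveILetI false
set_option backward.isDefEq.respectTransparency false
set_option backward.isDefEq.respectTransparency.types false
set_option linter.dupNamespace false
set_option linter.unusedSectionVars false

universe v' w' v w u

open CategoryTheory CategoryTheory.Limits AlgebraicGeometry Opposite TopologicalSpace StMod
open K734.Fib K908.Aff

namespace K737.Span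

variable {S : Scheme.{u}} {𝒳 : BasedCategory.{v, w} (Over S)} {𝒴 : BasedCategory.{v', w'} (Over S)}

/-- A representable affine functor has universal arrows; the base arrow inherits the properties. -/
theorem exists_isTerm (h𝒳 : FibCat.IsFibGrpd 𝒳.p) (p : 𝒴 ⥤ᵇ 𝒳)
    (hp : AlgSt.RepByAlgSpWith AlgSp.IsAffineMor p) {ξ : 𝒳.obj} (hξ : IsAffine (sch 𝒳 ξ)) :
    ∃ (w : 𝒴.obj) (α : p.obj w ⟶ ξ), IsAffine (sch 𝒴 w) ∧ IsTerm p α ∧
      (AlgSt.RepByAlgSpWith (AlgSp.LocP @Smooth) p → Smooth (𝒳.p.map α).left) ∧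
      (AlgSt.RepByAlgSpWith AlgSp.IsSurjectiveMor p → Surjective (𝒳.p.map α).left) := by
  obtain ⟨y, ε, hε⟩ := exists_yo h𝒳 ξ rfl
  obtain ⟨F, e, he, hP⟩ := hp (𝒳.p.obj ξ) y
  obtain ⟨W, i, fst, hpb, hW⟩ := hP (Z := 𝒳.p.obj ξ) hξ (𝟙 _)
  have : IsIso fst := hpb.isIso_fst_of_isIso
  let e' : AlgSt.ofSp ((AlgSp.yon S).obj W) ⥤ᵇ FibCat.fp y p := BasedFunctor.comp (AlgSt.ofSpMap fst) e
  have he' : FibCat.IsEquivOver e' := by
    have h1 : FibCat.IsEquivOver (AlgSt.ofSpMap fst) := (K734.Rep.isEquivOver_ofSpMap_iff fst).2 inferInstance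
    exact K735.Fib.IsEquivOver.comp h1 he
  let t : (AlgSt.ofSp ((AlgSp.yon S).obj W)).obj := ⟨W, ⟨𝟙 W⟩⟩
  have ht' : ∀ b : (AlgSt.ofSp ((AlgSp.yon S).obj W)).obj, ∃! m : b ⟶ t, True := by
    intro b
    refine ⟨⟨b.sec.down, ?_⟩, trivial, fun m _ => ?_⟩
    · apply ULift.ext
      change b.sec.down ≫ 𝟙 W = b.sec.down
      exact Category.comp_id _
    · apply Stk.EltObj.hom_ext
      have h1 := congrArg ULift.down m.map_sec
      change m.hom ≫ 𝟙 W = b.sec.down at h1
      rw [Category.comp_id] at h1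
      exact h1
  have hT : IsTerminal t := IsTerminal.ofUniqueHom (fun b => (ht' b).choose)
    (fun b m => (ht' b).choose_spec.2 m trivial)
  have hE := isEquivalence_of he'
  have hT' : IsTerminal (e'.toFunctor.obj t) := IsTerminal.isTerminalObj e'.toFunctor t hT
  have h3 : 𝒴.p.obj (e'.obj t).obj.snd = W := by
    have h1 := (FibCat.fpSnd y p).w_obj (e'.obj t)
    have h2 := e'.w_obj t
    exact h1.trans h2
  -- the base arrow
  obtain ⟨g, hg⟩ : ∃ g : W ⟶ 𝒳.p.obj ξ,
      (AlgSp.yon S).map g = AlgSt.spMapOfOver (BasedFunctor.comp e' (FibCat.fpFst y p)) :=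
    (AlgSp.yon S).map_surjective _
  have hg1 : g = AlgSt.secHom (BasedFunctor.comp e' (FibCat.fpFst y p)) t := by
    have h1 := congrArg (fun k => k.hom.app (op W) (⟨𝟙 W⟩ : ULift (W ⟶ W))) hg
    have h2 := congrArg ULift.down h1
    change 𝟙 W ≫ g = _ at h2
    rw [Category.id_comp] at h2
    exact h2
  have l1 := isHomLift_arr y ε hε (e'.obj t).obj.fst
  have hbase : 𝒳.p.map (arrX p y ε (e'.obj t)) = eqToHom ((p.w_obj _).trans h3) ≫ g := by
    unfold arrX
    rw [Functor.map_comp]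
    have hv : IsVert 𝒳 (e'.obj t).obj.iso.inv := IsVert.inv (iso_vert (e'.obj t))
    rw [hv.map_eq, IsHomLift.fac' 𝒳.p (e'.obj t).obj.fst.hom (arr y ε (e'.obj t).obj.fst), hg1, AlgSt.secHom]
    simp
    rfl
  refine ⟨(e'.obj t).obj.snd, arrX p y ε (e'.obj t), ?_, ?_, ?_, ?_⟩
  · change IsAffine (𝒴.p.obj (e'.obj t).obj.snd).left
    rw [h3]
    exact hW
  · refine isTerm_of_isTerminal h𝒳 p y ε hε _ ?_
    intro X
    exact ⟨hT'.from X, trivial, fun f _ => hT'.hom_ext _ _⟩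
  · intro hs
    have h1 : (AlgSp.LocP (S := S) @Smooth).RespectsIso := K741.locP_respectsIso _
    have h2 := (K735.Rep.RepOver.of_rep (hs (𝒳.p.obj ξ) y) e' he').2
    rw [← hg] at h2
    have h4 : Smooth g.left := K741.locP_yon_left h2
    rw [hbase, Over.comp_left]
    have : IsIso (eqToHom ((p.w_obj (e'.obj t).obj.snd).trans h3)).left :=
      inferInstanceAs (IsIso ((Over.forget S).map (eqToHom ((p.w_obj (e'.obj t).obj.snd).trans h3))))
    infer_instance
  · intro hs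
    have h1 : (AlgSp.IsSurjectiveMor (S := S)).RespectsIso :=
      MorphismProperty.RespectsIso.mk _ (fun e f hf => K741.surj_comp (K741.surj_of_isIso _) hf)
        (fun e f hf => K741.surj_comp hf (K741.surj_of_isIso _))
    have h2 := (K735.Rep.RepOver.of_rep (hs (𝒳.p.obj ξ) y) e' he').2
    rw [← hg] at h2
    have h4 : Surjective g.left := (K741.surjective_left_iff g).1 h2
    rw [hbase, Over.comp_left]
    have : IsIso (eqToHom ((p.w_obj (e'.obj t).obj.snd).trans h3)).left :=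
      inferInstanceAs (IsIso ((Over.forget S).map (eqToHom ((p.w_obj (e'.obj t).obj.snd).trans h3))))
    infer_instance

/-- `κ` and `α` exhibit `η` as the product of `ζ` and `ξ` in the total category. -/
def IsProd (𝒳 : BasedCategory.{v, w} (Over S)) {η ζ ξ : 𝒳.obj} (κ : η ⟶ ζ) (α : η ⟶ ξ) : Prop :=
  ∀ (θ : 𝒳.obj) (κ' : θ ⟶ ζ) (α' : θ ⟶ ξ), ∃! χ : θ ⟶ η, χ ≫ κ = κ' ∧ χ ≫ α = α'

/-- the canonical arrow to the value at the identity -/
abbrev one' (V : Over S) : (FibCat.overCat V).obj := Over.mk (𝟙 V)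

/-- A universal arrow for a functor from a slice is a product. -/
theorem isProd_of_isTerm (h𝒳 : FibCat.IsFibGrpd 𝒳.p) {V : Over S} (v : FibCat.overCat V ⥤ᵇ 𝒳) {ξ : 𝒳.obj}
    {w : (FibCat.overCat V).obj} {α : v.obj w ⟶ ξ} (h : IsTerm v α) :
    IsProd 𝒳 (K737.Core.toBase v w) α := by
  intro θ κ' α'
  obtain ⟨f, hf, e, he, he'⟩ := K737.Core.exists_iso_obj' h𝒳 v (one' V) κ'
  obtain ⟨χ, hχ, hu⟩ := h (Over.mk (f ≫ (one' V).hom)) (e.hom ≫ α')
  have hb : ∀ χ : (Over.mk (f ≫ (one' V).hom) : Over V) ⟶ w, v.map χ ≫ K737.Core.toBase v w =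
      v.map (Over.homMk f rfl : Over.mk (f ≫ (one' V).hom) ⟶ one' V) := by
    intro χ
    rw [K737.Core.toBase, ← v.toFunctor.map_comp]
    congr 1
    apply Over.OverMorphism.ext
    change χ.left ≫ w.hom = f
    rw [Over.w χ]
    exact Category.comp_id f
  refine ⟨e.inv ≫ v.map χ, ⟨?_, ?_⟩, ?_⟩
  · rw [Category.assoc, hb, ← he', Iso.inv_hom_id_assoc]
  · rw [Category.assoc, hχ, Iso.inv_hom_id_assoc]
  · rintro m ⟨hm1, hm2⟩
    -- `e.hom ≫ m` comes from an arrow of the slice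
    have hm3 : (e.hom ≫ m) ≫ K737.Core.toBase v w =
        v.map (Over.homMk f rfl : Over.mk (f ≫ (one' V).hom) ⟶ one' V) := by
      rw [Category.assoc, hm1, he']
    have l0 : 𝒳.p.IsHomLift w.hom (K737.Core.toBase v w) := K737.Core.toBase_isHomLift v w
    have e0 : 𝒳.p.map (K737.Core.toBase v w) = eqToHom (v.w_obj w) ≫ w.hom ≫ eqToHom (v.w_obj (one' V)).symm :=
      map_eq_base v _
    have e1 : 𝒳.p.map (v.map (Over.homMk f rfl : Over.mk (f ≫ (one' V).hom) ⟶ one' V)) =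
        eqToHom (v.w_obj _) ≫ f ≫ eqToHom (v.w_obj (one' V)).symm := map_eq_base v _
    let b : (Over.mk (f ≫ (one' V).hom) : Over V) ⟶ w := Over.homMk
      (eqToHom (v.w_obj (Over.mk (f ≫ (one' V).hom))).symm ≫ 𝒳.p.map (e.hom ≫ m) ≫ eqToHom (v.w_obj w)) (by
        have h2 := congrArg (fun k => 𝒳.p.map k) hm3
        change 𝒳.p.map ((e.hom ≫ m) ≫ _) = 𝒳.p.map _ at h2
        rw [Functor.map_comp, e0, e1] at h2
        have h3 : eqToHom (v.w_obj (Over.mk (f ≫ (one' V).hom))).symm ≫ (𝒳.p.map (e.hom ≫ m) ≫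
            eqToHom (v.w_obj w) ≫ w.hom ≫ eqToHom (v.w_obj (one' V)).symm) ≫ eqToHom (v.w_obj (one' V)) = f := by
          rw [h2]
          simp
        change (eqToHom _ ≫ 𝒳.p.map (e.hom ≫ m) ≫ eqToHom _) ≫ w.hom = f ≫ 𝟙 V
        refine Eq.trans ?_ (h3.trans (Category.comp_id f).symm)
        simp)
    have hbm : v.map b = e.hom ≫ m := by
      refine K734.Fib.fac_unique h𝒳 (K737.Core.toBase v w) ?_ ?_
      · rw [map_eq_base]
        change eqToHom _ ≫ (eqToHom _ ≫ 𝒳.p.map (e.hom ≫ m) ≫ eqToHom _) ≫ eqToHom _ = _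
        simp
      · rw [hb, hm3]
    have h5 : v.map b ≫ α = e.hom ≫ α' := by rw [hbm, Category.assoc, hm2]
    rw [← hu b h5, hbm, Iso.inv_hom_id_assoc]

section Diag

variable {𝒳 : BasedCategory.{u, w} (Over S)}

theorem prod_fst_of (P : MorphismProperty Scheme.{u}) [P.IsStableUnderBaseChange] (W V : Over S) (h : P V.hom) :
    P (prod.fst : W ⨯ V ⟶ W).left := by
  have sq : IsPullback (prod.fst : W ⨯ V ⟶ W) prod.snd (Over.mkIdTerminal.from W) (Over.mkIdTerminal.from V) :=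
    IsPullback.of_isLimit_binaryFan_of_isTerminal (limit.isLimit _) Over.mkIdTerminal
  have sq' := sq.map (Over.forget S)
  have h1 : P (Over.mkIdTerminal.from V).left := by
    have e : (Over.mkIdTerminal.from V).left = V.hom := by
      simp
    rw [e]
    exact h
  exact MorphismProperty.of_isPullback (P := P) sq'.flip h1

/-- Functors from slices over affine schemes are affine. -/
theorem isAffineMor_chart (h𝒳 : FibCat.IsFibGrpd 𝒳.p)
    (hd : AlgSt.RepByAlgSpWith AlgSp.IsAffineMor (FibCat.diag (FibCat.toSelf 𝒳))) {V : Over S}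
    (v : FibCat.overCat V ⥤ᵇ 𝒳) (hV : IsAffineHom V.hom) : AlgSt.RepByAlgSpWith AlgSp.IsAffineMor v := by
  have i1 : (AlgSp.IsAffineMor (S := S)).IsStableUnderBaseChange :=
    ⟨fun sq h => K608.Field.isAffineMor_of_isPullback sq h⟩
  have i2 : (AlgSp.IsAffineMor (S := S)).IsStableUnderComposition :=
    ⟨fun _ _ hf hg => K608.Field.isAffineMor_comp hf hg⟩
  exact K743.DiagQA.with_of_diag v h𝒳 AlgSp.IsAffineMor hd fun T =>
    K735.EtQuot.isAffineMor_yon_map _ (prod_fst_of @IsAffineHom T V hV)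

/-- **Products with the object of a chart.** -/
theorem exists_prod (h𝒳 : FibCat.IsFibGrpd 𝒳.p)
    (hd : AlgSt.RepByAlgSpWith AlgSp.IsAffineMor (FibCat.diag (FibCat.toSelf 𝒳))) {V : Over S}
    (v : FibCat.overCat V ⥤ᵇ 𝒳) (hV : IsAffineHom V.hom) {ξ : 𝒳.obj} (hξ : IsAffine (sch 𝒳 ξ)) :
    ∃ (η : 𝒳.obj) (κ : η ⟶ v.obj (one' V)) (α : η ⟶ ξ), IsProd 𝒳 κ α ∧ IsAffine (sch 𝒳 η) ∧
      (AlgSt.RepByAlgSpWith (AlgSp.LocP @Smooth) v → Smooth (𝒳.p.map α).left) ∧
      (AlgSt.RepByAlgSpWith AlgSp.IsSurjectiveMor v → Surjective (𝒳.p.map α).left) := by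
  obtain ⟨w, α, hw, hα, h1, h2⟩ := exists_isTerm h𝒳 v (isAffineMor_chart h𝒳 hd v hV) hξ
  refine ⟨v.obj w, K737.Core.toBase v w, α, isProd_of_isTerm h𝒳 v hα, ?_, h1, h2⟩
  change IsAffine (𝒳.p.obj (v.obj w)).left
  rw [v.w_obj w]
  exact hw

end Diag

end K737.Span
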