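import Groth.Agent.AlgSt.K737.SubSt
import Groth.Agent.GrpQ.K185.SubDesc
import Groth.Agent.Etcore.SmoothRed
import Groth.Agent.FlatB.GeomRed
import Groth.Agent.Ega1.ReducedSub
import Groth.Agent.AlgSt.K736.Smooth

/-!
# K737.SubDesc: substacks from invariant subschemes of an atlas

* `sat v i`: objects whose restrictions to the atlas `v` factor through `i : Z ⟶ V`;
* `Stable v i`: invariance of `i`; `isLocus_sat`;
* `hasLoci_sat`: closed loci for `sat v i` when `i` is an invariant closed immersion;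
* `stable_of_isReduced`: the reduced closed subscheme of `V` on the preimage of a set of points is invariant.
-/

set_option backward.isDefEq.respectTransparency false
set_option backward.isDefEq.respectTransparency.types false

universe w₃ v₃ w₂ v₂ w v u

open CategoryTheory CategoryTheory.Limits AlgebraicGeometry Opposite

namespace K737.SubDesc

open K737.SubRep K737.Pts K737.LocLift K737.Chart K737.Open K735.Fib K735.Fp K735.Rep K735.Top

section Sch

theorem exists_fac_of_isReduced {A R B : Scheme.{u}} (j : A ⟶ R) [IsReduced A] (k : B ⟶ R) [IsClosedImmersion k]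
    (h : Set.range j ⊆ Set.range k) : ∃ l, l ≫ k = j := by
  have : Surjective (pullback.fst j k) := ⟨fun a => by
    obtain ⟨b, hb⟩ := h ⟨a, rfl⟩
    obtain ⟨c, hc, -⟩ := Scheme.Pullback.exists_preimage_pullback a b hb.symm
    exact ⟨c, hc⟩⟩
  have := isIso_of_isClosedImmersion_of_surjective (pullback.fst j k)
  exact ⟨inv (pullback.fst j k) ≫ pullback.snd j k, by
    rw [Category.assoc, ← pullback.condition, IsIso.inv_hom_id_assoc]⟩

theorem exists_fac_of_cover {Z V T' T'' : Scheme.{u}} (i : Z ⟶ V) [Mono i] (b : T' ⟶ V) (c : T'' ⟶ T') [Flat c]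
    [Surjective c] [LocallyOfFinitePresentation c] (h : ∃ k, k ≫ i = c ≫ b) : ∃ k, k ≫ i = b := by
  obtain ⟨k, hk⟩ := h
  have := Closed.isIso_of_fac (pullback.snd i b) c (pullback.lift k c hk) (pullback.lift_snd _ _ _)
  exact ⟨inv (pullback.snd i b) ≫ pullback.fst i b, by
    rw [Category.assoc, pullback.condition, IsIso.inv_hom_id_assoc]⟩

/-- Factorisation through a monomorphism is local for the fpqc topology (sieve form). -/
theorem exists_fac_of_sieve {Z X T : Scheme.{u}} (z : Z ⟶ X) [Mono z]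
    (x : T ⟶ X) (R : Sieve T) (hR : R ∈ Scheme.fpqcTopology T)
    (h : ∀ ⦃T' : Scheme.{u}⦄ (g : T' ⟶ T), R g → ∃ v : T' ⟶ Z, v ≫ z = g ≫ x) :
    ∃ v : T ⟶ Z, v ≫ z = x := by
  have hZ : Presieve.IsSheaf Scheme.fpqcTopology (yoneda.obj Z) :=
    GrothendieckTopology.Subcanonical.isSheaf_of_isRepresentable _
  have hX : Presieve.IsSheaf Scheme.fpqcTopology (yoneda.obj X) :=
    GrothendieckTopology.Subcanonical.isSheaf_of_isRepresentable _
  choose v hv using h
  have h1 := hZ _ hR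
  let fam : Presieve.FamilyOfElements (yoneda.obj Z) R.arrows := fun T' g hg => v g hg
  have hc : fam.Compatible := by
    intro T₁ T₂ W g₁ g₂ f₁ f₂ h₁ h₂ hg
    change g₁ ≫ v f₁ h₁ = g₂ ≫ v f₂ h₂
    rw [← cancel_mono z, Category.assoc, Category.assoc, hv, hv, ← Category.assoc,
      ← Category.assoc, hg]
  obtain ⟨w, hw, -⟩ := h1 fam hc
  refine ⟨w, ?_⟩
  refine (hX _ hR).isSeparatedFor.ext fun T' g hg => ?_
  change g ≫ (w ≫ z) = g ≫ x
  rw [← hv g hg, ← Category.assoc]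
  congr 1
  exact hw g hg

variable {S : Scheme.{u}}

theorem over_fac_iff {Z V T : Over S} (i : Z ⟶ V) (b : T ⟶ V) :
    (∃ k : T ⟶ Z, k ≫ i = b) ↔ ∃ k : T.left ⟶ Z.left, k ≫ i.left = b.left := by
  constructor
  · rintro ⟨k, rfl⟩
    exact ⟨k.left, rfl⟩
  · rintro ⟨k, hk⟩
    refine ⟨Over.homMk k ?_, Over.OverMorphism.ext hk⟩
    rw [← Over.w i, ← Category.assoc, hk, Over.w]

theorem over_fac_of_cover {Z V T' T'' : Over S} (i : Z ⟶ V) [Mono i.left] (b : T' ⟶ V) (c : T'' ⟶ T') [Flat c.left]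
    [Surjective c.left] [LocallyOfFinitePresentation c.left] (h : ∃ k, k ≫ i = c ≫ b) : ∃ k, k ≫ i = b := by
  rw [over_fac_iff] at h ⊢
  exact exists_fac_of_cover i.left b.left c.left h

end Sch

variable {S : Scheme.{u}} {𝒳 : BasedCategory.{v, w} (Over S)}

/-- restriction of an isomorphism between values of two charts. -/
theorem exists_iso_restrict (h𝒳 : FibCat.IsFibGrpd 𝒳.p) {U V W T : Over S} (y : FibCat.overCat U ⥤ᵇ 𝒳)
    (v : FibCat.overCat V ⥤ᵇ 𝒳) (a : W ⟶ U) (b : W ⟶ V) (ε : y.obj (Over.mk a) ≅ v.obj (Over.mk b))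
    (hε : Vert 𝒳.p ε.hom) (m : T ⟶ W) :
    ∃ ε' : y.obj (Over.mk (m ≫ a)) ≅ v.obj (Over.mk (m ≫ b)), Vert 𝒳.p ε'.hom := by
  have l1 : 𝒳.p.IsHomLift m (y.map (Over.homMk m rfl : Over.mk (m ≫ a) ⟶ Over.mk a)) := by
    have : (FibCat.overCat U).p.IsHomLift m (Over.homMk m rfl : Over.mk (m ≫ a) ⟶ Over.mk a) :=
      IsHomLift.map (Over.forget U) (Over.homMk m rfl : Over.mk (m ≫ a) ⟶ Over.mk a)
    exact BasedFunctor.preserves_isHomLift y _ _
  have l2 : 𝒳.p.IsHomLift (𝟙 W) ε.hom := hε.isHomLift (y.w_obj (Over.mk a))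
  have l3 : 𝒳.p.IsHomLift m (y.map (Over.homMk m rfl : Over.mk (m ≫ a) ⟶ Over.mk a) ≫ ε.hom) :=
    IsHomLift.comp_lift_id_right 𝒳.p m _ ε.hom
  obtain ⟨e, he, -⟩ := @Core.exists_iso_obj _ _ 𝒳 h𝒳 _ v (Over.mk b) _ m _
    (y.map (Over.homMk m rfl : Over.mk (m ≫ a) ⟶ Over.mk a) ≫ ε.hom) l3
  refine ⟨e.symm, ?_⟩
  have : Vert 𝒳.p e.hom := vert_of_isHomLift he
  exact Vert.iso_inv this

/-- Objects all of whose restrictions to the chart `v` factor through `i`. -/
def sat {V Z : Over S} (v : FibCat.overCat V ⥤ᵇ 𝒳) (i : Z ⟶ V) (x : 𝒳.obj) : Prop :=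
  ∀ (g : Over V) (_ : v.obj g ⟶ x), ∃ h : g.left ⟶ Z, h ≫ i = g.hom

/-- invariance of a subscheme of the chart. -/
def Stable {V Z : Over S} (v : FibCat.overCat V ⥤ᵇ 𝒳) (i : Z ⟶ V) : Prop :=
  ∀ (T : Over S) (b₁ b₂ : T ⟶ V) (ε : v.obj (Over.mk b₁) ≅ v.obj (Over.mk b₂)), Vert 𝒳.p ε.hom →
    (∃ h, h ≫ i = b₁) → ∃ h, h ≫ i = b₂

theorem sat_of_hom {V Z : Over S} {v : FibCat.overCat V ⥤ᵇ 𝒳} {i : Z ⟶ V} {x z : 𝒳.obj} (φ : z ⟶ x) (h : sat v i x) :
    sat v i z := fun g m => h g (m ≫ φ)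

theorem sat_iso {V Z : Over S} (v : FibCat.overCat V ⥤ᵇ 𝒳) (i : Z ⟶ V) :
    ObjectProperty.IsClosedUnderIsomorphisms (sat v i) where
  of_iso e h := sat_of_hom e.inv h

theorem isLocus_sat (h𝒳 : FibCat.IsFibGrpd 𝒳.p) {V Z : Over S} {v : FibCat.overCat V ⥤ᵇ 𝒳} {i : Z ⟶ V}
    (hs : Stable v i) : IsLocus (sat v i) v i := by
  intro g
  constructor
  · intro h
    exact h g (𝟙 _)
  · rintro ⟨h, hh⟩ g' m
    obtain ⟨f, -, e, he, -⟩ := Core.exists_iso_obj' h𝒳 v g m
    -- `v (f ≫ g) ≅ v g'`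
    have h0 : 𝒳.p.obj (v.obj g') = g'.left := v.w_obj g'
    let c : g'.left ⟶ g.left := eqToHom h0.symm ≫ f
    let j : (Over.mk (c ≫ g.hom) : Over V) ≅ Over.mk (f ≫ g.hom) :=
      Over.isoMk (eqToIso h0.symm) (Category.assoc _ _ _).symm
    let j' : (g' : Over V) ≅ Over.mk g'.hom := Over.isoMk (Iso.refl _) (Category.id_comp _)
    refine hs g'.left (c ≫ g.hom) g'.hom (v.toFunctor.mapIso j ≪≫ e ≪≫ v.toFunctor.mapIso j') ?_ ⟨c ≫ h, ?_⟩
    · have v1 : Vert 𝒳.p (v.map j.hom) := Vert.map v (vert_of_map_eq h0.symm rfl)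
      have v2 : Vert 𝒳.p e.hom := vert_of_isHomLift he
      have v3 : Vert 𝒳.p (v.map j'.hom) := Vert.map v (vert_of_map_eq rfl rfl)
      exact Vert.comp v1 (Vert.comp v2 v3)
    · rw [Category.assoc, hh]

/-- the predicate on schemes over `U` attached to a family. -/
def fam {V Z : Over S} (v : FibCat.overCat V ⥤ᵇ 𝒳) (i : Z ⟶ V) {U : Over S} (y : FibCat.overCat U ⥤ᵇ 𝒳)
    ⦃T : Scheme.{u}⦄ (h : T ⟶ U.left) : Prop :=
  sat v i (y.obj (Over.mk (Over.homMk h rfl : Over.mk (h ≫ U.hom) ⟶ U)))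

/-- the values of `y` at morphisms with the same underlying scheme morphism. -/
theorem sat_congr {V Z : Over S} {v : FibCat.overCat V ⥤ᵇ 𝒳} {i : Z ⟶ V} {U : Over S} (y : FibCat.overCat U ⥤ᵇ 𝒳)
    (g : Over U) : sat v i (y.obj g) ↔ fam v i y g.hom.left := by
  let j : g ≅ Over.mk (Over.homMk g.hom.left rfl : Over.mk (g.hom.left ≫ U.hom) ⟶ U) :=
    Over.isoMk (Over.isoMk (Iso.refl _) ((Category.id_comp _).trans (Over.w g.hom))) (by
      apply Over.OverMorphism.ext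
      exact Category.id_comp _)
  exact ⟨sat_of_hom (y.map j.inv), sat_of_hom (y.map j.hom)⟩

theorem isFpqcLocal_fam (h𝒳 : FibCat.IsFibGrpd 𝒳.p) {V Z : Over S} (v : FibCat.overCat V ⥤ᵇ 𝒳) (i : Z ⟶ V)
    [Mono i.left] {U : Over S} (y : FibCat.overCat U ⥤ᵇ 𝒳) : K185.SubDesc.IsFpqcLocal (fam v i y) where
  comp T T' g h hh := by
    let j : (Over.mk (Over.homMk (g ≫ h) rfl : Over.mk ((g ≫ h) ≫ U.hom) ⟶ U) : Over U) ⟶
        Over.mk (Over.homMk h rfl : Over.mk (h ≫ U.hom) ⟶ U) :=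
      Over.homMk (Over.homMk g (Category.assoc _ _ _).symm) (Over.OverMorphism.ext rfl)
    exact sat_of_hom (y.map j) hh
  loc T h R hR hloc := by
    intro g m
    obtain ⟨μ, hμ, -⟩ := Core.exists_iso_obj' h𝒳 y _ m
    have h0 : 𝒳.p.obj (v.obj g) = g.left := v.w_obj g
    let c : g.left ⟶ Over.mk (h ≫ U.hom) := eqToHom h0.symm ≫ μ
    have hc : 𝒳.p.IsHomLift c m := inferInstanceAs (𝒳.p.IsHomLift (eqToHom h0.symm ≫ μ) m)
    rw [over_fac_iff]
    refine exists_fac_of_sieve i.left g.hom.left ((Sieve.generate R).pullback c.left)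
      (Scheme.fpqcTopology.pullback_stable c.left (Precoverage.generate_mem_toGrothendieck hR)) ?_
    intro T' g' hg'
    obtain ⟨T₁, k, g₁, hg₁, hk⟩ := hg'
    -- the restriction of `g` to `T'`
    let gT : Over U := Over.mk (Over.homMk h rfl : Over.mk (h ≫ U.hom) ⟶ U)
    let gT₁ : Over U := Over.mk (Over.homMk (g₁ ≫ h) rfl : Over.mk ((g₁ ≫ h) ≫ U.hom) ⟶ U)
    let j : gT₁ ⟶ gT := Over.homMk (Over.homMk g₁ (Category.assoc _ _ _).symm) (Over.OverMorphism.ext rfl)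
    let T'' : Over S := Over.mk (g' ≫ g.left.hom)
    let r : T'' ⟶ g.left := Over.homMk g' rfl
    let mr : v.obj (Over.mk (r ≫ g.hom)) ⟶ v.obj g := v.map (Over.homMk r rfl)
    have l1 : 𝒳.p.IsHomLift r mr := by
      have : (FibCat.overCat V).p.IsHomLift r (Over.homMk r rfl : Over.mk (r ≫ g.hom) ⟶ g) :=
        IsHomLift.map (Over.forget V) (Over.homMk r rfl : Over.mk (r ≫ g.hom) ⟶ g)
      exact BasedFunctor.preserves_isHomLift v _ _
    have l2 : 𝒳.p.IsHomLift j.left (y.map j) := by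
      have : (FibCat.overCat U).p.IsHomLift j.left j := IsHomLift.map (Over.forget U) j
      exact BasedFunctor.preserves_isHomLift y _ _
    have hw : k ≫ (g₁ ≫ h) ≫ U.hom = g' ≫ g.left.hom := by
      have h1 : c.left ≫ (h ≫ U.hom) = g.left.hom := Over.w c
      calc k ≫ (g₁ ≫ h) ≫ U.hom = (k ≫ g₁) ≫ h ≫ U.hom := by simp only [Category.assoc]
        _ = g' ≫ g.left.hom := by rw [hk, Category.assoc, h1]
    let kk : T'' ⟶ gT₁.left := Over.homMk k hw
    have hkk : kk ≫ j.left = r ≫ c := Over.OverMorphism.ext hk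
    have l3 : 𝒳.p.IsHomLift (r ≫ c) (mr ≫ m) := IsHomLift.comp 𝒳.p r c mr m
    have l4 : 𝒳.p.IsHomLift (kk ≫ j.left) (mr ≫ m) := by rw [hkk]; exact l3
    obtain ⟨χ, -, -⟩ := @Core.exists_fac _ _ _ _ _ h𝒳 _ _ _ _ _ _ j.left (y.map j) l2 kk (mr ≫ m) l4
    obtain ⟨q, hq⟩ := hloc g₁ hg₁ (Over.mk (r ≫ g.hom)) χ
    exact ⟨q.left, congrArg (fun t => Over.Hom.left t) hq⟩

/-- The closed loci of `sat v i` for an invariant closed immersion into an atlas. -/
theorem hasLoci_sat (h𝒳 : FibCat.IsFibGrpd 𝒳.p) {V Z : Over S} {v : FibCat.overCat V ⥤ᵇ 𝒳}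
    (hv : AlgSt.RepByAlgSpWith (AlgSp.LocP @Smooth) v) (hv' : AlgSt.RepByAlgSpWith AlgSp.IsSurjectiveMor v)
    {i : Z ⟶ V} [IsClosedImmersion i.left] (hs : Stable v i) : HasLoci @IsClosedImmersion (sat v i) := by
  intro U y
  obtain ⟨W, a, b, ha, ha', ε, hε⟩ := LocLift.exists_lift y v hv hv'
  have : Smooth a.left := ha
  have hcov : Presieve.ofArrows (fun _ : PUnit.{u + 1} => W.left) (fun _ => a.left) ∈ Scheme.fpqcPrecoverage U.left := by
    apply Scheme.fppfPrecoverage_le_fpqcPrecoverage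
    refine (Scheme.ofArrows_mem_precoverage_iff (@Flat ⊓ @LocallyOfFinitePresentation)).2
      ⟨fun x => ?_, fun _ => ⟨inferInstanceAs (Flat a.left), inferInstanceAs (LocallyOfFinitePresentation a.left)⟩⟩
    obtain ⟨t, ht⟩ := a.left.surjective x
    exact ⟨⟨⟩, t, ht⟩
  obtain ⟨Z', z, hz, hloc⟩ := K185.SubDesc.exists_closed (isFpqcLocal_fam h𝒳 v i y) _ hcov
    (fun _ => ⟨pullback b.left i.left, pullback.fst b.left i.left, inferInstance, fun T x => by
      let x' : Over.mk (x ≫ W.hom) ⟶ W := Over.homMk x rfl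
      have h1 : fam v i y (x ≫ a.left) ↔ sat v i (y.obj (Over.mk (x' ≫ a))) := (sat_congr y (Over.mk (x' ≫ a))).symm
      obtain ⟨ε', -⟩ := exists_iso_restrict h𝒳 y v a b ε hε x'
      have h2 : sat v i (y.obj (Over.mk (x' ≫ a))) ↔ sat v i (v.obj (Over.mk (x' ≫ b))) :=
        ⟨sat_of_hom ε'.inv, sat_of_hom ε'.hom⟩
      rw [h1, h2, isLocus_sat h𝒳 hs, over_fac_iff]
      constructor
      · rintro ⟨k, hk⟩
        exact ⟨pullback.lift x k hk.symm, pullback.lift_fst _ _ _⟩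
      · rintro ⟨k, rfl⟩
        refine ⟨k ≫ pullback.snd b.left i.left, ?_⟩
        exact (Category.assoc _ _ _).trans ((congrArg (k ≫ ·) pullback.condition.symm).trans
          (Category.assoc _ _ _).symm)⟩)
  refine ⟨Over.mk (z ≫ U.hom), Over.homMk z rfl, hz, fun g => ?_⟩
  rw [sat_congr, over_fac_iff]
  exact hloc g.hom.left

/-- The reduced closed subscheme of the atlas on the preimage of a set of points is invariant. -/
theorem stable_of_isReduced (h𝒳 : FibCat.IsFibGrpd 𝒳.p) {V Z : Over S} {v : FibCat.overCat V ⥤ᵇ 𝒳}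
    (hv : AlgSt.RepByAlgSpWith (AlgSp.LocP @Smooth) v) {i : Z ⟶ V} [IsClosedImmersion i.left] [IsReduced Z.left]
    {T : Set (AlgSt.Points 𝒳)} (hT : Set.range i.left = AlgSt.Points.ofChart v ⁻¹' T) : Stable v i := by
  intro T' b₁ b₂ ε hε hb₁
  have hR : (AlgSp.LocP (S := S) @Smooth).RespectsIso := locP_respectsIso _
  obtain ⟨F, e, he, hq1⟩ := hv V v
  have hq2 : AlgSp.LocP @Smooth (q2 v v e) :=
    (RepOver.of_rep (hv V v) (BasedFunctor.comp e (fpSwap v v)) (K735.Fib.IsEquivOver.comp he (isEquivOver_fpSwap v v))).2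
  obtain ⟨s, hs1, hs2⟩ := exists_section_of_iso v v e he b₁ b₂ ε hε
  -- etale chart
  obtain ⟨R, p, σ, hp, hp', hσ, hσs⟩ := exists_chart F.property (q1 v v e) hq1
  obtain ⟨τ, hτ⟩ := (AlgSp.yon S).map_surjective (p ≫ q2 v v e)
  have hτs : Smooth τ.left := hq2 p (𝟙 _) τ hp (AlgSp.repWith_id _ V) (by rw [hτ, Category.comp_id])
  have hσs' : Smooth σ.left := hσs
  -- the two maps from the chart have isomorphic values
  have hex := exists_iso_of_section v v e (T := R) (p.hom.app (op R) ⟨𝟙 R⟩)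
  have e1 : ((q1 v v e).hom.app (op R) (p.hom.app (op R) ⟨𝟙 R⟩)).down = σ := by
    have := congrArg (fun (m : (AlgSp.yon S).obj R ⟶ (AlgSp.yon S).obj V) => (m.hom.app (op R) ⟨𝟙 R⟩).down) hσ
    exact this.trans (Category.id_comp σ)
  have e2 : ((q2 v v e).hom.app (op R) (p.hom.app (op R) ⟨𝟙 R⟩)).down = τ := by
    have := congrArg (fun (m : (AlgSp.yon S).obj R ⟶ (AlgSp.yon S).obj V) => (m.hom.app (op R) ⟨𝟙 R⟩).down) hτ.symm
    exact this.trans (Category.id_comp τ)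
  rw [e1, e2] at hex
  obtain ⟨ε₀, hε₀⟩ := hex
  have hpts : ∀ t, AlgSt.Points.ofChart v (σ.left t) = AlgSt.Points.ofChart v (τ.left t) :=
    fun t => ofChart_eq_of_iso h𝒳 v v σ τ ε₀ hε₀ t
  -- pull back the chart along the section
  obtain ⟨T'', c, ρ', sq⟩ := hp.1 (K594.Elem.secEquiv.symm s)
  have hc1 : Etale c.left := hp.2 _ _ _ sq
  have hc2 : Surjective c.left := hp'.2 _ _ _ sq
  obtain ⟨ρ, rfl⟩ := (AlgSp.yon S).map_surjective ρ'
  have hsec : (K594.Elem.secEquiv.symm s).hom.app (op T') ⟨𝟙 T'⟩ = s :=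
    K594.Elem.secEquiv.apply_symm_apply s
  have key : ∀ {q : F.obj ⟶ (AlgSp.yon S).obj V} {σ : R ⟶ V} {b : T' ⟶ V}, (AlgSp.yon S).map σ = p ≫ q →
      (q.hom.app (op T') s).down = b → ρ ≫ σ = c ≫ b := by
    intro q σ b hσ hb
    have h1 : (AlgSp.yon S).map (ρ ≫ σ) = (AlgSp.yon S).map c ≫ (K594.Elem.secEquiv.symm s ≫ q) := by
      rw [Functor.map_comp, hσ, ← Category.assoc, sq.w, Category.assoc]
    have h2 : K594.Elem.secEquiv.symm s ≫ q = (AlgSp.yon S).map b := by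
      apply K594.Elem.secEquiv.injective
      apply ULift.ext
      have h3 : ((K594.Elem.secEquiv.symm s ≫ q).hom.app (op T') ⟨𝟙 T'⟩).down = b := by
        refine Eq.trans ?_ hb
        exact congrArg (fun t => (q.hom.app (op T') t).down) hsec
      exact h3.trans (Category.id_comp b).symm
    rw [h2, ← Functor.map_comp] at h1
    exact (AlgSp.yon S).map_injective h1
  have k1 : ρ ≫ σ = c ≫ b₁ := key hσ.symm hs1
  have k2 : ρ ≫ τ = c ≫ b₂ := key hτ hs2
  -- the closed subscheme `σ⁻¹ Z`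
  obtain ⟨h, hh⟩ := hb₁
  have hred : IsReduced (pullback σ.left i.left) :=
    Groth.Agent.Etcore.SmoothRed.isReduced_of_smooth (pullback.snd σ.left i.left)
  obtain ⟨l, hl⟩ := exists_fac_of_isReduced (pullback.fst σ.left i.left ≫ τ.left) i.left (by
    rintro _ ⟨z, rfl⟩
    rw [hT, Set.mem_preimage, Scheme.Hom.comp_apply, ← hpts, ← Set.mem_preimage, ← hT,
      ← Scheme.Hom.comp_apply, pullback.condition, Scheme.Hom.comp_apply]
    exact ⟨_, rfl⟩)
  have hmono : Mono i.left := inferInstance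
  refine over_fac_of_cover i b₂ c ?_
  rw [over_fac_iff]
  have k1' : ρ.left ≫ σ.left = (c.left ≫ h.left) ≫ i.left := by
    have e1 : ρ ≫ σ = c ≫ (h ≫ i) := by rw [k1, hh]
    have e2 := congrArg CommaMorphism.left e1
    simpa only [Over.comp_left, Category.assoc] using e2
  refine ⟨pullback.lift ρ.left (c.left ≫ h.left) k1' ≫ l, ?_⟩
  rw [Category.assoc, hl, pullback.lift_fst_assoc, ← Over.comp_left, k2]

theorem smLoc_isReduced : K736.Smooth.SmLoc (fun X : Scheme.{u} => IsReduced X) := by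
  intro U R hR
  constructor
  · intro hU V g hg
    have : Smooth g := hR.2 hg
    exact Groth.Agent.Etcore.SmoothRed.isReduced_of_smooth g
  · intro h
    refine Groth.Agent.FlatB.GeomRed.isReduced_of_flat_cover fun x => ?_
    obtain ⟨V, g, hg, z, hz⟩ := (Presieve.mem_comap_jointlySurjectivePrecoverage_iff Scheme.forget).1 hR.1 x
    have : Smooth g := hR.2 hg
    exact ⟨V, g, z, hz, inferInstance, h g hg⟩

/-- Reduced closed substacks on closed subsets. -/
theorem exists_reduced_closed {𝒳 : AlgSt.Cat S} (h𝒳 : AlgSt.IsAlgStack Scheme.fppfPrecoverage 𝒳)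
    (T : Set (AlgSt.Points 𝒳)) (hT : IsClosed T) :
    ∃ Q : 𝒳.obj → Prop, AlgSt.IsClosedSubstack 𝒳 Q Scheme.fppfPrecoverage ∧
      Set.range (AlgSt.Points.map (AlgSt.subIncl 𝒳 Q)) = T ∧
      AlgSt.SmoothLocally (fun X => IsReduced X) (AlgSt.fullSub 𝒳 Q) := by
  have hG := h𝒳.isStack.1
  obtain ⟨V, v, hv, hv'⟩ := h𝒳.atlas
  let C : TopologicalSpace.Closeds V.left := ⟨AlgSt.Points.ofChart v ⁻¹' T, hT.preimage (continuous_ofChart hG h𝒳.atlas v)⟩
  let I := Scheme.IdealSheafData.vanishingIdeal C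
  let Z : Over S := Over.mk (I.subschemeι ≫ V.hom)
  let i : Z ⟶ V := Over.homMk I.subschemeι rfl
  have hi : IsClosedImmersion i.left := inferInstanceAs (IsClosedImmersion I.subschemeι)
  have hr : IsReduced Z.left := Groth.Agent.Ega1.ReducedSub.isReduced_subscheme_vanishingIdeal C
  have hrange : Set.range i.left = AlgSt.Points.ofChart v ⁻¹' T := by
    change Set.range I.subschemeι = _
    rw [Scheme.IdealSheafData.range_subschemeι]
    simp [I, C]
  have hs : Stable v i := stable_of_isReduced hG hv hrange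
  have H := hasLoci_sat hG hv hv' hs
  have hl := isLocus_sat hG hs
  have hcl := (SubSt.isClosedSubstack_iff h𝒳 (sat v i)).2 ⟨sat_iso v i, H⟩
  refine ⟨sat v i, hcl, ?_, ?_⟩
  · ext x
    obtain ⟨t, rfl⟩ := ofChart_surjective hG v hv hv' x
    rw [H.ofChart_mem_range_iff closedImm_le_mono hG (sat_iso v i) v i hi hl t, hrange]
    rfl
  · have hx' : ∀ a, sat v i ((BasedFunctor.comp (AlgSt.overMap i) v).obj a) := fun a => (hl _).2 ⟨a.hom, rfl⟩
    have c1 := SubSt.repByAlgSpWith_locus closedImm_le_mono hG (sat_iso v i) H v i hi hl hx' _ hv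
    have c2 := SubSt.repByAlgSpWith_locus closedImm_le_mono hG (sat_iso v i) H v i hi hl hx' _ hv'
    exact K736.Smooth.smoothLocally_of_chart hcl.2.1.isStack.1 smLoc_isReduced
      (BasedFunctor.comp (AlgSt.toOverCat Z) (Image.lift (BasedFunctor.comp (AlgSt.overMap i) v) hx'))
      (repByAlgSpWith_of_sq _ _ _ (AlgSt.toOverCat Z)
        (BasedFunctor.id _) (isEquivOver_toOverCat Z) isEquivOver_id (Iso.refl _) c1)
      (repByAlgSpWith_of_sq _ _ _ (AlgSt.toOverCat Z)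
        (BasedFunctor.id _) (isEquivOver_toOverCat Z) isEquivOver_id (Iso.refl _) c2) hr

end K737.SubDesc
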