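import Groth.Agent.AlgSt.K737.TermRep
import Groth.Agent.AlgSt.K737.ImmFlat
import Groth.Agent.AlgSt.K741.Conv
import Groth.Agent.ResProp.K741.AffDiag
import Groth.Agent.S12842
import Groth.Agent.S12760
import Groth.Agent.AlgSt.K744.AlgOver

/-!
# A functor of stacks with a universal arrow to an affine smooth chart is representable and affine
-/

set_option autoImplicit false
set_option linter.unusedVariables false
set_option linter.style.haveILetI false
set_option backward.isDefEq.respectTransparency false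
set_option backward.isDefEq.respectTransparency.types false
set_option linter.dupNamespace false
set_option linter.unusedSectionVars false

universe u

open CategoryTheory CategoryTheory.Limits AlgebraicGeometry Opposite TopologicalSpace StMod
open K734.Fib K908.Aff K737.Span

namespace K737.TermAff

variable {S : Scheme.{u}} {𝒳 𝒴 : AlgSt.Cat S}

theorem locP_mono {P Q : MorphismProperty Scheme.{u}} (h : P ≤ Q) :
    AlgSp.LocP (S := S) P ≤ AlgSp.LocP Q := fun _ _ _ hf _ _ a b k ha hb hk => h _ (hf a b k ha hb hk)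

theorem fpPreL_iso {𝒰 𝒱 : AlgSt.Cat S} (x : 𝒰 ⥤ᵇ 𝒱) (f : 𝒱 ⥤ᵇ 𝒳) (g : 𝒴 ⥤ᵇ 𝒳)
    (a : (FibCat.fp (BasedFunctor.comp x f) g).obj) :
    ((fpPreL x f g).obj a).obj.iso.hom = a.obj.iso.hom := by
  change 𝟙 _ ≫ a.obj.iso.hom ≫ 𝟙 _ = a.obj.iso.hom
  simp

theorem repByAlgSpWith_affine (h𝒳 : AlgSt.IsAlgStack Scheme.fppfPrecoverage 𝒳)
    (h𝒴 : Stk.IsStack (QuotSh.J Scheme.fppfPrecoverage S) 𝒴) (p : 𝒴 ⥤ᵇ 𝒳) {V : Over S}
    (v : FibCat.overCat V ⥤ᵇ 𝒳) (hv : AlgSt.RepByAlgSpWith (AlgSp.LocP @Smooth) v)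
    (hv' : AlgSt.RepByAlgSpWith AlgSp.IsSurjectiveMor v) (hV : IsAffine V.left) {w : 𝒴.obj} {T₀ : Over S}
    (hw : 𝒴.p.obj w = T₀) (hT : IsAffine T₀.left) (α : p.obj w ⟶ v.obj (one' V)) (hα : IsTerm p α) :
    AlgSt.RepByAlgSpWith AlgSp.IsAffineMor p := by
  let g : T₀ ⟶ V := eqToHom hw.symm ≫ eqToHom (p.w_obj w).symm ≫ 𝒳.p.map α ≫ eqToHom (v.w_obj (one' V))
  have lg : 𝒳.p.IsHomLift g α := IsHomLift.of_fac' 𝒳.p _ _ ((p.w_obj w).trans hw) (v.w_obj (one' V)) (by simp [g])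
  obtain ⟨b, e, hE⟩ := K737.TermRep.exists_equiv h𝒳.isStack.1 h𝒴.1 p v hw α g lg hα
  -- the atlas of `𝒴`
  have hb : ∀ Q : MorphismProperty (AlgSp.Sp S), AlgSt.RepByAlgSpWith Q v → AlgSt.RepByAlgSpWith Q b := by
    intro Q hQ
    have h1 := K734.Rep.repByAlgSpWith_fpSnd Q v p hQ
    exact K735.Rep.repByAlgSpWith_of_sq Q (FibCat.fpSnd v p) b (FibCat.fpLift (AlgSt.overMap g) b e)
      (BasedFunctor.id _) hE K735.Fib.isEquivOver_id (Iso.refl _) h1
  have h𝒴' : AlgSt.IsAlgStack Scheme.fppfPrecoverage 𝒴 :=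
    Groth.Agent.S12760.result (K744.AlgOver.isAlgStack_overCat T₀).isStack h𝒴 (K735.Rep.repByAlgSp_overCat T₀) b
      (hb _ hv) (hb _ hv')
  have i1 : (AlgSp.IsAffineMor (S := S)).IsStableUnderBaseChange :=
    ⟨fun sq h => K608.Field.isAffineMor_of_isPullback sq h⟩
  let W : AlgSp.Space S := ⟨(AlgSp.yon S).obj V, AlgSp.IsAlgSpace.yon_obj V⟩
  let w' : AlgSt.ofSp W.obj ⥤ᵇ 𝒳 := BasedFunctor.comp (AlgSt.toOverCat V) v
  have hw1 : AlgSt.RepByAlgSpWith (AlgSp.LocP @Flat) w' := (K741.repByAlgSpWith_toOverCat _ _).1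
    (K735.Rep.AlgSt_RepByAlgSpWith_mono (locP_mono fun _ _ f (hf : Smooth f) => inferInstanceAs (Flat f)) hv)
  have hw2 : AlgSt.RepByAlgSpWith (AlgSp.LocP @LocallyOfFinitePresentation) w' :=
    (K741.repByAlgSpWith_toOverCat _ _).1 (K735.Rep.AlgSt_RepByAlgSpWith_mono
      (locP_mono fun _ _ f (hf : Smooth f) => inferInstanceAs (LocallyOfFinitePresentation f)) hv)
  have hw3 : AlgSt.RepByAlgSpWith AlgSp.IsSurjectiveMor w' := (K741.repByAlgSpWith_toOverCat _ _).1 hv'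
  refine (K737.ImmFlat.iff_of_boot h𝒴.1 h𝒳.isStack.1
    (fun X₁ Y₁ X₂ Y₂ _ _ _ _ a b a' b' sq h => K608.Field.isAffineMor_of_isPullback sq h)
    K741.isLocalOnBase_affine p W w' hw1 hw2 hw3 (Groth.Agent.S12842.result h𝒴' h𝒳 p W w' hw1 hw2 hw3)).2 ?_
  let e' : BasedFunctor.comp (AlgSt.ofSpMap ((AlgSp.yon S).map g)) w' ≅
      BasedFunctor.comp (BasedFunctor.comp (AlgSt.toOverCat T₀) b) p := wl (AlgSt.toOverCat T₀) e
  let E' := FibCat.fpLift (AlgSt.ofSpMap ((AlgSp.yon S).map g)) (BasedFunctor.comp (AlgSt.toOverCat T₀) b) e'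
  have hE' : FibCat.IsEquivOver E' := by
    have k1 : FibCat.IsEquivOver (BasedFunctor.comp (AlgSt.toOverCat T₀) (FibCat.fpLift (AlgSt.overMap g) b e)) :=
      isEquivOver_comp (K735.Rep.isEquivOver_toOverCat T₀) hE
    have k2 : BasedFunctor.comp (AlgSt.toOverCat T₀) (FibCat.fpLift (AlgSt.overMap g) b e) ≅
        BasedFunctor.comp E' (fpPreL (AlgSt.toOverCat V) v p) :=
      liftExt (Iso.refl _) (Iso.refl _) (fun a => by
        simp only [refl_app, Iso.refl_hom]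
        erw [v.map_id, p.map_id, Category.id_comp, Category.comp_id]
        exact fpPreL_iso (AlgSt.toOverCat V) v p (E'.obj a))
    exact isEquivOver_of_comp_right (isEquivOver_fpPreL _ (K735.Rep.isEquivOver_toOverCat V) v p)
      (isEquivOver_of_iso k2 k1)
  refine ⟨⟨(AlgSp.yon S).obj T₀, AlgSp.IsAlgSpace.yon_obj T₀⟩, ObjectProperty.homMk ((AlgSp.yon S).map g), E', hE',
    ⟨Iso.refl _⟩, ?_⟩
  exact K735.EtQuot.isAffineMor_yon_map g (isAffineHom_of_isAffine _)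

end K737.TermAff
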