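import Groth.Agent.AlgSt.K737.Span

/-!
# Universal arrows represent 2-fibre products

`p : 𝒴 ⟶ 𝒳`, `y : (Sch/V) ⟶ 𝒳` and `α : p(w) ⟶ y(𝟙)` a universal arrow: then `(Sch/V) ×_𝒳 𝒴 ≅ (Sch/T₀)`, `T₀` the base of `w`.
-/

set_option autoImplicit false
set_option linter.unusedVariables false
set_option linter.style.haveILetI false
set_option backward.isDefEq.respectTransparency false
set_option backward.isDefEq.respectTransparency.types false
set_option linter.dupNamespace false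
set_option linter.unusedSectionVars false

universe v' w' v w u

open CategoryTheory CategoryTheory.Limits AlgebraicGeometry Opposite TopologicalSpace StMod
open K734.Fib K908.Aff K737.Span

namespace K737.TermRep

variable {S : Scheme.{u}} {𝒳 : BasedCategory.{v, w} (Over S)} {𝒴 : BasedCategory.{v', w'} (Over S)}

theorem eq_of_lifts {𝒳 : BasedCategory.{v, w} (Over S)} {R V : Over S} {a b : 𝒳.obj} {h h' : R ⟶ V} {φ : a ⟶ b}
    (l : 𝒳.p.IsHomLift h φ) (l' : 𝒳.p.IsHomLift h' φ) : h = h' := by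
  rw [IsHomLift.fac 𝒳.p h φ, IsHomLift.fac 𝒳.p h' φ]

theorem lift_of_left {V : Over S} (y : FibCat.overCat V ⥤ᵇ 𝒳) {c c' : Over V} (h : c ⟶ c') :
    𝒳.p.IsHomLift h.left (y.map h) := by
  have : (FibCat.overCat V).p.IsHomLift h.left h := IsHomLift.map (Over.forget V) h
  exact BasedFunctor.preserves_isHomLift y _ _

theorem map_toBase {V : Over S} (y : FibCat.overCat V ⥤ᵇ 𝒳) {c c' : Over V} (h : c ⟶ c') :
    y.map h ≫ K737.Core.toBase y c' = K737.Core.toBase y c := by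
  rw [K737.Core.toBase, ← y.toFunctor.map_comp]
  exact congrArg _ (Over.OverMorphism.ext (Over.w h))

/-- **A universal arrow gives a representation of the 2-fibre product.** -/
theorem exists_equiv (h𝒳 : FibCat.IsFibGrpd 𝒳.p) (h𝒴 : FibCat.IsFibGrpd 𝒴.p) (p : 𝒴 ⥤ᵇ 𝒳) {V : Over S}
    (y : FibCat.overCat V ⥤ᵇ 𝒳) {w : 𝒴.obj} {T₀ : Over S} (hw : 𝒴.p.obj w = T₀) (α : p.obj w ⟶ y.obj (one' V))
    (g : T₀ ⟶ V) (hg : 𝒳.p.IsHomLift g α) (hα : IsTerm p α) :
    ∃ (b : FibCat.overCat T₀ ⥤ᵇ 𝒴) (e : BasedFunctor.comp (AlgSt.overMap g) y ≅ BasedFunctor.comp b p),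
      FibCat.IsEquivOver (FibCat.fpLift (AlgSt.overMap g) b e) := by
  obtain ⟨b, ε, hε⟩ := K737.Core.exists_yo h𝒴 w hw
  let a := AlgSt.overMap g
  -- the 2-isomorphism
  let o : Over T₀ := Over.mk (𝟙 T₀)
  have l1 : 𝒳.p.IsHomLift g (K737.Core.toBase y (a.obj o)) := by
    have h1 := K737.Core.toBase_isHomLift y (a.obj o)
    have h2 : Over.hom (a.obj o : Over V) = g := Category.id_comp g
    rw [h2] at h1
    exact h1
  have l2 : 𝒳.p.IsHomLift (𝟙 T₀) (p.map ε.hom) := BasedFunctor.preserves_isHomLift p _ _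
  have l3 : 𝒳.p.IsHomLift g (p.map ε.hom ≫ α) := by
    have := IsHomLift.comp 𝒳.p (𝟙 T₀) g (p.map ε.hom) α
    rwa [Category.id_comp] at this
  obtain ⟨e₀, he₀, he₀'⟩ := K737.Core.exists_iso_of_lifts h𝒳 g (K737.Core.toBase y (a.obj o)) (p.map ε.hom ≫ α)
  obtain ⟨e, he⟩ := K737.Core.nonempty_iso_of_iso h𝒳 (BasedFunctor.comp a y) (BasedFunctor.comp b p) e₀ he₀
  -- the arrows to `w`
  let β : ∀ c : Over T₀, b.obj c ⟶ w := fun c => K737.Core.toBase b c ≫ ε.hom
  have lβ : ∀ c : Over T₀, 𝒴.p.IsHomLift c.hom (β c) := fun c => by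
    have h1 := K737.Core.toBase_isHomLift b c
    have h2 := IsHomLift.comp 𝒴.p c.hom (𝟙 T₀) (K737.Core.toBase b c) ε.hom
    rwa [Category.comp_id] at h2
  have hA : ∀ c : Over T₀, (app e c).hom ≫ p.map (β c) ≫ α = K737.Core.toBase y (a.obj c) := by
    intro c
    have h1 := app_nat e (Over.homMk c.hom : c ⟶ o)
    have h2 : (app e o).hom = e₀.hom := he
    have h3 : p.map (β c) = p.map (K737.Core.toBase b c) ≫ p.map ε.hom := p.toFunctor.map_comp _ _
    rw [h3, Category.assoc, ← Category.assoc]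
    have h4 : (app e c).hom ≫ p.map (K737.Core.toBase b c) = y.map (a.map (Over.homMk c.hom : c ⟶ o)) ≫ e₀.hom := by
      rw [← h2]
      exact h1.symm
    rw [h4, Category.assoc, he₀']
    exact map_toBase y _
  refine ⟨b, e, isTwoCart_of _ _ _ ?_ ?_ ?_⟩
  · intro c c' f1 g1 hfg
    have h1 : p.map g1 ≫ p.map (β c') ≫ α = p.map (β c) ≫ α := by
      rw [← cancel_epi (app e c).hom]
      have h2 := hA c
      have h3 := hA c'
      rw [h2]
      have h4 : (app e c).hom ≫ p.map g1 ≫ p.map (β c') ≫ α = (y.map f1 ≫ (app e c').hom) ≫ p.map (β c') ≫ α := by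
        rw [hfg, Category.assoc]
      rw [h4, Category.assoc, h3]
      exact map_toBase y f1
    have h2 : g1 ≫ β c' = β c := by
      obtain ⟨χ, -, hu⟩ := hα (b.obj c) (p.map (β c) ≫ α)
      rw [hu (g1 ≫ β c') (by
        have h5 : p.map (g1 ≫ β c') = p.map g1 ≫ p.map (β c') := p.toFunctor.map_comp _ _
        exact (congrArg (fun k => k ≫ α) h5).trans ((Category.assoc _ _ _).trans h1)), hu (β c) rfl]
    have l4 : 𝒳.p.IsHomLift f1.left (p.map g1) := by
      have h6 : p.map g1 = (app e c).inv ≫ y.map f1 ≫ (app e c').hom := by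
        rw [hfg, Iso.inv_hom_id_assoc]
      rw [h6]
      have k1 : 𝒳.p.IsHomLift (𝟙 c.left) (app e c).inv := (app_vert e c).inv.lift ((BasedFunctor.comp b p).w_obj c)
      have k2 : 𝒳.p.IsHomLift f1.left (y.map f1) := lift_of_left y f1
      have k3 : 𝒳.p.IsHomLift (𝟙 c'.left) (app e c').hom := (app_vert e c').lift ((BasedFunctor.comp a y).w_obj c')
      have k4 : 𝒳.p.IsHomLift (f1.left ≫ 𝟙 c'.left) (y.map f1 ≫ (app e c').hom) := IsHomLift.comp 𝒳.p _ _ _ _
      have k5 := IsHomLift.comp 𝒳.p (𝟙 c.left) (f1.left ≫ 𝟙 c'.left) (app e c).inv (y.map f1 ≫ (app e c').hom)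
      have k6 : 𝟙 c.left ≫ f1.left ≫ 𝟙 c'.left = f1.left := by
        rw [Category.id_comp]
        exact Category.comp_id _
      rw [k6] at k5
      exact k5
    have l5 : 𝒴.p.IsHomLift f1.left g1 := BasedFunctor.isHomLift_map p _ _
    have l6 : 𝒴.p.IsHomLift (f1.left ≫ c'.hom) (g1 ≫ β c') := IsHomLift.comp 𝒴.p _ _ _ _
    rw [h2] at l6
    have h7 : f1.left ≫ c'.hom = c.hom := eq_of_lifts l6 (lβ c)
    refine ⟨Over.homMk f1.left h7, ?_, ?_⟩
    · apply Over.OverMorphism.ext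
      rfl
    · refine K734.Fib.fac_unique' h𝒴 (β c') (lift_of_left b (Over.homMk f1.left h7)) l5 ?_
      rw [h2]
      change b.map _ ≫ K737.Core.toBase b c' ≫ ε.hom = K737.Core.toBase b c ≫ ε.hom
      rw [← Category.assoc, map_toBase]
  · intro c c' h h' hh _
    have h1 := congrArg (fun k => CommaMorphism.left k) hh
    apply Over.OverMorphism.ext
    exact h1
  · intro x θ φ hφ
    obtain ⟨χ, hχ, -⟩ := hα θ (φ.inv ≫ K737.Core.toBase y x)
    have hθ : 𝒴.p.obj θ = x.left := by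
      rw [← p.w_obj θ, ← hφ.obj_eq]
      exact y.w_obj x
    let t : x.left ⟶ T₀ := eqToHom hθ.symm ≫ 𝒴.p.map χ ≫ eqToHom hw
    have lχ : 𝒴.p.IsHomLift t χ := IsHomLift.of_fac' 𝒴.p _ _ hθ hw (by simp [t])
    have lχ' : 𝒳.p.IsHomLift t (p.map χ) := BasedFunctor.preserves_isHomLift p _ _
    have k1 : 𝒳.p.IsHomLift (t ≫ g) (p.map χ ≫ α) := IsHomLift.comp 𝒳.p _ _ _ _
    rw [hχ] at k1
    have k2 : 𝒳.p.IsHomLift (𝟙 x.left) φ.inv := hφ.inv.lift' (y.w_obj x)
    have k3 : 𝒳.p.IsHomLift x.hom (K737.Core.toBase y x) := K737.Core.toBase_isHomLift y x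
    have k4 := IsHomLift.comp 𝒳.p (𝟙 x.left) x.hom φ.inv (K737.Core.toBase y x)
    rw [Category.id_comp] at k4
    have htg : t ≫ g = x.hom := eq_of_lifts k1 k4
    let c : Over T₀ := Over.mk t
    have lc : 𝒴.p.IsHomLift t (β c) := lβ c
    obtain ⟨β', hβ', hβ''⟩ := K737.Core.exists_iso_of_lifts h𝒴 t (β c) χ
    let α' : a.obj c ≅ x := Over.isoMk (Iso.refl x.left) (by
      change 𝟙 _ ≫ x.hom = t ≫ g
      rw [Category.id_comp, htg])
    refine ⟨c, α', β', ?_, ?_⟩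
    · rw [isVert_iff]
      refine ⟨rfl, ?_⟩
      rfl
    · have m1 : 𝒳.p.IsHomLift (𝟙 x.left) (y.map α'.hom) := lift_of_left y α'.hom
      have m2 : 𝒳.p.IsHomLift (𝟙 x.left) φ.hom := hφ.lift (y.w_obj x)
      have m3 : 𝒳.p.IsHomLift (𝟙 x.left) (y.map α'.hom ≫ φ.hom) := IsHomLift.comp_of_lift_id 𝒳.p x.left _ _
      have m4 : 𝒳.p.IsHomLift (𝟙 x.left) (app e c).hom := (app_vert e c).lift ((BasedFunctor.comp a y).w_obj c)
      have m5 : 𝒳.p.IsHomLift (𝟙 x.left) (p.map β'.hom) := BasedFunctor.preserves_isHomLift p _ _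
      have m6 : 𝒳.p.IsHomLift (𝟙 x.left) ((app e c).hom ≫ p.map β'.hom) := IsHomLift.comp_of_lift_id 𝒳.p x.left _ _
      refine K734.Fib.fac_unique' h𝒳 (φ.inv ≫ K737.Core.toBase y x) m3 m6 ?_
      rw [Category.assoc, Iso.hom_inv_id_assoc]
      refine (map_toBase y α'.hom).trans ?_
      rw [← hA c, ← hχ, Category.assoc]
      have h8 : p.map (β c) = p.map β'.hom ≫ p.map χ := by
        rw [← hβ'']
        exact p.toFunctor.map_comp _ _
      rw [h8, Category.assoc]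

end K737.TermRep
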