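import Groth.Agent.StMod.K908.QuotPt
import Groth.Agent.AlgSt.K737.Core
import Groth.Agent.AlgSt.K750.QuotEff
import Groth.Agent.AlgSt.K737.Span

/-!
# The scheme of arrows from `f(x)` to `ζ` and its action

`f : [X/G] ⟶ 𝒳` a functor, `ζ` an object of `𝒳`, `j : L ⟶ X` an equivariant map.  `IsUni f j π u` says that
`P` represents the pairs of a point `l` of `L` and an arrow `f(j(l)) ⟶ ζ`, with universal arrow
`u : f(j(π)) ⟶ ζ`.  Then `G` acts on `P`.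
-/

set_option autoImplicit false
set_option linter.unusedVariables false
set_option linter.style.haveILetI false
set_option backward.isDefEq.respectTransparency false
set_option backward.isDefEq.respectTransparency.types false
set_option linter.dupNamespace false
set_option linter.unusedSectionVars false

universe w u

open CategoryTheory CategoryTheory.Limits MonoidalCategory CartesianMonoidalCategory MonObj GrpObj AlgebraicGeometry
open AlgSt K750.TorsPts K908.QuotPt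

namespace K737.Uni

variable {S : Scheme.{u}} {G X : Over S} [GrpObj G] {aX : AlgGrp.Action G X}
  {𝒳 : BasedCategory.{u, w} (Over S)} (h𝒳 : FibCat.IsFibGrpd 𝒳.p)
  (f : QuotSt Scheme.fppfPrecoverage G aX ⥤ᵇ 𝒳)

/-- the image of an arrow between trivial torsors -/
noncomputable def fr {V' V : Over S} (x' : V' ⟶ X) (x : V ⟶ X) (h : V' ⟶ V) (g : V' ⟶ G)
    (e : act aX g (h ≫ x) = x') : f.obj (tx aX x') ⟶ f.obj (tx aX x) := f.map (ar x' x h g e)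

theorem fr_lift {V' V : Over S} (x' : V' ⟶ X) (x : V ⟶ X) (h : V' ⟶ V) (g : V' ⟶ G)
    (e : act aX g (h ≫ x) = x') : 𝒳.p.IsHomLift h (fr f x' x h g e) := by
  have h1 : (QuotSt Scheme.fppfPrecoverage G aX).p.IsHomLift h (ar x' x h g e) :=
    IsHomLift.map (QuotSt Scheme.fppfPrecoverage G aX).p (ar x' x h g e)
  exact BasedFunctor.preserves_isHomLift f h _

theorem fr_trans {V'' V' V : Over S} {x'' : V'' ⟶ X} {x' : V' ⟶ X} {x : V ⟶ X} {h' : V'' ⟶ V'} {h : V' ⟶ V}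
    {g' : V'' ⟶ G} {g : V' ⟶ G} (e' : act aX g' (h' ≫ x') = x'') (e : act aX g (h ≫ x) = x') :
    fr f x'' x' h' g' e' ≫ fr f x' x h g e = fr f x'' x (h' ≫ h) (g' * (h' ≫ g)) (act_comp e' e) := by
  unfold fr
  rw [← f.toFunctor.map_comp, ar_trans]

theorem fr_trans_assoc {V'' V' V : Over S} {x'' : V'' ⟶ X} {x' : V' ⟶ X} {x : V ⟶ X} {h' : V'' ⟶ V'} {h : V' ⟶ V}
    {g' : V'' ⟶ G} {g : V' ⟶ G} (e' : act aX g' (h' ≫ x') = x'') (e : act aX g (h ≫ x) = x') {ζ : 𝒳.obj}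
    (κ : f.obj (tx aX x) ⟶ ζ) :
    fr f x'' x' h' g' e' ≫ fr f x' x h g e ≫ κ = fr f x'' x (h' ≫ h) (g' * (h' ≫ g)) (act_comp e' e) ≫ κ := by
  rw [← Category.assoc, fr_trans]

theorem fr_congr {V' V : Over S} {x' : V' ⟶ X} {x : V ⟶ X} {h h' : V' ⟶ V} {g g' : V' ⟶ G}
    (e : act aX g (h ≫ x) = x') (e' : act aX g' (h' ≫ x) = x') (hh : h = h') (hg : g = g') :
    fr f x' x h g e = fr f x' x h' g' e' := by
  subst hh; subst hg; rfl

theorem fr_id {V : Over S} (x : V ⟶ X) (e : act aX 1 (𝟙 V ≫ x) = x) : fr f x x (𝟙 V) 1 e = 𝟙 _ := by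
  unfold fr
  rw [ar_id]
  exact f.toFunctor.map_id _

variable {f} {ζ : 𝒳.obj}

/-- the arrow attached to a point of `P` -/
noncomputable def kp {P T : Over S} {z : P ⟶ X} (u : f.obj (tx aX z) ⟶ ζ) (t : T ⟶ P) (x : T ⟶ X) (h : t ≫ z = x) :
    f.obj (tx aX x) ⟶ ζ := fr f x z t 1 (by rw [act_one]; exact h) ≫ u

theorem kp_congr {P T : Over S} {z : P ⟶ X} (u : f.obj (tx aX z) ⟶ ζ) {t t' : T ⟶ P} {x : T ⟶ X} (h : t ≫ z = x)
    (h' : t' ≫ z = x) (e : t = t') : kp u t x h = kp u t' x h' := by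
  subst e; rfl

theorem fr_kp {P T T' : Over S} {z : P ⟶ X} (u : f.obj (tx aX z) ⟶ ζ) (t : T ⟶ P) (x : T ⟶ X) (h : t ≫ z = x)
    (t' : T' ⟶ P) (x' : T' ⟶ X) (h' : t' ≫ z = x') (m : T' ⟶ T) (hm : m ≫ t = t') (e : act aX 1 (m ≫ x) = x') :
    fr f x' x m 1 e ≫ kp u t x h = kp u t' x' h' := by
  unfold kp
  rw [fr_trans_assoc]
  congr 1
  apply fr_congr
  · exact hm
  · simp

variable (f) in
/-- `P` represents pairs of a point `l` of `L` and an arrow `f(l ≫ j) ⟶ ζ`. -/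
structure IsUni {L P : Over S} (j : L ⟶ X) (π : P ⟶ L) (u : f.obj (tx aX (π ≫ j)) ⟶ ζ) : Prop where
  inj : ∀ {T : Over S} (t t' : T ⟶ P) (x : T ⟶ X) (h : t ≫ π ≫ j = x) (h' : t' ≫ π ≫ j = x),
    t ≫ π = t' ≫ π → kp u t x h = kp u t' x h' → t = t'
  sur : ∀ {T : Over S} (l : T ⟶ L) (x : T ⟶ X) (h : l ≫ j = x) (κ : f.obj (tx aX x) ⟶ ζ),
    ∃ (t : T ⟶ P) (h1 : t ≫ π = l), kp u t x (by rw [← Category.assoc, h1]; exact h) = κ

section Act

variable {L P : Over S} {j : L ⟶ X} {π : P ⟶ L} {u : f.obj (tx aX (π ≫ j)) ⟶ ζ} (hu : IsUni f j π u)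
  (aL : AlgGrp.Action G L) (hj : aL.act ≫ j = (G ◁ j) ≫ aX.act)

include hu hj

theorem exists_gpt {T : Over S} (g : T ⟶ G) (t : T ⟶ P) :
    ∃ (t' : T ⟶ P) (h1 : t' ≫ π = act aL g (t ≫ π)),
      ∀ (x x' : T ⟶ X) (h : t ≫ π ≫ j = x) (h' : t' ≫ π ≫ j = x') (e : act aX g (𝟙 T ≫ x) = x'),
        kp u t' x' h' = fr f x' x (𝟙 T) g e ≫ kp u t x h := by
  have e0 : act aX g (𝟙 T ≫ (t ≫ π ≫ j)) = act aL g (t ≫ π) ≫ j := by
    rw [Category.id_comp, act_eqv aL aX j hj, Category.assoc]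
  obtain ⟨t', h1, h2⟩ := hu.sur (act aL g (t ≫ π)) (act aL g (t ≫ π) ≫ j) rfl
    (fr f _ (t ≫ π ≫ j) (𝟙 T) g e0 ≫ kp u t (t ≫ π ≫ j) rfl)
  refine ⟨t', h1, ?_⟩
  intro x x' h h' e
  subst h
  have h3 : x' = act aL g (t ≫ π) ≫ j := by rw [← h', ← Category.assoc, h1]
  subst h3
  exact h2

/-- the action on points -/
noncomputable def gpt {T : Over S} (g : T ⟶ G) (t : T ⟶ P) : T ⟶ P := (exists_gpt hu aL hj g t).choose

theorem gpt_π {T : Over S} (g : T ⟶ G) (t : T ⟶ P) : gpt hu aL hj g t ≫ π = act aL g (t ≫ π) :=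
  (exists_gpt hu aL hj g t).choose_spec.choose

theorem kp_gpt {T : Over S} (g : T ⟶ G) (t : T ⟶ P) (x x' : T ⟶ X) (h : t ≫ π ≫ j = x)
    (h' : gpt hu aL hj g t ≫ π ≫ j = x') (e : act aX g (𝟙 T ≫ x) = x') :
    kp u (gpt hu aL hj g t) x' h' = fr f x' x (𝟙 T) g e ≫ kp u t x h :=
  (exists_gpt hu aL hj g t).choose_spec.choose_spec x x' h h' e

theorem gpt_j {T : Over S} (g : T ⟶ G) (t : T ⟶ P) : gpt hu aL hj g t ≫ π ≫ j = act aX g (t ≫ π ≫ j) := by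
  rw [← Category.assoc, gpt_π, act_eqv aL aX j hj, Category.assoc]

theorem comp_gpt {T T' : Over S} (m : T' ⟶ T) (g : T ⟶ G) (t : T ⟶ P) :
    m ≫ gpt hu aL hj g t = gpt hu aL hj (m ≫ g) (m ≫ t) := by
  have e1 : (m ≫ gpt hu aL hj g t) ≫ π ≫ j = act aX (m ≫ g) ((m ≫ t) ≫ π ≫ j) := by
    rw [Category.assoc, gpt_j, comp_act, Category.assoc]
  refine hu.inj _ _ _ e1 (gpt_j hu aL hj _ _) ?_ ?_
  · rw [Category.assoc, gpt_π, gpt_π, comp_act, Category.assoc]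
  · rw [kp_gpt hu aL hj (m ≫ g) (m ≫ t) ((m ≫ t) ≫ π ≫ j) _ rfl (gpt_j hu aL hj _ _) (by rw [Category.id_comp])]
    rw [← fr_kp u (gpt hu aL hj g t) (act aX g (t ≫ π ≫ j)) (gpt_j hu aL hj g t) _ _ e1 m rfl
      (by rw [act_one, comp_act, Category.assoc]),
      kp_gpt hu aL hj g t (t ≫ π ≫ j) _ rfl (gpt_j hu aL hj g t) (by rw [Category.id_comp]),
      ← fr_kp u t (t ≫ π ≫ j) rfl (m ≫ t) ((m ≫ t) ≫ π ≫ j) rfl m rfl (by rw [act_one, Category.assoc]),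
      fr_trans_assoc, fr_trans_assoc]
    congr 1
    apply fr_congr
    · simp
    · simp

theorem gpt_one {T : Over S} (t : T ⟶ P) : gpt hu aL hj 1 t = t := by
  have e1 : gpt hu aL hj 1 t ≫ π ≫ j = t ≫ π ≫ j := by rw [gpt_j, act_one]
  refine hu.inj _ _ _ e1 rfl ?_ ?_
  · rw [gpt_π, act_one]
  · rw [kp_gpt hu aL hj 1 t (t ≫ π ≫ j) _ rfl e1 (by rw [Category.id_comp, act_one]), fr_id, Category.id_comp]

theorem gpt_mul {T : Over S} (g g' : T ⟶ G) (t : T ⟶ P) :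
    gpt hu aL hj (g * g') t = gpt hu aL hj g (gpt hu aL hj g' t) := by
  have e1 : gpt hu aL hj g (gpt hu aL hj g' t) ≫ π ≫ j = gpt hu aL hj (g * g') t ≫ π ≫ j := by
    rw [gpt_j, gpt_j, gpt_j, act_mul]
  refine hu.inj _ _ _ rfl e1 ?_ ?_
  · rw [gpt_π, gpt_π, gpt_π, act_mul]
  · rw [kp_gpt hu aL hj (g * g') t (t ≫ π ≫ j) _ rfl rfl (by rw [Category.id_comp, gpt_j]),
      kp_gpt hu aL hj g (gpt hu aL hj g' t) (act aX g' (t ≫ π ≫ j)) _ (gpt_j hu aL hj g' t) e1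
        (by rw [Category.id_comp, gpt_j, act_mul]),
      kp_gpt hu aL hj g' t (t ≫ π ≫ j) _ rfl (gpt_j hu aL hj g' t) (by rw [Category.id_comp]),
      fr_trans_assoc]
    congr 1

/-- the action on `P` -/
noncomputable def aP : AlgGrp.Action G P where
  act := gpt hu aL hj (fst G P) (snd G P)
  one_act := K750.QuotEff.one_act_of_pts _ fun T q => by
    rw [comp_gpt, lift_fst, lift_snd, gpt_one]
  mul_act := K750.QuotEff.mul_act_of_pts _ fun T g g' q => by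
    rw [comp_gpt, comp_gpt, comp_gpt, lift_fst, lift_snd, lift_fst, lift_snd, lift_fst, lift_snd, gpt_mul]

theorem act_aP {T : Over S} (g : T ⟶ G) (t : T ⟶ P) : act (aP hu aL hj) g t = gpt hu aL hj g t := by
  change lift g t ≫ gpt hu aL hj (fst G P) (snd G P) = _
  rw [comp_gpt, lift_fst, lift_snd]

theorem eqv_π : (aP hu aL hj).act ≫ π = (G ◁ π) ≫ aL.act := by
  apply eqv_of_act
  intro T g p
  rw [act_aP, gpt_π]

include h𝒳

/-- **a point fixed by `g` gives an arrow mapped to the identity.** -/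
theorem fr_eq_id_of_fixed {T : Over S} (g : T ⟶ G) (t : T ⟶ P) (h : act (aP hu aL hj) g t = t) (x : T ⟶ X)
    (hx : t ≫ π ≫ j = x) : ∃ e : act aX g (𝟙 T ≫ x) = x, fr f x x (𝟙 T) g e = 𝟙 _ := by
  rw [act_aP] at h
  have e : act aX g (𝟙 T ≫ x) = x := by
    rw [Category.id_comp, ← hx, ← gpt_j hu aL hj, h]
  refine ⟨e, ?_⟩
  have h1 := kp_gpt hu aL hj g t x x hx (by rw [h]; exact hx) e
  rw [kp_congr u _ hx h] at h1
  have l1 := fr_lift f x x (𝟙 T) g e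
  have l2 : 𝒳.p.IsHomLift (𝟙 T) (𝟙 (f.obj (tx aX x))) := IsHomLift.id (f.w_obj (tx aX x))
  refine K734.Fib.fac_unique' h𝒳 (kp u t x hx) l1 l2 ?_
  rw [Category.id_comp]
  exact h1.symm

/-- and conversely. -/
theorem fixed_of_fr_eq_id {T : Over S} (g : T ⟶ G) (t : T ⟶ P) (x : T ⟶ X) (hx : t ≫ π ≫ j = x)
    (e : act aX g (𝟙 T ≫ x) = x) (hL : act aL g (t ≫ π) = t ≫ π)
    (h : fr f x x (𝟙 T) g e = 𝟙 _) : act (aP hu aL hj) g t = t := by
  rw [act_aP]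
  have e1 : gpt hu aL hj g t ≫ π ≫ j = x := by
    rw [← Category.assoc, gpt_π, hL, Category.assoc, hx]
  refine hu.inj _ _ x e1 hx ?_ ?_
  · rw [gpt_π, hL]
  · rw [kp_gpt hu aL hj g t x x hx e1 e, h, Category.id_comp]

end Act

section Base

variable {P T : Over S} {z : P ⟶ X} (u : f.obj (tx aX z) ⟶ ζ)

/-- the base of the universal arrow -/
noncomputable def qb : P ⟶ 𝒳.p.obj ζ := eqToHom (f.w_obj (tx aX z)).symm ≫ 𝒳.p.map u

theorem qb_lift : 𝒳.p.IsHomLift (qb u) u :=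
  IsHomLift.of_fac' 𝒳.p _ _ (f.w_obj (tx aX z)) rfl (by rw [qb]; simp)

theorem kp_lift (t : T ⟶ P) (x : T ⟶ X) (h : t ≫ z = x) : 𝒳.p.IsHomLift (t ≫ qb u) (kp u t x h) := by
  have l1 := fr_lift f x z t 1 (by rw [act_one]; exact h)
  have l2 := qb_lift u
  exact IsHomLift.comp 𝒳.p t (qb u) _ _

theorem eq_of_lifts {R V : Over S} {a b : 𝒳.obj} {h h' : R ⟶ V} {φ : a ⟶ b} (l : 𝒳.p.IsHomLift h φ)
    (l' : 𝒳.p.IsHomLift h' φ) : h = h' := by
  rw [IsHomLift.fac 𝒳.p h φ, IsHomLift.fac 𝒳.p h' φ]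

end Base

section Act

variable {L P : Over S} {j : L ⟶ X} {π : P ⟶ L} {u : f.obj (tx aX (π ≫ j)) ⟶ ζ} (hu : IsUni f j π u)
  (aL : AlgGrp.Action G L) (hj : aL.act ≫ j = (G ◁ j) ≫ aX.act)

/-- the base of the universal arrow is invariant. -/
theorem act_qb {T : Over S} (g : T ⟶ G) (t : T ⟶ P) : act (aP hu aL hj) g t ≫ qb u = t ≫ qb u := by
  rw [act_aP]
  have e : act aX g (𝟙 T ≫ (t ≫ π ≫ j)) = gpt hu aL hj g t ≫ π ≫ j := by
    rw [Category.id_comp, gpt_j]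
  have h1 := kp_gpt hu aL hj g t (t ≫ π ≫ j) _ rfl rfl e
  have l1 := kp_lift u (gpt hu aL hj g t) _ rfl
  have l2 := kp_lift u t _ rfl
  have l3 := fr_lift f _ (t ≫ π ≫ j) (𝟙 T) g e
  rw [h1] at l1
  have l4 := IsHomLift.comp 𝒳.p (𝟙 T) (t ≫ qb u) (fr f _ (t ≫ π ≫ j) (𝟙 T) g e) (kp u t _ rfl)
  rw [eq_of_lifts l1 l4, Category.id_comp]

end Act

section Ex

open K737.Span

variable {L : Over S} (j : L ⟶ X)

include h𝒳

/-- **Existence**: products in the total category give universal pairs. -/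
theorem exists_isUni {o : 𝒳.obj} {κ : o ⟶ ζ} {α : o ⟶ f.obj (tx aX j)} (h : IsProd 𝒳 κ α) :
    ∃ u : f.obj (tx aX ((𝒳.p.map α ≫ eqToHom (f.w_obj (tx aX j)) : 𝒳.p.obj o ⟶ L) ≫ j)) ⟶ ζ,
      IsUni f j (𝒳.p.map α ≫ eqToHom (f.w_obj (tx aX j)) : 𝒳.p.obj o ⟶ L) u := by
  let π : 𝒳.p.obj o ⟶ L := 𝒳.p.map α ≫ eqToHom (f.w_obj (tx aX j))
  have lα : 𝒳.p.IsHomLift π α := IsHomLift.of_fac' 𝒳.p _ _ rfl (f.w_obj (tx aX j)) (by simp [π])
  have e0 : act aX 1 (π ≫ j) = π ≫ j := act_one _ _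
  have lr := fr_lift f (π ≫ j) j π 1 e0
  obtain ⟨e, he, he'⟩ := K737.Core.exists_iso_of_lifts h𝒳 π (fr f (π ≫ j) j π 1 e0) α
  have key : ∀ {T : Over S} (t : T ⟶ 𝒳.p.obj o) (x : T ⟶ X) (hx : t ≫ π ≫ j = x) (e1 : act aX 1 (t ≫ π ≫ j) = x)
      (e2 : act aX 1 ((t ≫ π) ≫ j) = x),
      (fr f x (π ≫ j) t 1 e1 ≫ e.hom) ≫ α = fr f x j (t ≫ π) 1 e2 := by
    intro T t x hx e1 e2
    rw [Category.assoc, he', fr_trans]
    apply fr_congr
    · rfl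
    · simp
  refine ⟨e.hom ≫ κ, ?_, ?_⟩
  · intro T t t' x hx hx' hπ hk
    have e1 : act aX 1 (t ≫ π ≫ j) = x := by rw [act_one]; exact hx
    have e1' : act aX 1 (t' ≫ π ≫ j) = x := by rw [act_one]; exact hx'
    have e2 : act aX 1 ((t ≫ π) ≫ j) = x := by rw [Category.assoc]; exact e1
    have e2' : act aX 1 ((t' ≫ π) ≫ j) = x := by rw [Category.assoc]; exact e1'
    obtain ⟨χ, -, hχ⟩ := h _ (kp (e.hom ≫ κ) t x hx) (fr f x j (t ≫ π) 1 e2)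
    have h1 := hχ (fr f x (π ≫ j) t 1 e1 ≫ e.hom) ⟨Category.assoc _ _ _, key t x hx e1 e2⟩
    have h2 := hχ (fr f x (π ≫ j) t' 1 e1' ≫ e.hom) ⟨(Category.assoc _ _ _).trans hk.symm, by
      rw [key t' x hx' e1' e2']
      apply fr_congr
      · exact hπ.symm
      · rfl⟩
    have h3 := h1.trans h2.symm
    have l1 := fr_lift f x (π ≫ j) t 1 e1
    have l2 := fr_lift f x (π ≫ j) t' 1 e1'
    have l3 : 𝒳.p.IsHomLift t (fr f x (π ≫ j) t 1 e1 ≫ e.hom) := inferInstance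
    have l4 : 𝒳.p.IsHomLift t' (fr f x (π ≫ j) t' 1 e1' ≫ e.hom) := inferInstance
    rw [← h3] at l4
    exact eq_of_lifts l3 l4
  · intro T l x hx κ'
    have e2 : act aX 1 (l ≫ j) = x := by rw [act_one]; exact hx
    obtain ⟨χ, ⟨hχ1, hχ2⟩, -⟩ := h _ κ' (fr f x j l 1 e2)
    let t : T ⟶ 𝒳.p.obj o := eqToHom (f.w_obj (tx aX x)).symm ≫ 𝒳.p.map χ
    have lχ : 𝒳.p.IsHomLift t χ := IsHomLift.of_fac' 𝒳.p _ _ (f.w_obj (tx aX x)) rfl (by simp [t])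
    have l1 : 𝒳.p.IsHomLift (t ≫ π) (fr f x j l 1 e2) := by rw [← hχ2]; infer_instance
    have ht : t ≫ π = l := eq_of_lifts l1 (fr_lift f x j l 1 e2)
    have hx' : t ≫ π ≫ j = x := by rw [← Category.assoc, ht, hx]
    have e1 : act aX 1 (t ≫ π ≫ j) = x := by rw [act_one]; exact hx'
    refine ⟨t, ht, ?_⟩
    have l3 := fr_lift f x (π ≫ j) t 1 e1
    have l4 : 𝒳.p.IsHomLift t (fr f x (π ≫ j) t 1 e1 ≫ e.hom) := inferInstance
    have h3 : fr f x (π ≫ j) t 1 e1 ≫ e.hom = χ := by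
      refine K734.Fib.fac_unique' h𝒳 α l4 lχ ?_
      rw [key t x hx' e1 (by rw [ht]; exact e2), hχ2]
      apply fr_congr
      · exact ht
      · rfl
    change fr f x (π ≫ j) t 1 e1 ≫ e.hom ≫ κ = κ'
    rw [← Category.assoc, h3, hχ1]

end Ex

end K737.Uni
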