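import Groth.Agent.AlgSt.K737.Uni
import Groth.Agent.Stk.K751.Test
import Groth.Agent.QuotStk.K824.BalProd
import Groth.Agent.AlgSt.K745.QuotDesc
import Groth.Agent.AlgSp.K634.Desc
import Groth.Agent.AlgSt.K744.TorsProp

/-!
# The universal arrow to `ζ` when the scheme of arrows is a torsor

`hu : IsUni f j π u` and `π₀ : P ⟶ T₀` a torsor under `G` for the action on `P`.  Then `W₀ = (P ⟶ T₀, P ⟶ X)`
is an object of `[X/G]` with an arrow `κ₀ : f(W₀) ⟶ ζ`, universal among the arrows `f(A) ⟶ ζ` for the objects `A` whose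
map to `X` factors through `j`.
-/

set_option autoImplicit false
set_option linter.unusedVariables false
set_option linter.style.haveILetI false
set_option backward.isDefEq.respectTransparency false
set_option backward.isDefEq.respectTransparency.types false
set_option linter.dupNamespace false
set_option linter.unusedSectionVars false

universe w u

open CategoryTheory CategoryTheory.Limits MonoidalCategory CartesianMonoidalCategory MonObj GrpObj AlgebraicGeometry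
open AlgSt K750.TorsPts K908.QuotPt K737.Uni

namespace K737.UniTors

section Glue

variable {C : Type*} [Category C] {J : GrothendieckTopology C} {𝒳 : BasedCategory C}

/-- gluing an arrow along a single covering arrow -/
theorem glue_single (h𝒳 : Stk.IsPrestack J 𝒳) {z x y : 𝒳.obj} (e : z ⟶ x)
    (hcov : Sieve.generate (Presieve.singleton (𝒳.p.map e)) ∈ J (𝒳.p.obj x)) (g : 𝒳.p.obj x ⟶ 𝒳.p.obj y)
    (φ : z ⟶ y) (hb : 𝒳.p.map φ = 𝒳.p.map e ≫ g)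
    (hc : ∀ {w : 𝒳.obj} (c c' : w ⟶ z), c ≫ e = c' ≫ e → c ≫ φ = c' ≫ φ) :
    ∃! ψ : x ⟶ y, 𝒳.p.map ψ = g ∧ e ≫ ψ = φ := by
  obtain ⟨hF, hG⟩ := (K751.Test.isPrestack_iff J).1 h𝒳
  have key : ∀ ⦃w : 𝒳.obj⦄ (a : w ⟶ x), (Sieve.generate (Presieve.singleton (𝒳.p.map e))) (𝒳.p.map a) →
      ∃ c : w ⟶ z, c ≫ e = a := by
    rintro w a ⟨V, l, _, ⟨⟩, hl⟩
    obtain ⟨χ, -, hχ⟩ := K734.Fib.exists_fac hF e a l hl
    exact ⟨χ, hχ⟩
  choose c hce using key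
  obtain ⟨ψ, ⟨h1, h2⟩, h3⟩ := hG x _ hcov g (fun w a ha => c a ha ≫ φ)
    (fun w a ha => by rw [Functor.map_comp, hb, ← Category.assoc, ← Functor.map_comp, hce])
    (fun z' z'' b a ha hba => by
      change c (b ≫ a) hba ≫ φ = b ≫ c a ha ≫ φ
      rw [← Category.assoc]
      apply hc
      rw [hce, Category.assoc, hce])
  have he : (Sieve.generate (Presieve.singleton (𝒳.p.map e))) (𝒳.p.map e) := ⟨_, 𝟙 _, _, ⟨⟩, Category.id_comp _⟩
  refine ⟨ψ, ⟨h1, ?_⟩, ?_⟩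
  · rw [h2 e he]
    have := hc (c e he) (𝟙 z) (by rw [hce, Category.id_comp])
    rw [this, Category.id_comp]
  · rintro ψ' ⟨h4, h5⟩
    apply h3
    refine ⟨h4, fun w a ha => ?_⟩
    rw [← h5, ← Category.assoc, hce]

/-- gluing an arrow along a single covering arrow, in terms of lifts -/
theorem glue_lift (h𝒳 : Stk.IsPrestack J 𝒳) {z x y : 𝒳.obj} {P T V : C} (π : P ⟶ T) (e : z ⟶ x)
    (le : 𝒳.p.IsHomLift π e) (hcov : Sieve.generate (Presieve.singleton π) ∈ J T) (g : T ⟶ V)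
    (φ : z ⟶ y) (lφ : 𝒳.p.IsHomLift (π ≫ g) φ)
    (hc : ∀ {w : 𝒳.obj} (c c' : w ⟶ z), c ≫ e = c' ≫ e → c ≫ φ = c' ≫ φ) :
    ∃! ψ : x ⟶ y, 𝒳.p.IsHomLift g ψ ∧ e ≫ ψ = φ := by
  obtain rfl := IsHomLift.codomain_eq 𝒳.p (π ≫ g) φ
  obtain ⟨⟩ := le
  obtain ⟨ψ, ⟨h1, h2⟩, h3⟩ := glue_single h𝒳 e hcov g φ (IsHomLift.eq_of_isHomLift 𝒳.p _ φ).symm hc
  refine ⟨ψ, ⟨?_, h2⟩, ?_⟩
  · rw [← h1]
    exact IsHomLift.map 𝒳.p ψ
  · rintro ψ' ⟨h4, h5⟩
    exact h3 ψ' ⟨(IsHomLift.eq_of_isHomLift 𝒳.p g ψ').symm, h5⟩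

variable {S : Scheme.{u}}

/-- morphisms descend along coverings -/
theorem desc_hom {P T V : Over S} (π : P ⟶ T) (hcov : Sieve.generate (Presieve.singleton π) ∈ AlgSp.J S T)
    (q : P ⟶ V) (hq : ∀ {W : Over S} (a b : W ⟶ P), a ≫ π = b ≫ π → a ≫ q = b ≫ q) :
    ∃! g : T ⟶ V, π ≫ g = q := by
  have h1 : (Presieve.singleton π).IsSheafFor ((AlgSp.yon S).obj V).obj := by
    rw [Presieve.isSheafFor_iff_generate]
    exact ((isSheaf_iff_isSheaf_of_type _ _).1 ((AlgSp.yon S).obj V).property) _ hcov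
  rw [Presieve.isSheafFor_singleton] at h1
  obtain ⟨⟨g⟩, hg, hu⟩ := h1 ⟨q⟩ (fun {Z} a b hab => congrArg ULift.up (hq a b hab))
  refine ⟨g, congrArg ULift.down hg, fun g' hg' => ?_⟩
  exact congrArg ULift.down (hu ⟨g'⟩ (congrArg ULift.up hg'))

theorem hom_ext_cov {P T V : Over S} (π : P ⟶ T) (hcov : Sieve.generate (Presieve.singleton π) ∈ AlgSp.J S T)
    {g g' : T ⟶ V} (h : π ≫ g = π ≫ g') : g = g' :=
  (desc_hom π hcov (π ≫ g) (fun a b hab => by rw [← Category.assoc, hab, Category.assoc])).unique rfl h.symm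

/-- covering arrows are epimorphisms -/
theorem ext_cov {𝒳 : BasedCategory.{u, w} (Over S)} (h𝒳 : Stk.IsPrestack (AlgSp.J S) 𝒳) {z x y : 𝒳.obj} {P T : Over S}
    (π : P ⟶ T) (e : z ⟶ x) (le : 𝒳.p.IsHomLift π e)
    (hcov : Sieve.generate (Presieve.singleton π) ∈ AlgSp.J S T) {ψ ψ' : x ⟶ y} (h : e ≫ ψ = e ≫ ψ') : ψ = ψ' := by
  obtain ⟨⟩ := le
  have h1 : 𝒳.p.map ψ = 𝒳.p.map ψ' := by
    refine hom_ext_cov (𝒳.p.map e) hcov ?_
    rw [← Functor.map_comp, ← Functor.map_comp, h]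
  exact (glue_single h𝒳 e hcov (𝒳.p.map ψ) (e ≫ ψ) (Functor.map_comp _ _ _)
    (fun c c' hcc => by rw [← Category.assoc, hcc, Category.assoc])).unique ⟨rfl, rfl⟩ ⟨h1.symm, h.symm⟩

end Glue

section Pt

variable {S : Scheme.{u}} {G X : Over S} [GrpObj G] {aX : AlgGrp.Action G X}
  {A B : (QuotSt Scheme.fppfPrecoverage G aX).obj}

theorem exists_opn (A : (QuotSt Scheme.fppfPrecoverage G aX).obj) {T : Over S} (p : T ⟶ A.P) (x : T ⟶ X)
    (hx : p ≫ A.φ = x) : ∃ k : tx aX x ⟶ A, k.base = p ≫ A.π ∧ uno aX x ≫ k.top = p := by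
  subst hx
  exact exists_ofPt A p

/-- the arrow attached to a point of the torsor -/
noncomputable def opn (A : (QuotSt Scheme.fppfPrecoverage G aX).obj) {T : Over S} (p : T ⟶ A.P) (x : T ⟶ X)
    (hx : p ≫ A.φ = x) : tx aX x ⟶ A := (exists_opn A p x hx).choose

theorem opn_base {T : Over S} (p : T ⟶ A.P) (x : T ⟶ X) (hx : p ≫ A.φ = x) : (opn A p x hx).base = p ≫ A.π :=
  (exists_opn A p x hx).choose_spec.1

theorem uno_opn {T : Over S} (p : T ⟶ A.P) (x : T ⟶ X) (hx : p ≫ A.φ = x) : uno aX x ≫ (opn A p x hx).top = p :=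
  (exists_opn A p x hx).choose_spec.2

theorem ext_uno {T : Over S} {x : T ⟶ X} {k k' : tx aX x ⟶ B} (h : uno aX x ≫ k.top = uno aX x ≫ k'.top) : k = k' :=
  hom_ext_of_section (uno aX x) (uno_π aX x) h

theorem opn_congr {T : Over S} {p p' : T ⟶ A.P} {x : T ⟶ X} (hx : p ≫ A.φ = x) (hx' : p' ≫ A.φ = x) (h : p = p') :
    opn A p x hx = opn A p' x hx' := by
  subst h; rfl

theorem ar_opn {T T' : Over S} (p : T ⟶ A.P) (x : T ⟶ X) (hx : p ≫ A.φ = x) (x' : T' ⟶ X) (m : T' ⟶ T)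
    (g : T' ⟶ G) (e : act aX g (m ≫ x) = x') (h' : act A.act g (m ≫ p) ≫ A.φ = x') :
    ar x' x m g e ≫ opn A p x hx = opn A (act A.act g (m ≫ p)) x' h' := by
  apply ext_uno
  rw [uno_opn]
  change uno aX x' ≫ (ar x' x m g e).top ≫ (opn A p x hx).top = _
  rw [← Category.assoc, uno_ar, act_eqv _ _ _ (opn A p x hx).eqv, Category.assoc, uno_opn]

theorem opn_comp {T : Over S} (p : T ⟶ A.P) (x : T ⟶ X) (hx : p ≫ A.φ = x) (χ : A ⟶ B)
    (h' : (p ≫ χ.top) ≫ B.φ = x) : opn A p x hx ≫ χ = opn B (p ≫ χ.top) x h' := by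
  apply ext_uno
  rw [uno_opn]
  change uno aX x ≫ (opn A p x hx).top ≫ χ.top = _
  rw [← Category.assoc, uno_opn]

theorem top_φ (χ : A ⟶ B) : χ.top ≫ B.φ = A.φ := χ.wφ

end Pt

section Main

variable {S : Scheme.{u}} {G X : Over S} [GrpObj G] {aX : AlgGrp.Action G X}
  {𝒳 : BasedCategory.{u, w} (Over S)} (h𝒳 : Stk.IsPrestack (AlgSp.J S) 𝒳)
  {f : QuotSt Scheme.fppfPrecoverage G aX ⥤ᵇ 𝒳} {ζ : 𝒳.obj}
  {L P : Over S} {j : L ⟶ X} {π : P ⟶ L} {u : f.obj (tx aX (π ≫ j)) ⟶ ζ} (hu : IsUni f j π u)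
  (aL : AlgGrp.Action G L) (hj : aL.act ≫ j = (G ◁ j) ≫ aX.act)

/-- the image of the arrow attached to a point -/
noncomputable def fo (f : QuotSt Scheme.fppfPrecoverage G aX ⥤ᵇ 𝒳) (A : (QuotSt Scheme.fppfPrecoverage G aX).obj)
    {T : Over S} (p : T ⟶ A.P) (x : T ⟶ X) (hx : p ≫ A.φ = x) : f.obj (tx aX x) ⟶ f.obj A := f.map (opn A p x hx)

theorem fo_congr {A : (QuotSt Scheme.fppfPrecoverage G aX).obj} {T : Over S} {p p' : T ⟶ A.P} {x : T ⟶ X}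
    (hx : p ≫ A.φ = x) (hx' : p' ≫ A.φ = x) (h : p = p') : fo f A p x hx = fo f A p' x hx' := by
  subst h; rfl

theorem fr_fo {A : (QuotSt Scheme.fppfPrecoverage G aX).obj} {T T' : Over S} (p : T ⟶ A.P) (x : T ⟶ X)
    (hx : p ≫ A.φ = x) (x' : T' ⟶ X) (m : T' ⟶ T) (g : T' ⟶ G) (e : act aX g (m ≫ x) = x') (p' : T' ⟶ A.P)
    (h : act A.act g (m ≫ p) = p') (h' : p' ≫ A.φ = x') :
    fr f x' x m g e ≫ fo f A p x hx = fo f A p' x' h' := by
  subst h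
  unfold fr fo
  rw [← f.toFunctor.map_comp, ar_opn]

theorem fo_comp {A B : (QuotSt Scheme.fppfPrecoverage G aX).obj} {T : Over S} (p : T ⟶ A.P) (x : T ⟶ X)
    (hx : p ≫ A.φ = x) (χ : A ⟶ B) (h' : (p ≫ χ.top) ≫ B.φ = x) :
    fo f A p x hx ≫ f.map χ = fo f B (p ≫ χ.top) x h' := by
  unfold fo
  rw [← f.toFunctor.map_comp, opn_comp]

theorem fo_lift {A : (QuotSt Scheme.fppfPrecoverage G aX).obj} {T : Over S} (p : T ⟶ A.P) (x : T ⟶ X)
    (hx : p ≫ A.φ = x) : 𝒳.p.IsHomLift (p ≫ A.π) (fo f A p x hx) := by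
  have h1 : (QuotSt Scheme.fppfPrecoverage G aX).p.IsHomLift (p ≫ A.π) (opn A p x hx) := by
    rw [← opn_base p x hx]
    exact IsHomLift.map (QuotSt Scheme.fppfPrecoverage G aX).p (opn A p x hx)
  exact BasedFunctor.preserves_isHomLift f _ _

/-- **An arrow `f(A) ⟶ ζ` gives an equivariant map to `P`.** -/
theorem exists_M (A : (QuotSt Scheme.fppfPrecoverage G aX).obj) (l : A.P ⟶ L) (hl : l ≫ j = A.φ) [Mono j]
    (κ : f.obj A ⟶ ζ) : ∃ M : A.P ⟶ P, M ≫ π = l ∧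
      (∀ {T : Over S} (p : T ⟶ A.P) (x : T ⟶ X) (hx : p ≫ A.φ = x) (hx' : (p ≫ M) ≫ π ≫ j = x),
        kp u (p ≫ M) x hx' = fo f A p x hx ≫ κ) ∧
      A.act.act ≫ M = (G ◁ M) ≫ (aP hu aL hj).act := by
  obtain ⟨M, hM1, hM2⟩ := hu.sur l A.φ hl (fo f A (𝟙 _) A.φ (Category.id_comp _) ≫ κ)
  have hM3 : M ≫ π ≫ j = A.φ := by rw [← Category.assoc, hM1, hl]
  have key : ∀ {T : Over S} (p : T ⟶ A.P) (x : T ⟶ X) (hx : p ≫ A.φ = x) (hx' : (p ≫ M) ≫ π ≫ j = x),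
        kp u (p ≫ M) x hx' = fo f A p x hx ≫ κ := by
    intro T p x hx hx'
    rw [← fr_kp u M A.φ hM3 (p ≫ M) x hx' p rfl (by rw [act_one]; exact hx), hM2, ← Category.assoc,
      fr_fo (𝟙 A.P) A.φ (Category.id_comp _) x p 1 _ p (by rw [act_one, Category.comp_id]) hx]
  have hleqv : A.act.act ≫ l = (G ◁ l) ≫ aL.act := by
    rw [← cancel_mono j, Category.assoc, Category.assoc, hj, hl, A.eqv, ← hl, MonoidalCategory.whiskerLeft_comp,
      Category.assoc]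
  refine ⟨M, hM1, key, ?_⟩
  apply eqv_of_act
  intro T g p
  rw [act_aP]
  have e1 : (act A.act g p ≫ M) ≫ π ≫ j = act aX g (p ≫ A.φ) := by
    rw [Category.assoc, hM3, act_eqv _ _ _ A.eqv]
  have e2 : gpt hu aL hj g (p ≫ M) ≫ π ≫ j = act aX g (p ≫ A.φ) := by
    rw [gpt_j, Category.assoc, hM3]
  refine hu.inj _ _ _ e1 e2 ?_ ?_
  · rw [gpt_π, Category.assoc, Category.assoc, hM1, act_eqv _ _ _ hleqv]
  · rw [key (act A.act g p) _ (by rw [act_eqv _ _ _ A.eqv]) e1,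
      kp_gpt hu aL hj g (p ≫ M) (p ≫ A.φ) _ (by rw [Category.assoc, hM3]) e2 (by rw [Category.id_comp]),
      key p (p ≫ A.φ) rfl, ← Category.assoc,
      fr_fo p (p ≫ A.φ) rfl _ (𝟙 T) g _ (act A.act g p) (by rw [Category.id_comp]) (by rw [act_eqv _ _ _ A.eqv])]

variable {T₀ : Over S} {π₀ : P ⟶ T₀} (hc : IsPullback (aP hu aL hj).act (snd G P) π₀ π₀)
  (hl : NonAbH1.IsLocallyTrivialFor Scheme.fppfPrecoverage (Over.mk π₀.left : Over T₀.left))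

/-- the universal object -/
noncomputable def W₀ : (QuotSt Scheme.fppfPrecoverage G aX).obj where
  base := T₀
  P := P
  act := aP hu aL hj
  π := π₀
  cart := hc
  loc := hl
  φ := π ≫ j
  eqv := by
    rw [← Category.assoc, eqv_π, Category.assoc, hj, MonoidalCategory.whiskerLeft_comp, Category.assoc]

theorem W₀_base : (W₀ hu aL hj hc hl).base = T₀ := rfl

include h𝒳 in
/-- the universal arrow -/
theorem exists_κ₀ : ∃ κ₀ : f.obj (W₀ hu aL hj hc hl) ⟶ ζ,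
    ∀ {T : Over S} (p : T ⟶ P) (x : T ⟶ X) (hx : p ≫ π ≫ j = x),
      fo f (W₀ hu aL hj hc hl) p x hx ≫ κ₀ = kp u p x hx := by
  let W := W₀ hu aL hj hc hl
  let e := fo f W (𝟙 P) (π ≫ j) (Category.id_comp _)
  have le : 𝒳.p.IsHomLift π₀ e := by
    have h1 := fo_lift (f := f) (A := W) (𝟙 P) (π ≫ j) (Category.id_comp _)
    have h2 : 𝟙 P ≫ W.π = π₀ := Category.id_comp _
    rw [h2] at h1
    exact h1
  have hcov : Sieve.generate (Presieve.singleton π₀) ∈ AlgSp.J S T₀ := K745.QuotDesc.mem_J_of_locallyTrivial π₀ hl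
  obtain ⟨g, hg, -⟩ := desc_hom π₀ hcov (qb u) (fun {R} a b hab => by
    obtain ⟨γ, hγ, -⟩ := existsUnique_act (aP hu aL hj) hc a b hab.symm
    rw [← hγ, act_qb])
  have lu : 𝒳.p.IsHomLift (π₀ ≫ g) u := by rw [hg]; exact qb_lift u
  have he : ∀ {T : Over S} (p : T ⟶ P) (x : T ⟶ X) (hx : p ≫ π ≫ j = x) (e1 : act aX 1 (p ≫ π ≫ j) = x),
      fr f x (π ≫ j) p 1 e1 ≫ e = fo f W p x hx := by
    intro T p x hx e1
    exact fr_fo (A := W) (𝟙 P) (π ≫ j) (Category.id_comp _) x p 1 e1 p (by rw [act_one, Category.comp_id]) hx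
  obtain ⟨κ₀, ⟨-, hκ⟩, -⟩ := glue_lift h𝒳 π₀ e le hcov g u lu (by
    intro w c c' hcc
    let t : 𝒳.p.obj w ⟶ P := 𝒳.p.map c ≫ eqToHom (f.w_obj (tx aX (π ≫ j)))
    let t' : 𝒳.p.obj w ⟶ P := 𝒳.p.map c' ≫ eqToHom (f.w_obj (tx aX (π ≫ j)))
    have lt : 𝒳.p.IsHomLift t c := IsHomLift.of_fac' 𝒳.p _ _ rfl (f.w_obj (tx aX (π ≫ j))) (by simp [t])
    have lt' : 𝒳.p.IsHomLift t' c' := IsHomLift.of_fac' 𝒳.p _ _ rfl (f.w_obj (tx aX (π ≫ j))) (by simp [t'])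
    have e1 : act aX 1 (t ≫ π ≫ j) = t ≫ π ≫ j := act_one _ _
    have e1' : act aX 1 (t' ≫ π ≫ j) = t' ≫ π ≫ j := act_one _ _
    have l1 := fr_lift f _ (π ≫ j) t 1 e1
    have l1' := fr_lift f _ (π ≫ j) t' 1 e1'
    obtain ⟨i, hi, hi'⟩ := K737.Core.exists_iso_of_lifts h𝒳.1 t c (fr f _ (π ≫ j) t 1 e1)
    obtain ⟨i₂, hi₂, hi₂'⟩ := K737.Core.exists_iso_of_lifts h𝒳.1 t' c' (fr f _ (π ≫ j) t' 1 e1')
    have ll : 𝒳.p.IsHomLift (t ≫ π₀) (c ≫ e) := inferInstance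
    have ll' : 𝒳.p.IsHomLift (t' ≫ π₀) (c' ≫ e) := inferInstance
    rw [← hcc] at ll'
    have hb : t' ≫ π₀ = t ≫ π₀ := eq_of_lifts ll' ll
    obtain ⟨γ, hγ, -⟩ := existsUnique_act (aP hu aL hj) hc t t' hb
    rw [act_aP] at hγ
    have hx' : act aX γ (𝟙 _ ≫ (t ≫ π ≫ j)) = t' ≫ π ≫ j := by
      rw [Category.id_comp, ← gpt_j hu aL hj, hγ]
    have h3 : fr f (t' ≫ π ≫ j) (t ≫ π ≫ j) (𝟙 _) γ hx' ≫ fo f W t (t ≫ π ≫ j) rfl = fo f W t' (t' ≫ π ≫ j) rfl :=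
      fr_fo (A := W) t (t ≫ π ≫ j) rfl _ (𝟙 _) γ hx' t' (by
        rw [Category.id_comp, ← hγ]
        exact act_aP hu aL hj γ t) rfl
    have l3 := fr_lift f (t' ≫ π ≫ j) (t ≫ π ≫ j) (𝟙 _) γ hx'
    have h4 : i.hom = i₂.hom ≫ fr f (t' ≫ π ≫ j) (t ≫ π ≫ j) (𝟙 _) γ hx' := by
      refine K734.Fib.fac_unique' h𝒳.1 (fo f W t (t ≫ π ≫ j) rfl) hi ?_ ?_
      · infer_instance
      · have k1 : i.hom ≫ fo f W t (t ≫ π ≫ j) rfl = c ≫ e :=
          (congrArg (fun k => i.hom ≫ k) (he t _ rfl e1).symm).trans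
            ((Category.assoc _ _ _).symm.trans (congrArg (fun k => k ≫ e) hi'))
        have k2 : i₂.hom ≫ fo f W t' (t' ≫ π ≫ j) rfl = c' ≫ e :=
          (congrArg (fun k => i₂.hom ≫ k) (he t' _ rfl e1').symm).trans
            ((Category.assoc _ _ _).symm.trans (congrArg (fun k => k ≫ e) hi₂'))
        exact k1.trans (hcc.trans (k2.symm.trans ((congrArg (fun k => i₂.hom ≫ k) h3.symm).trans
          (Category.assoc _ _ _).symm)))
    have h5 : kp u t' (t' ≫ π ≫ j) rfl = fr f (t' ≫ π ≫ j) (t ≫ π ≫ j) (𝟙 _) γ hx' ≫ kp u t (t ≫ π ≫ j) rfl := by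
      rw [← kp_gpt hu aL hj γ t (t ≫ π ≫ j) (t' ≫ π ≫ j) rfl (by rw [hγ]) hx']
      exact kp_congr u _ _ hγ.symm
    have k3 : c ≫ u = i.hom ≫ kp u t (t ≫ π ≫ j) rfl :=
      (congrArg (fun k => k ≫ u) hi'.symm).trans (Category.assoc _ _ _)
    have k4 : c' ≫ u = i₂.hom ≫ kp u t' (t' ≫ π ≫ j) rfl :=
      (congrArg (fun k => k ≫ u) hi₂'.symm).trans (Category.assoc _ _ _)
    refine k3.trans (Eq.trans ?_ k4.symm)
    exact (congrArg (fun k => k ≫ kp u t (t ≫ π ≫ j) rfl) h4).trans ((Category.assoc _ _ _).trans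
      (congrArg (fun k => i₂.hom ≫ k) h5.symm)))
  refine ⟨κ₀, fun {T} p x hx => ?_⟩
  rw [← he p x hx (by rw [act_one]; exact hx), Category.assoc, hκ]
  rfl

include h𝒳 in
/-- **the universal property.** -/
theorem existsUnique_χ (κ₀ : f.obj (W₀ hu aL hj hc hl) ⟶ ζ)
    (hκ₀ : ∀ {T : Over S} (p : T ⟶ P) (x : T ⟶ X) (hx : p ≫ π ≫ j = x),
      fo f (W₀ hu aL hj hc hl) p x hx ≫ κ₀ = kp u p x hx) [Mono j]
    (A : (QuotSt Scheme.fppfPrecoverage G aX).obj) (l : A.P ⟶ L) (hl' : l ≫ j = A.φ) (κ : f.obj A ⟶ ζ) :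
    ∃! χ : A ⟶ W₀ hu aL hj hc hl, f.map χ ≫ κ₀ = κ := by
  let W := W₀ hu aL hj hc hl
  obtain ⟨M, hM1, hM2, hM3⟩ := exists_M hu aL hj A l hl' κ
  have hcov : Sieve.generate (Presieve.singleton A.π) ∈ AlgSp.J S A.base :=
    K745.QuotDesc.mem_J_of_locallyTrivial A.π A.loc
  obtain ⟨m, hm, -⟩ := desc_hom A.π hcov (M ≫ π₀) (fun {R} a b hab => by
    obtain ⟨γ, hγ, -⟩ := existsUnique_act A.act A.cart a b hab.symm
    rw [← hγ, ← Category.assoc, ← Category.assoc, act_eqv _ _ _ hM3, act_comp_π _ hc])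
  have hφ : M ≫ π ≫ j = A.φ := by rw [← Category.assoc, hM1, hl']
  have hsub : (QuotSh.J Scheme.fppfPrecoverage S).Subcanonical := inferInstance
  let χ : A ⟶ W :=
    { base := m
      top := M
      eqv := hM3
      cart := K824.BalProd.cart_of_eqv (K := Scheme.fppfPrecoverage) A.cart hc A.loc hM3 hm.symm
      wφ := hφ }
  have le : 𝒳.p.IsHomLift A.π (fo f A (𝟙 A.P) A.φ (Category.id_comp _)) := by
    have h1 := fo_lift (f := f) (A := A) (𝟙 A.P) A.φ (Category.id_comp _)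
    rwa [Category.id_comp] at h1
  have hφ' : ∀ χ' : A ⟶ W, (𝟙 A.P ≫ χ'.top) ≫ π ≫ j = A.φ := fun χ' => by
    rw [Category.id_comp]
    exact χ'.wφ
  have hfo : ∀ χ' : A ⟶ W, fo f A (𝟙 A.P) A.φ (Category.id_comp _) ≫ f.map χ' ≫ κ₀ =
      kp u (𝟙 A.P ≫ χ'.top) A.φ (hφ' χ') := by
    intro χ'
    rw [← Category.assoc, fo_comp (𝟙 A.P) A.φ (Category.id_comp _) χ' (hφ' χ')]
    exact hκ₀ _ _ _
  refine ⟨χ, ?_, ?_⟩
  · refine ext_cov h𝒳 A.π _ le hcov ?_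
    rw [hfo χ]
    exact hM2 (𝟙 A.P) A.φ (Category.id_comp _) (hφ' χ)
  · intro χ' hχ'
    have h1 : kp u (𝟙 A.P ≫ χ'.top) A.φ (hφ' χ') = kp u (𝟙 A.P ≫ M) A.φ (hφ' χ) := by
      rw [← hfo χ', hχ']
      exact (hM2 (𝟙 A.P) A.φ (Category.id_comp _) (hφ' χ)).symm
    have h2 : 𝟙 A.P ≫ χ'.top = 𝟙 A.P ≫ M := by
      refine hu.inj _ _ _ (hφ' χ') (hφ' χ) ?_ h1
      rw [← cancel_mono j]
      exact (Category.assoc _ _ _).trans ((hφ' χ').trans ((hφ' χ).symm.trans (Category.assoc _ _ _).symm))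
    rw [Category.id_comp, Category.id_comp] at h2
    apply QuotObj.hom_ext
    · refine hom_ext_cov A.π hcov ?_
      rw [← χ'.cart.w, h2]
      exact hm.symm
    · exact h2

end Main

end K737.UniTors
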