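import Groth.Agent.AlgSt.K734.Boot
import Groth.Agent.AlgSt.K737.OpenSt
import Groth.Agent.Gerb.K895.Fppf
import Groth.Agent.S10104
import Groth.Agent.AlgSp.K610.ZarGlue
import Groth.Agent.AlgSt.K735.PtsSp
/-!
# Algebraic stacks covered by open substacks which are algebraic spaces or schemes (helper737)
-/

set_option autoImplicit false
set_option backward.isDefEq.respectTransparency false
set_option backward.isDefEq.respectTransparency.types false

universe w' v₁ w₁ w v u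

open CategoryTheory CategoryTheory.Limits AlgebraicGeometry Opposite K737.Core K737.SubRep K737.Pts K737.Open K737.OpenSt

namespace K737.Union

variable {S : Scheme.{u}} {𝒳 : AlgSt.Cat S}

/-- being fibred in setoids can be checked on a covering by open substacks. -/
theorem isFibSetoid_of_cover (h𝒳 : Stk.IsStack (QuotSh.J Scheme.fppfPrecoverage S) 𝒳) {ι : Type w} (Q : ι → 𝒳.obj → Prop)
    (hQ : ∀ i, ObjectProperty.IsClosedUnderIsomorphisms (Q i)) (H : ∀ i, HasLoci @IsOpenImmersion (Q i))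
    (hcov : ∀ x : AlgSt.Points 𝒳, ∃ i, x ∈ Set.range (AlgSt.Points.map (AlgSt.subIncl 𝒳 (Q i))))
    (hs : ∀ i, FibCat.IsFibSetoid (AlgSt.fullSub 𝒳 (Q i)).p) : FibCat.IsFibSetoid 𝒳.p := by
  have hG := h𝒳.1
  refine K735.Setoid.isFibSetoid_of_hom_ext hG fun {a b} φ ψ e => ?_
  obtain ⟨y, ε, hε⟩ := exists_yo hG a rfl
  choose Z j hj hl using fun i => H i (𝒳.p.obj a) y
  let R : Sieve (𝒳.p.obj a) :=
    { arrows := fun V g => ∃ i, Q i (y.obj (Over.mk g))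
      downward_closed := by
        rintro V W g ⟨i, hi⟩ h
        refine ⟨i, (H i).of_hom hG (hQ i) (y.map (Over.homMk h : Over.mk (h ≫ g) ⟶ Over.mk g)) hi⟩ }
  have hx : ∀ t : (𝒳.p.obj a).left, ∃ i, t ∈ Set.range (j i).left := by
    intro t
    obtain ⟨i, hi⟩ := hcov (AlgSt.Points.ofChart y t)
    exact ⟨i, ((H i).ofChart_mem_range_iff openImm_le_mono hG (hQ i) y (j i) (hj i) (hl i) t).1 hi⟩
  choose i hi using hx
  have hR : R ∈ QuotSh.J Scheme.fppfPrecoverage S (𝒳.p.obj a) := by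
    refine K895.Fppf.mem_of_family (I := ULift.{u+1} (𝒳.p.obj a).left) (fun t => Z (i t.down)) (fun t => j (i t.down))
      (fun t => ⟨i t.down, (hl _ _).2 ⟨𝟙 _, Category.id_comp _⟩⟩) (fun t => ?_) (fun t => ?_) (fun t => ⟨⟨t⟩, hi t⟩)
    · have := hj (i t.down)
      infer_instance
    · have := hj (i t.down)
      infer_instance
  refine (K751.Test.glueFrom_of_isPrestack (K751.Test.isPrestack_of_isStack h𝒳) a R hR).ext e fun z c hc => ?_
  obtain ⟨k, hk⟩ := hc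
  have hz : Q k z := by
    have : 𝒳.p.IsHomLift (𝒳.p.map c) c := inferInstance
    have h1 : 𝒳.p.IsHomLift (𝒳.p.map c) (toBase y (Over.mk (𝒳.p.map c))) := toBase_isHomLift y (Over.mk (𝒳.p.map c))
    obtain ⟨e', -, -⟩ := exists_iso_of_lifts hG (𝒳.p.map c) (toBase y (Over.mk (𝒳.p.map c)) ≫ ε.hom) c
    exact (hQ k).of_iso e' hk
  obtain ⟨χ, h3, h4⟩ := K735.Fib.exists_hom hG (c ≫ φ) (c ≫ ψ) (𝟙 _) (by simp [e])
  have h5 : (⟨χ⟩ : (⟨z, hz⟩ : (AlgSt.fullSub 𝒳 (Q k)).obj) ⟶ ⟨z, hz⟩) =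
      𝟙 (⟨z, hz⟩ : (AlgSt.fullSub 𝒳 (Q k)).obj) :=
    K735.Setoid.hom_ext_of_isFibSetoid (hs k) _ _ (by
      change 𝒳.p.map χ = 𝒳.p.map (𝟙 z)
      rw [h3, 𝒳.p.map_id])
  have h6 : χ = 𝟙 z := congrArg (fun m => InducedCategory.Hom.hom m) h5
  rw [← h4, h6, Category.id_comp]

theorem boot (S : Scheme.{u}) : K734.Rep.Boot S := fun F U p hp => Groth.Agent.S10104.result S F U p hp

theorem isFibSetoid_iff (h𝒳 : AlgSt.IsAlgStack Scheme.fppfPrecoverage 𝒳) :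
    FibCat.IsFibSetoid 𝒳.p ↔ AlgSt.RepByAlgSp 𝒳 := K734.Rep.isFibSetoid_iff_repByAlgSp (boot S) h𝒳

theorem cov_iff {ι : Type w} (Q : ι → 𝒳.obj → Prop) :
    ⋃ i, Set.range (AlgSt.Points.map (AlgSt.subIncl 𝒳 (Q i))) = Set.univ ↔
      ∀ x : AlgSt.Points 𝒳, ∃ i, x ∈ Set.range (AlgSt.Points.map (AlgSt.subIncl 𝒳 (Q i))) := by
  rw [Set.eq_univ_iff_forall]
  simp only [Set.mem_iUnion]

/-- S12863. -/
theorem repByAlgSp_of_cover (h𝒳 : AlgSt.IsAlgStack Scheme.fppfPrecoverage 𝒳) {ι : Type w} (Q : ι → 𝒳.obj → Prop)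
    (hQ : ∀ i, AlgSt.IsOpenSubstack 𝒳 (Q i) Scheme.fppfPrecoverage)
    (hcov : ⋃ i, Set.range (AlgSt.Points.map (AlgSt.subIncl 𝒳 (Q i))) = Set.univ)
    (hsp : ∀ i, AlgSt.RepByAlgSp (AlgSt.fullSub 𝒳 (Q i))) : AlgSt.RepByAlgSp 𝒳 :=
  (isFibSetoid_iff h𝒳).1 (isFibSetoid_of_cover h𝒳.isStack Q (fun i => ((isOpenSubstack_iff h𝒳 _).1 (hQ i)).1)
    (fun i => ((isOpenSubstack_iff h𝒳 _).1 (hQ i)).2) ((cov_iff Q).1 hcov)
    (fun i => K734.Rep.isFibSetoid_of_repByAlgSp (hsp i)))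

/-- a morphism of sheaves which is representable by algebraic spaces with property `RepWith P` has `RepWith P`. -/
theorem repWith_of_repBySpWith {P : MorphismProperty Scheme.{u}} {F G : AlgSp.Sp S} {a : F ⟶ G}
    (h : AlgSp.RepBySpWith (AlgSp.RepWith P) a.hom) : AlgSp.RepWith P a := by
  have key : ∀ {T : Over S} (ξ : (AlgSp.yon S).obj T ⟶ G), AlgSp.RepWith P (pullback.snd a ξ) := by
    intro T ξ
    have sq : IsPullback (pullback.fst a ξ) (pullback.snd a ξ) a ξ := IsPullback.of_hasPullback a ξ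
    obtain ⟨h1, h2, h3⟩ := h ξ.hom (pullback.fst a ξ).hom (pullback.snd a ξ).hom
      (sq.map (sheafToPresheaf (AlgSp.J S) (Type (u+1))))
    exact h3
  constructor
  · intro T ξ
    obtain ⟨V, v, fst, sq⟩ := (key ξ).1 (𝟙 _)
    refine ⟨V, v, fst ≫ pullback.fst a ξ, ?_⟩
    simpa only [Category.id_comp] using sq.paste_horiz (IsPullback.of_hasPullback a ξ)
  · intro T V ξ fst v sq
    have sqP := IsPullback.of_hasPullback a ξ
    refine (key ξ).2 (𝟙 _) (sqP.lift fst ((AlgSp.yon S).map v) sq.w) v ?_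
    refine IsPullback.of_right (h₁₂ := pullback.fst a ξ) (v₁₃ := a) (h₂₂ := ξ) ?_ ?_ sqP
    · simpa only [Category.id_comp, IsPullback.lift_fst] using sq
    · rw [IsPullback.lift_snd, Category.comp_id]

/-- S12864. -/
theorem isRepresentable_of_cover (h𝒳 : AlgSt.IsAlgStack Scheme.fppfPrecoverage 𝒳) {ι : Type w} (Q : ι → 𝒳.obj → Prop)
    (hQ : ∀ i, AlgSt.IsOpenSubstack 𝒳 (Q i) Scheme.fppfPrecoverage)
    (hcov : ⋃ i, Set.range (AlgSt.Points.map (AlgSt.subIncl 𝒳 (Q i))) = Set.univ)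
    (hsch : ∀ i, FibCat.IsRepresentable (AlgSt.fullSub 𝒳 (Q i))) : FibCat.IsRepresentable 𝒳 := by
  have hinv : ∀ i, ∃ (U : Over S) (G : FibCat.overCat U ⥤ᵇ AlgSt.fullSub 𝒳 (Q i)), FibCat.IsEquivOver G := by
    intro i
    obtain ⟨U, F, hF⟩ := hsch i
    obtain ⟨G, hG, -, -⟩ := K734.Fib.exists_inverse hF
    exact ⟨U, G, hG⟩
  choose U G hG using hinv
  obtain ⟨X, e, he⟩ := repByAlgSp_of_cover h𝒳 Q hQ hcov (fun i =>
    ⟨⟨(AlgSp.yon S).obj (U i), AlgSp.IsAlgSpace.yon_obj (U i)⟩, BasedFunctor.comp (AlgSt.toOverCat (U i)) (G i),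
      K734.Fib.isEquivOver_comp (K735.Rep.isEquivOver_toOverCat (U i)) (hG i)⟩)
  obtain ⟨e', he', ⟨i1⟩, ⟨i2⟩⟩ := K734.Fib.exists_inverse he
  -- the open immersions `h_{U_i} ⟶ X`
  let Φ : ∀ i, AlgSt.ofSp ((AlgSp.yon S).obj (U i)) ⥤ᵇ AlgSt.ofSp X.obj := fun i =>
    BasedFunctor.comp (AlgSt.toOverCat (U i)) (BasedFunctor.comp (G i)
      (BasedFunctor.comp (AlgSt.subIncl 𝒳 (Q i)) e'))
  choose p hp using fun i => K734.Rep.exists_ofSpMap (Φ i)
  have hopen : ∀ i, AlgSp.RepWith @IsOpenImmersion (p i) := by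
    intro i
    obtain ⟨j⟩ := hp i
    have h1 : AlgSt.RepByAlgSpWith (AlgSp.RepWith @IsOpenImmersion) (Stk.ofPshMap (p i).hom) := by
      change AlgSt.RepByAlgSpWith (AlgSp.RepWith @IsOpenImmersion) (AlgSt.ofSpMap (p i))
      rw [← K734.Rep.repByAlgSpWith_iff_of_iso j]
      change AlgSt.RepByAlgSpWith _ (BasedFunctor.comp (AlgSt.toOverCat (U i)) (BasedFunctor.comp (G i)
        (BasedFunctor.comp (AlgSt.subIncl 𝒳 (Q i)) e')))
      rw [K734.Rep.repByAlgSpWith_precomp_iff (K735.Rep.isEquivOver_toOverCat (U i)),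
        K734.Rep.repByAlgSpWith_precomp_iff (hG i), K734.Rep.repByAlgSpWith_postcomp_iff _ he']
      exact (hQ i).2.2
    exact repWith_of_repBySpWith ((K734.Rep.repBySpWith_iff _ _).2 h1)
  have hpts : ∀ x : AlgSp.Points X.obj, ∃ i, x ∈ Set.range (AlgSp.Points.map (p i)) := by
    intro x
    let x' := (K735.PtsSp.ptsEquiv X.obj).symm x
    obtain ⟨i, z, hz⟩ := (cov_iff Q).1 hcov (AlgSt.Points.map e x')
    obtain ⟨t, ht⟩ := (K735.Pts.map_bijective_of_isEquivOver (K734.Fib.isEquivOver_comp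
      (K735.Rep.isEquivOver_toOverCat (U i)) (hG i))).2 z
    obtain ⟨j⟩ := hp i
    refine ⟨i, K735.PtsSp.ptsEquiv _ t, ?_⟩
    rw [← K735.PtsSp.ptsEquiv_map, ← K735.Pts.map_congr j]
    have h1 : AlgSt.Points.map (Φ i) t = AlgSt.Points.map e' (AlgSt.Points.map (AlgSt.subIncl 𝒳 (Q i))
        (AlgSt.Points.map (BasedFunctor.comp (AlgSt.toOverCat (U i)) (G i)) t)) := by
      rw [← K735.Pts.map_comp, ← K735.Pts.map_comp]
      rfl
    rw [h1, ht, hz, ← K735.Pts.map_comp, K735.Pts.map_congr i1, K735.Pts.map_id, Equiv.apply_symm_apply]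
  obtain ⟨A, q, hq⟩ := K613.Chart.exists_ch X.property
  choose i hi using fun a : A.left => hpts (AlgSp.Points.ofPt q a)
  obtain ⟨H, ε, -⟩ := K610.ZarGlue.exists_iso_of_openCover (fun a => U (i a)) (fun a => p (i a))
    (fun a => hopen (i a)) (fun x => by
      obtain ⟨a, rfl⟩ := K609.Points.surjective_ofPt_of_repWith_surjective hq.surj x
      exact ⟨a, hi a⟩)
  -- `𝒳 ≅ ofSp X ≅ ofSp h_H ≅ (Sch/H)`
  exact ⟨H, BasedFunctor.comp e' (BasedFunctor.comp (AlgSt.ofSpMap ε.inv) (AlgSt.toOverCat H)),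
    K734.Fib.isEquivOver_comp he' (K734.Fib.isEquivOver_comp
      ((K734.Rep.isEquivOver_ofSpMap_iff ε.inv).2 inferInstance) (K735.Rep.isEquivOver_toOverCat H))⟩

end K737.Union
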