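import Groth.Agent.AlgSt.K737.ChartC
import Groth.Agent.AlgSt.K737.UniTors
import Groth.Agent.AlgSt.K737.AffAct

/-!
# The universal arrow when `f` is injective on the stabilizers of the points of `L`
-/

set_option autoImplicit false
set_option linter.unusedVariables false
set_option linter.style.haveILetI false
set_option backward.isDefEq.respectTransparency false
set_option backward.isDefEq.respectTransparency.types false
set_option linter.dupNamespace false
set_option linter.unusedSectionVars false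

universe w u

open CategoryTheory CategoryTheory.Limits MonoidalCategory CartesianMonoidalCategory MonObj GrpObj AlgebraicGeometry
open AlgSt K750.TorsPts K908.QuotPt K737.Uni K737.UniTors K737.FrPt K737.InvNbhd K737.Gal K737.FreeOrb K737.AffAct CoactBr
open HopfRep GLin
open scoped TensorProduct

namespace K737.UnivC

variable {k : Type u} [Field k] [IsAlgClosed k] {H : Type u} [CommRing H] [HopfAlgebra k H]
  [Algebra.FiniteType k H] (hG : IsLinearlyReductive k H)
  {X : Over (Spec (CommRingCat.of k))} {aX : AlgGrp.Action (sp k H) X}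
  {𝒳 : AlgSt.Cat (Spec (CommRingCat.of k))} (h𝒳 : Stk.IsPrestack (AlgSp.J (Spec (CommRingCat.of k))) 𝒳)
  {f : QuotSt Scheme.fppfPrecoverage (sp k H) aX ⥤ᵇ 𝒳} {ζ : 𝒳.obj}

include hG h𝒳

/-- **The universal arrow.** -/
theorem exists_universal {C : Type u} [CommRing C] [Algebra k C] [Algebra.FiniteType k C]
    {L : Over (Spec (CommRingCat.of k))} {j : L ⟶ X} [Mono j] {π : sp k C ⟶ L} {u : f.obj (tx aX (π ≫ j)) ⟶ ζ}
    (hu : IsUni f j π u) (aL : AlgGrp.Action (sp k H) L) (hj : aL.act ≫ j = (sp k H ◁ j) ≫ aX.act)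
    (hfr : ∀ (l₀ : sp k k ⟶ L) (R : Type u) [CommRing R] [Algebra k R], Fr f (pt (Algebra.ofId k R) ≫ l₀ ≫ j)) :
    ∃ (w : (QuotSt Scheme.fppfPrecoverage (sp k H) aX).obj) (κ₀ : f.obj w ⟶ ζ), IsAffine w.base.left ∧
      (∃ l : w.P ⟶ L, l ≫ j = w.φ) ∧ ∀ (A : (QuotSt Scheme.fppfPrecoverage (sp k H) aX).obj) (l : A.P ⟶ L),
        l ≫ j = A.φ → ∀ κ : f.obj A ⟶ ζ, ∃! χ : A ⟶ w, f.map χ ≫ κ₀ = κ := by
  obtain ⟨i₁, i₂, ha⟩ := exists_coaction (aP hu aL hj)
  have hst : ∀ (x : C →ₐ[k] k) (a : H), CoalgebraStruct.counit (R := k) a = 0 → a ∈ stabIdeal k H x := by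
    intro x
    apply stab_of_free
    intro R _ _ g hg
    rw [ha] at hg
    obtain ⟨e, he⟩ := fr_eq_id_of_fixed h𝒳.1 hu aL hj g (pt ((Algebra.ofId k R).comp x)) hg
      (pt (Algebra.ofId k R) ≫ (pt x ≫ π) ≫ j) (by
        rw [pt_comp]
        simp only [Category.assoc])
    exact hfr (pt x ≫ π) R g e he
  have hcan : Function.Surjective (can k H C) := surjective_can hG hst
  have hc := isPullback_of_canB (canB_bijective hG hcan)
  rw [ha] at hc
  have hl := isLocallyTrivial_of_flat hG (faithfullyFlat hG hcan)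
  obtain ⟨κ₀, hκ₀⟩ := exists_κ₀ h𝒳 hu aL hj hc hl
  refine ⟨W₀ hu aL hj hc hl, κ₀, ?_, ⟨π, rfl⟩, fun A l hl' κ => existsUnique_χ h𝒳 hu aL hj hc hl κ₀ hκ₀ A l hl' κ⟩
  exact inferInstanceAs (IsAffine (Spec (CommRingCat.of (invariants k H C))))

end K737.UnivC
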